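import Cfsg.Agent.Lib.Mathieu.Order7920.Three55

/-!
Simple groups of order 7920 have 55 Sylow 3-subgroups.
-/

set_option autoImplicit false

namespace CfsgLib.Mathieu.Order7920

open Subgroup MulAction
open scoped Classical

universe u

variable {G : Type u} [Group G] [Finite G]

local instance fact_prime_three_220 : Fact (Nat.Prime 3) := ⟨by norm_num⟩
local instance fact_prime_two_220 : Fact (Nat.Prime 2) := ⟨Nat.prime_two⟩

variable {T : Sylow 3 G}

omit [Finite G] in
theorem commute_of_sq {x v : G} (hx : x ^ 9 = 1) (h : Commute (x * x) v) : Commute x v := by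
  have : (x * x) ^ 5 = x := by
    rw [← sq, ← pow_mul, show 2 * 5 = 9 + 1 by norm_num, pow_succ, hx, one_mul]
  rw [← this]
  exact h.pow_left 5

/-- The parity condition on the cosets of a subgroup of index 55. -/
theorem parity_index_55 (hM : Cfsg.IsM11 G) {H : Subgroup G} (hH : Nat.card H = 144) {x : G}
    (hx : orderOf x = 2) :
    ∃ f, f % 4 = 3 ∧ f * 144 = Nat.card (centralizer ({x} : Set G)) * conjCount H x := by
  have := hM.1
  have hX : Nat.card (G ⧸ H) = 55 := by
    have := H.card_mul_index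
    rw [hH, hM.2] at this
    change H.index = 55
    omega
  have hx2 : x ^ 2 = 1 := by rw [← hx]; exact pow_orderOf_eq_one x
  have ⟨hd, hle⟩ := card_sub_fixCount (X := G ⧸ H) (noncomm hM) hx2
  refine ⟨fixCount (G ⧸ H) x, ?_, ?_⟩
  · rw [hX] at hd hle
    omega
  · rw [← hH]
    exact fix_mul_card H x

theorem orb_cases_small (hM : Cfsg.IsM11 G) (hN : Nat.card (sylN T) = 36) {t : G} (ht : t ∈ T)
    (ht1 : t ≠ 1) :
    (Nat.card (sylCN T t) = 9 * sylD T ∧ sylD T * orbCount T t = 4 ∧
        classCard t * twoCount t = 880) ∨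
      (Nat.card (sylCN T t) = 2 * (9 * sylD T) ∧ sylD T * orbCount T t = 2 ∧
        classCard t * twoCount t = 1760) := by
  obtain ⟨horb, -, -⟩ := orbCount_facts hM T ht ht1
  rw [hN] at horb
  rcases contribution hM T ht ht1 with ⟨h, h'⟩ | ⟨h, h'⟩
  · exact Or.inl ⟨h, by rw [h] at horb; linarith, h'⟩
  · exact Or.inr ⟨h, by rw [h] at horb; linarith, h'⟩

theorem orderOf_three_of_card (hM : Cfsg.IsM11 G) {t : G} (ht : t ∈ T) (ht1 : t ≠ 1)
    (h : Nat.card (centralizer ({t} : Set G)) ≠ 9 * sylD T) : orderOf t = 3 := by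
  by_contra h3
  exact h (by rw [centralizer_eq_of_orderOf_ne hM T ht ht1 h3, card_sylC hM T])

/-- The normaliser of `⟨t⟩` has twice the order of the centraliser. -/
theorem card_normalizer_zpowers (hM : Cfsg.IsM11 G) {t : G} (ht : t ∈ T) (h3 : orderOf t = 3)
    {c : G} (hc : c * t * c⁻¹ = t⁻¹) :
    c ∈ normalizer ((zpowers t : Subgroup G) : Set G) ∧ c ∉ centralizer ({t} : Set G) ∧
      centralizer ({t} : Set G) ≤ normalizer ((zpowers t : Subgroup G) : Set G) ∧
      Nat.card (normalizer ((zpowers t : Subgroup G) : Set G)) =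
        2 * Nat.card (centralizer ({t} : Set G)) := by
  set M := normalizer ((zpowers t : Subgroup G) : Set G) with hMdef
  have hCM : centralizer ({t} : Set G) ≤ M := fun x hx => by
    refine centralizer_le_normalizer _ (mem_centralizer_iff.2 ?_)
    rintro _ ⟨i, rfl⟩
    exact Commute.zpow_left (mem_centralizer_singleton_iff.1 hx).symm i
  have hcM : c ∈ M := by
    refine Subgroup.mem_normalizer_iff.2 fun x => ⟨?_, ?_⟩
    · rintro ⟨i, rfl⟩
      exact ⟨-i, by simp only; rw [← conj_zpow, hc, inv_zpow, zpow_neg]⟩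
    · rintro ⟨i, hi⟩
      refine ⟨-i, ?_⟩
      simp only at hi ⊢
      have h2 : c * t ^ (-i) * c⁻¹ = c * x * c⁻¹ := by
        rw [← conj_zpow, hc, inv_zpow, zpow_neg, inv_inv, hi]
      exact mul_left_cancel (mul_right_cancel h2)
  have hct : c ∉ centralizer ({t} : Set G) := fun h => by
    have h1 := mem_centralizer_singleton_iff.1 h
    have h2 : t⁻¹ = t := by rw [← hc, h1, mul_inv_cancel_right]
    have h3' : t ^ 2 = 1 := by rw [sq]; nth_rewrite 1 [← h2]; exact inv_mul_cancel t
    have := orderOf_dvd_of_pow_eq_one h3'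
    rw [h3] at this
    omega
  refine ⟨hcM, hct, hCM, ?_⟩
  -- the image in the automorphisms of `⟨t⟩` has order at most 2
  let φ := (zpowers t).normalizerMonoidHom
  have hker : Nat.card φ.ker = Nat.card (centralizer ({t} : Set G)) := by
    refine Nat.card_congr ⟨fun g => ⟨g.1.1, mem_centralizer_singleton_iff.2 ?_⟩,
      fun g => ⟨⟨g.1, hCM g.2⟩, ?_⟩, fun g => rfl, fun g => rfl⟩
    · have hg : φ g.1 = 1 := g.2
      have := congrArg (fun τ : MulAut (zpowers t) => ((τ ⟨t, mem_zpowers t⟩ : zpowers t) : G)) hg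
      exact mul_inv_eq_iff_eq_mul.1 this
    · refine MonoidHom.mem_ker.2 (MulEquiv.ext fun x => Subtype.ext ?_)
      show g.1 * (x : G) * g.1⁻¹ = x
      obtain ⟨i, hi⟩ := x.2
      simp only at hi
      rw [← hi, ← conj_zpow, mem_centralizer_singleton_iff.1 g.2, mul_inv_cancel_right]
  have hrange : Nat.card φ.range ≤ 2 := by
    refine (Subgroup.card_le_card_group _).trans (le_of_eq ?_)
    rw [IsCyclic.card_mulAut (zpowers t), Nat.card_zpowers, h3]
    decide
  have hmul : Nat.card φ.ker * Nat.card φ.range = Nat.card M := by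
    rw [← Subgroup.index_ker, Subgroup.card_mul_index]
  have hne : Nat.card φ.range ≠ 1 := fun h => by
    rw [h, mul_one, hker] at hmul
    exact hct ((Subgroup.eq_of_le_of_card_ge hCM hmul.ge).symm ▸ hcM)
  have hpos : 0 < Nat.card φ.range := Nat.card_pos
  rw [show Nat.card φ.range = 2 by omega, hker, mul_comm] at hmul
  exact hmul.symm

theorem sylD_small (hM : Cfsg.IsM11 G) (hN : Nat.card (sylN T) = 36) : sylD T = 1 ∨ sylD T = 2 := by
  obtain ⟨t, ht, ht1⟩ := exists_ne_one_sylow hM T
  obtain ⟨-, hO2, hO8⟩ := orbCount_facts hM T ht ht1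
  rcases orb_cases_small hM hN ht ht1 with ⟨-, h', -⟩ | ⟨-, h', -⟩
  · have : sylD T ≤ 2 := by
      have := Nat.mul_le_mul_left (sylD T) hO2
      omega
    have := sylD_pos T
    omega
  · have : sylD T ≤ 1 := by
      have := Nat.mul_le_mul_left (sylD T) hO2
      omega
    have := sylD_pos T
    omega

/-- The case `C(T) = T` with some class of size two in `T`. -/
theorem small_false_A (hM : Cfsg.IsM11 G) (hN : Nat.card (sylN T) = 36) (hD : sylD T = 1)
    {t : G} (ht : t ∈ T) (ht1 : t ≠ 1) (hO : orbCount T t = 2) : False := by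
  obtain ⟨v, hv⟩ := exists_isSquareInv hM
  have : Fintype (T : Subgroup G) := Fintype.ofFinite _
  obtain ⟨Ys, hYs, hYc, hcov, hsum, -⟩ := exists_reps hM T
  have hlin : ∀ z ∈ Ys, (orbCount T z = 2 ∨ orbCount T z = 4) ∧
      classCard z * twoCount z + 440 * orbCount T z = 2640 := by
    intro z hz
    rcases orb_cases_small hM hN (hYs z hz).1 (hYs z hz).2 with ⟨-, h', h''⟩ | ⟨-, h', h''⟩ <;>
      rw [hD] at h' <;> omega
  obtain ⟨y, hy, hyt⟩ := hcov t ht ht1
  have hOy : orbCount T y = 2 := by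
    rw [← hO]
    exact Nat.card_congr (Equiv.subtypeEquivRight fun x => and_congr_right fun _ =>
      ⟨fun h => hyt.symm.trans h, fun h => hyt.trans h⟩)
  -- a second class of size two
  obtain ⟨z, hz, hzy, hOz⟩ : ∃ z ∈ Ys, z ≠ y ∧ orbCount T z = 2 := by
    by_contra h
    push Not at h
    have hle : ∀ z ∈ Ys.erase y, orbCount T z = 4 := fun z hz =>
      ((hlin z (Finset.mem_of_mem_erase hz)).1).resolve_left
        (h z (Finset.mem_of_mem_erase hz) (Finset.ne_of_mem_erase hz))
    have := Finset.add_sum_erase _ (fun z => orbCount T z) hy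
    rw [hsum, hOy, Finset.sum_congr rfl hle, Finset.sum_const, smul_eq_mul] at this
    omega
  have hcard : 3 ≤ Ys.card := by
    by_contra hlt
    have hsub : ({y, z} : Finset G) ⊆ Ys := by
      intro w hw
      rcases Finset.mem_insert.1 hw with rfl | hw
      · exact hy
      · rw [Finset.mem_singleton.1 hw]; exact hz
    have heq : ({y, z} : Finset G) = Ys := Finset.eq_of_subset_of_card_le hsub
      (by rw [Finset.card_pair (Ne.symm hzy)]; omega)
    rw [← heq, Finset.sum_pair (Ne.symm hzy), hOy, hOz] at hsum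
    omega
  have htot : ∑ z ∈ Ys, (classCard z * twoCount z + 440 * orbCount T z) = Ys.card * 2640 := by
    rw [Finset.sum_congr rfl fun z hz => (hlin z hz).2, Finset.sum_const, smul_eq_mul]
  rw [Finset.sum_add_distrib, ← Finset.mul_sum, hsum] at htot
  have hv48 : Nat.card (centralizer ({v} : Set G)) = 48 := by
    have hb := budget_reps' hM T hv hYs hYc
    rcases classCard_square hM hv with ⟨-, h⟩ | ⟨h, -⟩
    · omega
    · exact h
  have hall : ∀ w, orderOf w = 2 → IsConj v w := by
    intro w hw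
    by_contra hwv
    have hb := budget_reps hM T hv hYs hYc hw hwv
    have := classCard_ge hM hw
    rcases classCard_square hM hv with ⟨-, h⟩ | ⟨-, h⟩ <;> omega
  -- conjugates of `⟨y⟩` and `⟨z⟩` in `C(v)`
  have hget : ∀ x ∈ Ys, orbCount T x = 2 →
      ∃ x', IsConj x x' ∧ orderOf x' = 3 ∧ x' ∈ centralizer ({v} : Set G) := by
    intro x hx hx2
    obtain ⟨hxT, hx1⟩ := hYs x hx
    obtain ⟨hCN, hCN'⟩ : Nat.card (sylCN T x) = 18 ∧ Nat.card (centralizer ({x} : Set G)) ≠ 9 := by
      rcases orb_cases_small hM hN hxT hx1 with ⟨-, h', -⟩ | ⟨h, -, -⟩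
      · rw [hD, hx2] at h'; omega
      · refine ⟨by rw [h, hD], fun e => ?_⟩
        have := Subgroup.card_le_of_le (inf_le_right : sylCN T x ≤ centralizer ({x} : Set G))
        rw [h, hD, e] at this
        omega
    have hx3 : orderOf x = 3 := orderOf_three_of_card hM hxT hx1 (by rw [hD]; exact hCN')
    obtain ⟨⟨w, hwmem⟩, hwo⟩ := exists_prime_orderOf_dvd_card' (G := sylCN T x) 2 (by rw [hCN]; norm_num)
    rw [orderOf_mk] at hwo
    obtain ⟨g, hg⟩ := isConj_iff.1 (hall w hwo).symm
    refine ⟨g * x * g⁻¹, isConj_iff.2 ⟨g, rfl⟩, by rw [← MulAut.conj_apply, MulEquiv.orderOf_eq, hx3], ?_⟩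
    rw [mem_centralizer_singleton_iff, ← hg]
    have hwx : w * x = x * w := mem_centralizer_singleton_iff.1 hwmem.2
    calc g * x * g⁻¹ * (g * w * g⁻¹) = g * (x * w) * g⁻¹ := by group
      _ = g * w * g⁻¹ * (g * x * g⁻¹) := by rw [← hwx]; group
  obtain ⟨y', hyy', hy3, hy'C⟩ := hget y hy hOy
  obtain ⟨z', hzz', hz3, hz'C⟩ := hget z hz hOz
  set H := centralizer ({v} : Set G)
  have hH : Nat.card H = 3 ^ 1 * 16 := by rw [show Nat.card H = 48 from hv48]; norm_num
  have hmk : ∀ x : H, orderOf x = 3 → ∃ Y : Sylow 3 H, (Y : Subgroup H) = zpowers x := by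
    intro x hx
    obtain ⟨Y, hY⟩ := (IsPGroup.of_card (p := 3) (n := 1)
      (by rw [Nat.card_zpowers, hx, pow_one] : Nat.card (zpowers x) = 3 ^ 1)).exists_le_sylow
    have hYc : Nat.card (Y : Subgroup H) = 3 := by
      simpa using CfsgLib.SmallGroups.card_sylow_eq hH (by norm_num) Y
    exact ⟨Y, (Subgroup.eq_of_le_of_card_ge hY (by rw [hYc, Nat.card_zpowers, hx])).symm⟩
  obtain ⟨Y, hY⟩ := hmk ⟨y', hy'C⟩ (by rw [orderOf_mk, hy3])
  obtain ⟨Z, hZ⟩ := hmk ⟨z', hz'C⟩ (by rw [orderOf_mk, hz3])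
  obtain ⟨h, hh⟩ := MulAction.exists_smul_eq H Y Z
  have hmem : h * ⟨y', hy'C⟩ * h⁻¹ ∈ zpowers (⟨z', hz'C⟩ : H) := by
    rw [← hZ, ← hh, Sylow.smul_def, Sylow.pointwise_smul_def, Subgroup.pointwise_smul_def]
    exact ⟨⟨y', hy'C⟩, hY.symm ▸ mem_zpowers _, rfl⟩
  rw [mem_zpowers_iff_mem_range_orderOf, orderOf_mk, hz3, Finset.mem_image] at hmem
  obtain ⟨i, hi, he⟩ := hmem
  have he' : z' ^ i = (h : G) * y' * (h : G)⁻¹ := congrArg Subtype.val he
  rw [Finset.mem_range] at hi
  obtain ⟨c, hc, -, hinv⟩ := exists_inverter hM T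
  refine hzy (hYc z hz y hy ?_)
  interval_cases i
  · rw [pow_zero, eq_comm, conj_eq_one_iff] at he'
    rw [he', orderOf_one] at hy3
    omega
  · rw [pow_one] at he'
    exact (hzz'.trans (isConj_iff.2 ⟨(h : G)⁻¹, by rw [he']; group⟩)).trans hyy'.symm
  · -- `z' ^ 2 = z'⁻¹` is conjugate to `z⁻¹`, hence to `z`
    have h3 : z' ^ 3 = 1 := by rw [← hz3]; exact pow_orderOf_eq_one z'
    have hinv' : z' ^ 2 = z'⁻¹ := eq_inv_of_mul_eq_one_left (by rw [← pow_succ, h3])
    have h1 : IsConj z (z'⁻¹) := by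
      obtain ⟨g, hg⟩ := isConj_iff.1 hzz'
      refine (isConj_iff.2 ⟨c, hinv z (hYs z hz).1⟩ : IsConj z z⁻¹).trans (isConj_iff.2 ⟨g, ?_⟩)
      rw [← hg]; group
    exact (h1.trans (isConj_iff.2 ⟨(h : G)⁻¹, by rw [← hinv', he']; group⟩)).trans hyy'.symm

/-- The case `C(T) = T` with all classes of size four in `T`. -/
theorem small_false_B (hM : Cfsg.IsM11 G) (hN : Nat.card (sylN T) = 36) (hD : sylD T = 1)
    (hO : ∀ t ∈ T, t ≠ 1 → orbCount T t = 4) : False := by
  have : Fintype (T : Subgroup G) := Fintype.ofFinite _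
  obtain ⟨Ys, hYs, -, -, hsum, hcong⟩ := exists_reps hM T
  have hmul := CfsgLib.SmallGroups.card_sylow_mul_card_normalizer T
  have hN' : Nat.card (normalizer ((T : Subgroup G) : Set G)) = 36 := hN
  rw [hN', hM.2] at hmul
  obtain ⟨t, ht, ht1, hf⟩ : ∃ t ∈ T, t ≠ 1 ∧ fix3 t = 4 := by
    by_contra h
    push Not at h
    rw [Finset.sum_congr rfl (g := fun y => orbCount T y) fun y hy => by
      rw [(fix3_mul hM T (hYs y hy).1 (hYs y hy).2).2.resolve_right (h y (hYs y hy).1 (hYs y hy).2),
        mul_one], hsum] at hcong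
    omega
  have hCN : Nat.card (sylCN T t) = 9 := by
    rcases orb_cases_small hM hN ht ht1 with ⟨h, -⟩ | ⟨-, h', -⟩
    · rw [h, hD]
    · rw [hD, hO t ht ht1] at h'; omega
  have hC36 : Nat.card (centralizer ({t} : Set G)) = 36 := by
    rw [← (fix3_mul hM T ht ht1).1, hf, hCN]
  have h3 : orderOf t = 3 := orderOf_three_of_card hM ht ht1 (by rw [hC36, hD]; norm_num)
  have htwo : twoCount t = 4 := by
    have := twoCount_formula hM T ht h3
    rw [hD, hf, hC36] at this
    omega
  obtain ⟨c, hcN, hc16, hinv⟩ := exists_inverter hM T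
  obtain ⟨hcM, hct, hCM, hMc⟩ := card_normalizer_zpowers hM ht h3 (hinv t ht)
  rw [hC36] at hMc
  set C := centralizer ({t} : Set G) with hCdef
  set M := normalizer ((zpowers t : Subgroup G) : Set G) with hMdef
  -- the Sylow 2-subgroup of `C(t)`
  obtain ⟨V0, hV0⟩ := Sylow.exists_subgroup_card_pow_prime (G := C) 2 (n := 2) (by rw [hC36]; norm_num)
  set V : Subgroup G := V0.map C.subtype with hVdef
  have hVc : Nat.card V = 4 := by
    rw [hVdef, Subgroup.card_map_of_injective C.subtype_injective, hV0]; norm_num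
  have hVC : V ≤ C := map_subtype_le _
  have hV16 : ∀ x ∈ V, x ^ 16 = 1 := fun x hx => by
    have := Subgroup.orderOf_dvd_natCard _ hx
    rw [hVc] at this
    exact orderOf_dvd_iff_pow_eq_one.1 (this.trans (by norm_num))
  have hVset : ((V : Set G)) = {x : G | x * t = t * x ∧ x ^ 16 = 1} := by
    refine Set.eq_of_subset_of_ncard_le
      (fun x hx => ⟨mem_centralizer_singleton_iff.1 (hVC hx), hV16 x hx⟩) ?_
    rw [← Nat.card_coe_set_eq, ← Nat.card_coe_set_eq]
    exact le_of_eq (htwo.trans hVc.symm)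
  have hVnorm : ∀ g ∈ M, ∀ x ∈ V, g * x * g⁻¹ ∈ V := by
    intro g hg x hx
    obtain ⟨hxt, hx16⟩ := (hVset.le hx : x ∈ {x : G | x * t = t * x ∧ x ^ 16 = 1})
    have hx16' : (g * x * g⁻¹) ^ 16 = 1 := by rw [conj_pow, hx16, mul_one, mul_inv_cancel]
    suffices h : g * x * g⁻¹ * t = t * (g * x * g⁻¹) by
      exact (hVset.ge ⟨h, hx16'⟩ : g * x * g⁻¹ ∈ (V : Set G))
    obtain ⟨i, hi⟩ := (Subgroup.mem_normalizer_iff''.1 hg t).1 (mem_zpowers t)
    simp only at hi
    calc g * x * g⁻¹ * t = g * (x * (g⁻¹ * t * g)) * g⁻¹ := by group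
      _ = g * ((g⁻¹ * t * g) * x) * g⁻¹ := by
        rw [← hi, (show Commute x t from hxt).zpow_right i]
      _ = t * (g * x * g⁻¹) := by group
  -- `c` does not centralise `V`
  obtain ⟨w, hwV, hcw⟩ : ∃ w ∈ V, c * w ≠ w * c := by
    by_contra h
    push Not at h
    have hall : ∀ w ∈ V, w ∈ sylC T := by
      intro w hw
      refine mem_centralizer_iff.2 fun x hx => ?_
      have hxM : x ∈ M := hCM (mem_centralizer_singleton_iff.2 (comm_three hM T hx ht))
      have h1 : c * (x * w * x⁻¹) * c⁻¹ = x * w * x⁻¹ :=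
        mul_inv_eq_iff_eq_mul.2 (h _ (hVnorm x hxM w hw))
      have h2 : c * w * c⁻¹ = w := mul_inv_eq_iff_eq_mul.2 (h w hw)
      have h3' : x⁻¹ * w * x = x * w * x⁻¹ := by
        calc x⁻¹ * w * x = (c * x * c⁻¹) * (c * w * c⁻¹) * (c * x * c⁻¹)⁻¹ := by
              rw [hinv x hx, h2, inv_inv]
          _ = c * (x * w * x⁻¹) * c⁻¹ := by group
          _ = x * w * x⁻¹ := h1
      have h4 : Commute (x * x) w := by
        show x * x * w = w * (x * x)
        calc x * x * w = x * (x * w * x⁻¹) * x := by group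
          _ = x * (x⁻¹ * w * x) * x := by rw [h3']
          _ = w * (x * x) := by group
      exact commute_of_sq (pow_nine_of_mem hM T hx) h4
    have hle : Nat.card V ≤ sylD T := Nat.card_le_card_of_injective
      (fun w : V => (⟨w.1, hall w.1 w.2, hV16 w.1 w.2⟩ : {x : G | x ∈ sylC T ∧ x ^ 16 = 1}))
      fun a b e => Subtype.ext (congrArg (fun y : {x : G | x ∈ sylC T ∧ x ^ 16 = 1} => y.1) e)
    omega
  set U : Subgroup G := zpowers c ⊔ V with hUdef
  have hUp : IsPGroup 2 U := by
    have hc2 : IsPGroup 2 (zpowers c) := by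
      obtain ⟨k, -, hk⟩ := (Nat.dvd_prime_pow Nat.prime_two).1
        (show orderOf c ∣ 2 ^ 4 from orderOf_dvd_of_pow_eq_one hc16)
      exact IsPGroup.of_card (n := k) (by rw [Nat.card_zpowers, hk])
    refine hc2.to_sup_of_normal_right' (IsPGroup.of_card (n := 2) (by rw [hVc]; norm_num)) ?_
    rw [zpowers_le]
    refine Subgroup.mem_normalizer_iff.2 fun x => ⟨hVnorm c hcM x, fun hx => ?_⟩
    have := hVnorm c⁻¹ (M.inv_mem hcM) _ hx
    simpa [mul_assoc] using this
  have hUM : U ≤ M := sup_le (zpowers_le.2 hcM) (hVC.trans hCM)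
  have hU8 : Nat.card U = 8 := by
    obtain ⟨k, hk⟩ := IsPGroup.iff_card.1 hUp
    have h72 : 2 ^ k ∣ 72 := by
      rw [← hk, show 72 = 2 * 36 by norm_num, ← hMc]
      exact card_dvd_of_le hUM
    have hk3 : k ≤ 3 := by
      by_contra hk4
      have := (pow_dvd_pow 2 (show 4 ≤ k by omega)).trans h72
      norm_num at this
    have h4 : 4 ∣ 2 ^ k := by rw [← hVc, ← hk]; exact card_dvd_of_le le_sup_right
    have hne : 2 ^ k ≠ 4 := by
      intro h4'
      have heq : V = U := Subgroup.eq_of_le_of_card_ge le_sup_right (by rw [hk, h4', hVc])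
      exact hct (hVC (heq.symm ▸ (mem_sup_left (mem_zpowers c) : c ∈ U)))
    rw [hk]; revert h4 hne
    interval_cases k <;> norm_num
  -- an element of order four in `U`, with central square in `V`
  obtain ⟨g, hgU, hg2⟩ : ∃ g ∈ U, g * g ≠ 1 := by
    by_contra h
    push Not at h
    refine hcw ?_
    have hcU : c ∈ U := mem_sup_left (mem_zpowers c)
    have hwU : w ∈ U := mem_sup_right hwV
    calc c * w = c * w * (c * w * (c * w)) := by rw [h _ (U.mul_mem hcU hwU), mul_one]
      _ = (c * w * (c * w)) * (c * w) := by group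
      _ = c * w := by rw [h _ (U.mul_mem hcU hwU), one_mul]
      _ = (w * w) * (c * w) * (c * c) := by rw [h _ hwU, h _ hcU, one_mul, mul_one]
      _ = w * ((w * c) * (w * c)) * c := by group
      _ = w * c := by rw [h _ (U.mul_mem hwU hcU), mul_one]
  have hg8 : orderOf g ∣ 8 := hU8 ▸ Subgroup.orderOf_dvd_natCard _ hgU
  obtain ⟨z, hz, hzU, hz4⟩ : ∃ g' : G, g' ∈ U ∧ g' ^ 4 = 1 ∧ g' * g' ≠ 1 := by
    by_cases h4 : g ^ 4 = 1
    · exact ⟨g, hgU, h4, hg2⟩
    · refine ⟨g * g, U.mul_mem hgU hgU, ?_, ?_⟩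
      · rw [← sq, ← pow_mul]; exact orderOf_dvd_iff_pow_eq_one.1 hg8
      · intro e
        exact h4 (by rw [pow_succ, pow_succ, pow_succ, pow_one, mul_assoc]; exact e)
  have hzo : orderOf z = 4 := by
    refine orderOf_eq_prime_pow (p := 2) (n := 1) ?_ hzU
    simpa [sq] using hz4
  set s := z * z with hsdef
  have hidx : (V.subgroupOf U).index = 2 := by
    have h1 := Subgroup.card_mul_index (V.subgroupOf U)
    rw [Nat.card_congr (subgroupOfEquivOfLe (le_sup_right : V ≤ U)).toEquiv, hVc, hU8] at h1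
    omega
  have hsV : s ∈ V := by
    have := Subgroup.mul_self_mem_of_index_two hidx (⟨z, hz⟩ : U)
    simpa [mem_subgroupOf] using this
  have hscU : ∀ x ∈ U, x * s = s * x := by
    intro x hx
    have hidz : ((zpowers z).subgroupOf U).index = 2 := by
      have hle : zpowers z ≤ U := zpowers_le.2 hz
      have h1 := Subgroup.card_mul_index ((zpowers z).subgroupOf U)
      rw [Nat.card_congr (subgroupOfEquivOfLe hle).toEquiv, Nat.card_zpowers, hzo, hU8] at h1
      omega
    have hmem := (Subgroup.normal_of_index_eq_two hidz).conj_mem ⟨z, hz⟩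
      (mem_subgroupOf.2 (mem_zpowers z)) ⟨x, hx⟩
    rw [mem_subgroupOf] at hmem
    have hmem' : x * z * x⁻¹ ∈ zpowers z := hmem
    rw [mem_zpowers_iff_mem_range_orderOf, hzo, Finset.mem_image] at hmem'
    obtain ⟨i, hi, he⟩ := hmem'
    rw [Finset.mem_range] at hi
    refine mul_inv_eq_iff_eq_mul.1 ?_
    have h1 : x * s * x⁻¹ = (x * z * x⁻¹) * (x * z * x⁻¹) := by rw [hsdef]; group
    rw [h1, ← he, hsdef, ← pow_add]
    have h5 : ∀ k, z ^ (k + 4) = z ^ k := fun k => by rw [pow_add, hzU, mul_one]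
    have hord : orderOf (x * z * x⁻¹) = 4 := by rw [← MulAut.conj_apply, MulEquiv.orderOf_eq, hzo]
    rw [← he] at hord
    interval_cases i
    · rw [pow_zero, orderOf_one] at hord; omega
    · rw [show 1 + 1 = 2 from rfl, sq]
    · exfalso
      rw [orderOf_pow' z (by norm_num), hzo] at hord
      norm_num at hord
    · rw [show 3 + 3 = 2 + 4 from rfl, h5, sq]
  have hss : IsSquareInv s := by
    refine ⟨orderOf_eq_prime ?_ hz4, z, sq z⟩
    rw [hsdef, ← sq, ← pow_mul]; exact hzU
  set H := centralizer ({s} : Set G) with hHdef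
  have htH : t ∈ H := mem_centralizer_singleton_iff.2 (mem_centralizer_singleton_iff.1 (hVC hsV)).symm
  have hUH : U ≤ H := fun x hx => mem_centralizer_singleton_iff.2 (hscU x hx)
  have h48 : Nat.card H = 48 := by
    rcases hss.card_centralizer hM with h | h
    · exfalso
      have := Subgroup.orderOf_dvd_natCard _ htH
      rw [h, h3] at this
      omega
    · exact h
  obtain ⟨Y, hY⟩ := (IsPGroup.of_card (p := 3) (n := 1)
    (by rw [Nat.card_zpowers, orderOf_mk, h3, pow_one] :
      Nat.card (zpowers (⟨t, htH⟩ : H)) = 3 ^ 1)).exists_le_sylow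
  have hYeq : (Y : Subgroup H) = zpowers (⟨t, htH⟩ : H) := by
    refine (Subgroup.eq_of_le_of_card_ge hY ?_).symm
    have : Nat.card (Y : Subgroup H) = 3 ^ 1 :=
      CfsgLib.SmallGroups.card_sylow_eq (m := 16) (by rw [h48]; norm_num) (by norm_num) Y
    rw [this, Nat.card_zpowers, orderOf_mk, h3, pow_one]
  have hNY : Nat.card (normalizer ((Y : Subgroup H) : Set H)) = Nat.card (H ⊓ M : Subgroup G) := by
    have key : ∀ (y : H), y ∈ (Y : Subgroup H) ↔ (y : G) ∈ zpowers t := by
      intro y
      rw [hYeq]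
      constructor
      · rintro ⟨i, rfl⟩; exact ⟨i, by simp⟩
      · rintro ⟨i, hi⟩; exact ⟨i, Subtype.ext (by simpa using hi)⟩
    refine Nat.card_congr ⟨fun x => ⟨x.1.1, x.1.2, Subgroup.mem_normalizer_iff.2 fun y => ?_⟩,
      fun x => ⟨⟨x.1, x.2.1⟩, Subgroup.mem_normalizer_iff.2 fun y =>
        (key y).trans ((Subgroup.mem_normalizer_iff.1 x.2.2 y.1).trans (key (⟨x.1, x.2.1⟩ * y * (⟨x.1, x.2.1⟩ : H)⁻¹)).symm)⟩,
      fun x => rfl, fun x => rfl⟩
    constructor
    · intro hy
      have hyH : y ∈ H := (zpowers_le (H := H)).2 htH hy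
      exact (key _).1 ((Subgroup.mem_normalizer_iff.1 x.2 ⟨y, hyH⟩).1 ((key _).2 hy))
    · intro hy
      have hyH : y ∈ H := by
        have h' := (zpowers_le (H := H)).2 htH hy
        have := H.mul_mem (H.mul_mem (H.inv_mem x.1.2) h') x.1.2
        simpa [mul_assoc] using this
      exact (key ⟨y, hyH⟩).1 ((Subgroup.mem_normalizer_iff.1 x.2 ⟨y, hyH⟩).2 ((key _).2 hy))
  have h24 : Nat.card (H ⊓ M : Subgroup G) = 24 := by
    have h8 : 8 ∣ Nat.card (H ⊓ M : Subgroup G) := hU8 ▸ card_dvd_of_le (le_inf hUH hUM)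
    have h3' : 3 ∣ Nat.card (H ⊓ M : Subgroup G) := h3 ▸ Subgroup.orderOf_dvd_natCard _
      (show t ∈ H ⊓ M from ⟨htH, le_normalizer (mem_zpowers t)⟩)
    refine Nat.dvd_antisymm ?_ (Nat.Coprime.mul_dvd_of_dvd_of_dvd
      (by norm_num : Nat.Coprime 8 3) h8 h3')
    have h1 : Nat.card (H ⊓ M : Subgroup G) ∣ 48 := h48 ▸ card_dvd_of_le inf_le_left
    have h2 : Nat.card (H ⊓ M : Subgroup G) ∣ 2 * 36 := hMc ▸ card_dvd_of_le inf_le_right
    have := Nat.dvd_gcd h1 h2
    norm_num at this
    exact this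
  have hmulY := CfsgLib.SmallGroups.card_sylow_mul_card_normalizer Y
  rw [hNY, h24, h48] at hmulY
  have hmodY : Nat.card (Sylow 3 H) % 3 = 1 := card_sylow_modEq_one 3 H
  omega

/-- The case `|C(T)| = 18`. -/
theorem small_false_C (hM : Cfsg.IsM11 G) (hN : Nat.card (sylN T) = 36) (hD : sylD T = 2) :
    False := by
  obtain ⟨v, hv⟩ := exists_isSquareInv hM
  have : Fintype G := Fintype.ofFinite G
  have : Fintype (T : Subgroup G) := Fintype.ofFinite _
  obtain ⟨Ys, hYs, hYc, -, hsum, -⟩ := exists_reps hM T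
  have hall : ∀ t ∈ T, t ≠ 1 → Nat.card (sylCN T t) = 18 ∧ orbCount T t = 2 ∧
      classCard t * twoCount t = 880 := by
    intro t ht ht1
    have h2 := (orbCount_facts hM T ht ht1).2.1
    rcases orb_cases_small hM hN ht ht1 with ⟨h, h', h''⟩ | ⟨-, h', -⟩ <;> rw [hD] at h'
    · exact ⟨by rw [h, hD], by omega, h''⟩
    · omega
  have hb := budget_reps' hM T hv hYs hYc
  rw [Finset.sum_congr rfl (g := fun _ => 880) fun y hy => (hall y (hYs y hy).1 (hYs y hy).2).2.2,
    Finset.sum_const, smul_eq_mul] at hb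
  rw [Finset.sum_congr rfl (g := fun _ => 2) fun y hy => (hall y (hYs y hy).1 (hYs y hy).2).2.1,
    Finset.sum_const, smul_eq_mul] at hsum
  have hv48 : Nat.card (centralizer ({v} : Set G)) = 48 := by
    rcases classCard_square hM hv with ⟨-, h⟩ | ⟨h, -⟩
    · omega
    · exact h
  obtain ⟨v', t, hv', ht, ht1, h3, hcomm⟩ := exists_commuting hM T hv48
  obtain ⟨hCmul, hf⟩ := fix3_mul hM T ht ht1
  rw [(hall t ht ht1).1] at hCmul
  have hf4 : fix3 t = 4 := by
    refine hf.resolve_left fun h1 => hv.not_mem_sylC hM T hv' ?_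
    rw [h1, one_mul] at hCmul
    have heq : sylC T = centralizer ({t} : Set G) := Subgroup.eq_of_le_of_card_ge
      (fun x hx => mem_centralizer_singleton_iff.2 (commute_sylC hx ht))
      (by rw [card_sylC hM T, hD, ← hCmul])
    rw [heq]
    exact mem_centralizer_singleton_iff.2 hcomm
  rw [hf4] at hCmul
  have hC72 : Nat.card (centralizer ({t} : Set G)) = 72 := hCmul.symm
  have htwo : twoCount t = 8 := by
    have := twoCount_formula hM T ht h3
    rw [hD, hf4, hC72] at this
    omega
  obtain ⟨c, hcN, -, hinv⟩ := exists_inverter hM T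
  obtain ⟨hcM, hct, hCM, hMc⟩ := card_normalizer_zpowers hM ht h3 (hinv t ht)
  rw [hC72] at hMc
  set C := centralizer ({t} : Set G) with hCdef
  set M := normalizer ((zpowers t : Subgroup G) : Set G) with hMdef
  -- the Sylow 2-subgroup of `C(t)`
  obtain ⟨Q0, hQ0⟩ := Sylow.exists_subgroup_card_pow_prime (G := C) 2 (n := 3) (by rw [hC72]; norm_num)
  set Q : Subgroup G := Q0.map C.subtype with hQdef
  have hQc : Nat.card Q = 8 := by
    rw [hQdef, Subgroup.card_map_of_injective C.subtype_injective, hQ0]; norm_num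
  have hQC : Q ≤ C := map_subtype_le _
  have hQ16 : ∀ x ∈ Q, x ^ 16 = 1 := fun x hx => by
    have := Subgroup.orderOf_dvd_natCard _ hx
    rw [hQc] at this
    exact orderOf_dvd_iff_pow_eq_one.1 (this.trans (by norm_num))
  have hQset : ((Q : Set G)) = {x : G | x * t = t * x ∧ x ^ 16 = 1} := by
    refine Set.eq_of_subset_of_ncard_le
      (fun x hx => ⟨mem_centralizer_singleton_iff.1 (hQC hx), hQ16 x hx⟩) ?_
    rw [← Nat.card_coe_set_eq, ← Nat.card_coe_set_eq]
    exact le_of_eq (htwo.trans hQc.symm)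
  have hmemQ : ∀ x, x * t = t * x → x ^ 16 = 1 → x ∈ Q := fun x h1 h2 =>
    (hQset.ge ⟨h1, h2⟩ : x ∈ (Q : Set G))
  have hQnorm : ∀ g ∈ M, ∀ x ∈ Q, g * x * g⁻¹ ∈ Q := by
    intro g hg x hx
    obtain ⟨hxt, hx16⟩ := (hQset.le hx : x ∈ {x : G | x * t = t * x ∧ x ^ 16 = 1})
    refine hmemQ _ ?_ (by rw [conj_pow, hx16, mul_one, mul_inv_cancel])
    obtain ⟨i, hi⟩ := (Subgroup.mem_normalizer_iff''.1 hg t).1 (mem_zpowers t)
    simp only at hi
    calc g * x * g⁻¹ * t = g * (x * (g⁻¹ * t * g)) * g⁻¹ := by group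
      _ = g * ((g⁻¹ * t * g) * x) * g⁻¹ := by
        rw [← hi, (show Commute x t from hxt).zpow_right i]
      _ = t * (g * x * g⁻¹) := by group
  have hTM : (T : Subgroup G) ≤ M := fun x hx =>
    hCM (mem_centralizer_singleton_iff.2 (comm_three hM T hx ht))
  have hT3 : IsPGroup 3 (T : Subgroup G) := T.2
  -- the involution `d` of `C(T)`
  have hK2 : ({x : G | x ∈ sylC T ∧ x ^ 16 = 1}).ncard = 2 := by
    rw [← Nat.card_coe_set_eq]; exact hD
  obtain ⟨a, b, hab, hKeq⟩ := Set.ncard_eq_two.1 hK2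
  obtain ⟨d, hd1, hdK⟩ : ∃ d, d ≠ 1 ∧ ({x : G | x ∈ sylC T ∧ x ^ 16 = 1}) = {1, d} := by
    have h1 : (1 : G) ∈ ({x : G | x ∈ sylC T ∧ x ^ 16 = 1}) := ⟨one_mem _, one_pow _⟩
    rw [hKeq] at h1
    rcases h1 with h1 | h1
    · exact ⟨b, fun e => hab (by rw [← h1, e]), by rw [hKeq, ← h1]⟩
    · rw [Set.mem_singleton_iff] at h1
      exact ⟨a, fun e => hab (by rw [← h1, e]), by rw [hKeq, ← h1, Set.pair_comm]⟩
  have hdmem : d ∈ sylC T ∧ d ^ 16 = 1 := by
    have : d ∈ ({x : G | x ∈ sylC T ∧ x ^ 16 = 1}) := hdK.symm ▸ Or.inr rfl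
    exact this
  have honly : ∀ x ∈ sylC T, x ^ 16 = 1 → x = 1 ∨ x = d := fun x h1 h2 => by
    have : x ∈ ({x : G | x ∈ sylC T ∧ x ^ 16 = 1}) := ⟨h1, h2⟩
    rw [hdK] at this
    exact this
  have hdd : d * d = 1 := by
    rcases honly (d * d) ((sylC T).mul_mem hdmem.1 hdmem.1)
      (by rw [← sq, ← pow_mul, mul_comm, pow_mul, hdmem.2, one_pow]) with h | h
    · exact h
    · exact absurd (mul_eq_left.1 h) hd1
  have hd2 : orderOf d = 2 := orderOf_eq_prime (by rw [sq, hdd]) hd1
  have hdQ : d ∈ Q := hmemQ d (commute_sylC hdmem.1 ht) hdmem.2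
  have hfixed : ∀ x ∈ Q, (∀ k ∈ (T : Subgroup G), k * x = x * k) → x = 1 ∨ x = d := fun x hx h =>
    honly x (mem_centralizer_iff.2 fun k hk => h k hk) (hQ16 x hx)
  -- `d` is central in `Q`
  have hdc : ∀ q ∈ Q, q * d = d * q := by
    set Z : Set G := {x | x ∈ Q ∧ ∀ q ∈ Q, q * x = x * q}
    have hmod := card_modEq_conj hT3 Z fun k hk x hx => by
      refine ⟨hQnorm k (hTM hk) x hx.1, fun q hq => ?_⟩
      have hq' : k⁻¹ * q * k ∈ Q := by simpa using hQnorm k⁻¹ (M.inv_mem (hTM hk)) q hq
      calc q * (k * x * k⁻¹) = k * ((k⁻¹ * q * k) * x) * k⁻¹ := by group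
        _ = k * (x * (k⁻¹ * q * k)) * k⁻¹ := by rw [hx.2 _ hq']
        _ = k * x * k⁻¹ * q := by group
    by_contra hne
    have hdZ : d ∉ Z := fun h => hne h.2
    have hF : {s : G | s ∈ Z ∧ ∀ k ∈ (T : Subgroup G), k * s = s * k} = {1} := by
      refine Set.eq_singleton_iff_unique_mem.2 ⟨⟨⟨Q.one_mem, fun q _ => by simp⟩, fun k _ => by simp⟩,
        fun s hs => ?_⟩
      exact (hfixed s hs.1.1 hs.2).resolve_right fun e => hdZ (e ▸ hs.1)
    rw [hF, Nat.card_coe_set_eq ({1} : Set G), Set.ncard_singleton] at hmod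
    let Zs : Subgroup G := Q ⊓ centralizer (Q : Set G)
    have hZ : Nat.card Z = Nat.card Zs :=
      Nat.card_congr (Equiv.subtypeEquivRight fun x =>
        ⟨fun h => ⟨h.1, mem_centralizer_iff.2 h.2⟩, fun h => ⟨h.1, mem_centralizer_iff.1 h.2⟩⟩)
    have hZc : Nat.card Zs = Nat.card (center Q) := by
      refine Nat.card_congr ⟨fun x => ⟨⟨x.1, x.2.1⟩, mem_center_iff.2 fun q =>
        Subtype.ext (mem_centralizer_iff.1 x.2.2 q.1 q.2)⟩,
        fun x => ⟨x.1.1, x.1.2, mem_centralizer_iff.2 fun q hq =>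
          congrArg Subtype.val (mem_center_iff.1 x.2 ⟨q, hq⟩)⟩, fun x => rfl, fun x => rfl⟩
    have hQp : IsPGroup 2 Q := IsPGroup.of_card (n := 3) (by rw [hQc]; norm_num)
    have : Nontrivial Q := Finite.one_lt_card_iff_nontrivial.1 (by rw [hQc]; norm_num)
    have hnt : 1 < Nat.card (center Q) := Finite.one_lt_card_iff_nontrivial.2 hQp.center_nontrivial
    have hdv : Nat.card (center Q) ∈ Nat.divisors 8 :=
      Nat.mem_divisors.2 ⟨hQc ▸ Subgroup.card_subgroup_dvd_card _, by norm_num⟩
    rw [show Nat.divisors 8 = {1, 2, 4, 8} by decide] at hdv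
    simp only [Finset.mem_insert, Finset.mem_singleton] at hdv
    have hmod' : Nat.card Z % 3 = 1 := hmod
    rw [hZ, hZc] at hmod'
    have h4 : Nat.card (center Q) = 4 := by omega
    -- a quotient of order two by the centre
    have hidx : (center Q).index = 2 := by
      have := Subgroup.card_mul_index (center Q)
      rw [h4, hQc] at this
      omega
    have hq : IsCyclic (Q ⧸ center Q) := isCyclic_of_prime_card (p := 2) hidx
    have hcomm : ∀ x y : Q, x * y = y * x := fun x y =>
      commutative_of_cyclic_center_quotient (QuotientGroup.mk' (center Q))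
        (by rw [QuotientGroup.ker_mk']) x y
    exact hne fun q hq => congrArg Subtype.val (hcomm ⟨q, hq⟩ ⟨d, hdQ⟩)
  -- `C(d) = M`
  have hdM : centralizer ({d} : Set G) = M := by
    have h16 : 8 ∣ Nat.card (C ⊓ centralizer ({d} : Set G) : Subgroup G) := hQc ▸ card_dvd_of_le
      (le_inf hQC fun q hq => mem_centralizer_singleton_iff.2 (hdc q hq))
    have h9 : 9 ∣ Nat.card (C ⊓ centralizer ({d} : Set G) : Subgroup G) :=
      card_three_sylow hM T ▸ card_dvd_of_le (le_inf
        (fun x hx => mem_centralizer_singleton_iff.2 (comm_three hM T hx ht))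
        fun x hx => mem_centralizer_singleton_iff.2 (commute_sylC hdmem.1 hx).symm)
    have h72 := Nat.Coprime.mul_dvd_of_dvd_of_dvd (by norm_num : Nat.Coprime 8 9) h16 h9
    have hCd : C ≤ centralizer ({d} : Set G) := inf_eq_left.1 (Subgroup.eq_of_le_of_card_ge inf_le_left
      (by rw [hC72]; exact Nat.le_of_dvd Nat.card_pos h72))
    have hcd : c ∈ centralizer ({d} : Set G) := by
      refine mem_centralizer_singleton_iff.2 (mul_inv_eq_iff_eq_mul.1 ?_)
      refine (honly _ (mem_centralizer_iff.2 fun x hx => ?_)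
        (by rw [conj_pow, hdmem.2, mul_one, mul_inv_cancel])).resolve_left
        fun e => hd1 (conj_eq_one_iff.1 e)
      have hx' : c⁻¹ * x * c ∈ T := (Subgroup.mem_normalizer_iff''.1 hcN x).1 hx
      calc x * (c * d * c⁻¹) = c * ((c⁻¹ * x * c) * d) * c⁻¹ := by group
        _ = c * (d * (c⁻¹ * x * c)) * c⁻¹ := by rw [commute_sylC hdmem.1 hx']
        _ = c * d * c⁻¹ * x := by group
    have hdvd : Nat.card (centralizer ({d} : Set G)) ∣ 144 := centralizer_involution_dvd hM hd2
    obtain ⟨q, hq⟩ : 72 ∣ Nat.card (M ⊓ centralizer ({d} : Set G) : Subgroup G) :=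
      hC72 ▸ card_dvd_of_le (le_inf hCM hCd)
    have hne : q ≠ 1 := by
      rintro rfl
      have heq : C = M ⊓ centralizer ({d} : Set G) :=
        Subgroup.eq_of_le_of_card_ge (le_inf hCM hCd) (by rw [hq, mul_one, hC72])
      exact hct (heq.symm ▸ (⟨hcM, hcd⟩ : c ∈ M ⊓ centralizer ({d} : Set G)))
    have hpos : q ≠ 0 := by rintro rfl; rw [mul_zero] at hq; exact Nat.card_pos.ne' hq
    have hMle : M ≤ centralizer ({d} : Set G) := inf_eq_left.1
      (Subgroup.eq_of_le_of_card_ge inf_le_left (by rw [hMc, hq]; omega))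
    refine (Subgroup.eq_of_le_of_card_ge hMle ?_).symm
    rw [hMc]
    exact Nat.le_of_dvd (by norm_num) hdvd
  have hd144 : Nat.card (centralizer ({d} : Set G)) = 144 := by rw [hdM, hMc]
  have hvd := not_conj_of_centralizer hM hv hd144
  have hdsq : ∀ x : G, x * x = d → False := fun x hx =>
    not_conj_of_centralizer hM (v := d) ⟨hd2, x, by rw [sq, hx]⟩ hd144 (IsConj.refl d)
  -- `Q` is elementary abelian
  have hQel : ∀ q ∈ Q, q * q = 1 := by
    intro q hq
    by_contra hq2
    obtain ⟨z, hz, hz4, hzz⟩ : ∃ z ∈ Q, z ^ 4 = 1 ∧ z * z ≠ 1 := by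
      by_cases h4 : q ^ 4 = 1
      · exact ⟨q, hq, h4, hq2⟩
      · refine ⟨q * q, Q.mul_mem hq hq, ?_, fun e => h4 ?_⟩
        · rw [← sq, ← pow_mul]
          exact orderOf_dvd_iff_pow_eq_one.1 ((Subgroup.orderOf_dvd_natCard _ hq).trans (dvd_of_eq hQc))
        · rw [pow_succ, pow_succ, pow_succ, pow_one, mul_assoc]; exact e
    -- the squares of elements of order four are central, and `T` fixes one of them
    set W : Set G := {w | ∃ z ∈ Q, z ^ 4 = 1 ∧ z * z = w ∧ w ≠ 1}
    have hWc : ∀ w ∈ W, ∀ x ∈ Q, x * w = w * x := by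
      rintro w ⟨z, hz, hz4, rfl, hw1⟩ x hx
      have hzo : orderOf z = 4 := orderOf_eq_prime_pow (p := 2) (n := 1) (by simpa [sq] using hw1) hz4
      have hidz : ((zpowers z).subgroupOf Q).index = 2 := by
        have hle : zpowers z ≤ Q := zpowers_le.2 hz
        have h1 := Subgroup.card_mul_index ((zpowers z).subgroupOf Q)
        rw [Nat.card_congr (subgroupOfEquivOfLe hle).toEquiv, Nat.card_zpowers, hzo, hQc] at h1
        omega
      have hmem := (Subgroup.normal_of_index_eq_two hidz).conj_mem ⟨z, hz⟩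
        (mem_subgroupOf.2 (mem_zpowers z)) ⟨x, hx⟩
      rw [mem_subgroupOf] at hmem
      have hmem' : x * z * x⁻¹ ∈ zpowers z := hmem
      rw [mem_zpowers_iff_mem_range_orderOf, hzo, Finset.mem_image] at hmem'
      obtain ⟨i, hi, he⟩ := hmem'
      rw [Finset.mem_range] at hi
      refine mul_inv_eq_iff_eq_mul.1 ?_
      have h1 : x * (z * z) * x⁻¹ = (x * z * x⁻¹) * (x * z * x⁻¹) := by group
      rw [h1, ← he, ← pow_add]
      have hord : orderOf (x * z * x⁻¹) = 4 := by rw [← MulAut.conj_apply, MulEquiv.orderOf_eq, hzo]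
      rw [← he] at hord
      interval_cases i
      · rw [pow_zero, orderOf_one] at hord; omega
      · rw [show 1 + 1 = 2 from rfl, sq]
      · exfalso
        rw [orderOf_pow' z (by norm_num), hzo] at hord
        norm_num at hord
      · rw [show 3 + 3 = 2 + 4 from rfl, pow_add, hz4, mul_one, sq]
    have hmod := card_modEq_conj hT3 W fun k hk w hw => by
      obtain ⟨z, hz, hz4, hzw, hw1⟩ := hw
      refine ⟨k * z * k⁻¹, hQnorm k (hTM hk) z hz, by rw [conj_pow, hz4, mul_one, mul_inv_cancel],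
        by rw [← hzw]; group, fun e => hw1 (conj_eq_one_iff.1 e)⟩
    have hF : {s : G | s ∈ W ∧ ∀ k ∈ (T : Subgroup G), k * s = s * k} = ∅ := by
      refine Set.eq_empty_iff_forall_notMem.2 ?_
      rintro w ⟨⟨z, hz, -, hzw, hw1⟩, hw⟩
      rcases hfixed w (hzw ▸ Q.mul_mem hz hz) hw with h | h
      · exact hw1 h
      · exact hdsq z (hzw.trans h)
    rw [hF] at hmod
    have h0 : Nat.card (∅ : Set G) = 0 := by simp
    rw [h0] at hmod
    have hW3 : Nat.card W % 3 = 0 := hmod
    have hWne : 0 < Nat.card W :=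
      Nat.card_pos_iff.2 ⟨⟨⟨z * z, z, hz, hz4, rfl, hzz⟩⟩, inferInstance⟩
    -- at most one such square: the centre would have at least four involutions
    let Zs : Subgroup G := Q ⊓ centralizer (Q : Set G)
    have hWZ : insert (1 : G) (insert d W) ⊆ ((Zs : Subgroup G) : Set G) := by
      rintro x (rfl | rfl | hx)
      · exact Zs.one_mem
      · exact ⟨hdQ, mem_centralizer_iff.2 hdc⟩
      · obtain ⟨z, hz, -, rfl, -⟩ := id hx
        exact ⟨Q.mul_mem hz hz, mem_centralizer_iff.2 (hWc _ hx)⟩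
    have hdW : d ∉ W := fun ⟨z, _, _, h, _⟩ => hdsq z h
    have h1W : (1 : G) ∉ insert d W := by
      rintro (h | ⟨z, -, -, h, h1⟩)
      · exact hd1 h.symm
      · exact h1 rfl
    have hle := Set.ncard_le_ncard hWZ
    rw [Set.ncard_insert_of_notMem h1W, Set.ncard_insert_of_notMem hdW, ← Nat.card_coe_set_eq,
      ← Nat.card_coe_set_eq] at hle
    -- so `Q` is abelian
    have hZQ : Zs = Q := by
      refine Subgroup.eq_of_le_of_card_ge inf_le_left ?_
      have hdv : Nat.card Zs ∣ 8 := hQc ▸ card_dvd_of_le inf_le_left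
      have hle' : 5 ≤ Nat.card Zs := by
        have : Nat.card (Zs : Set G) = Nat.card Zs := rfl
        omega
      rw [hQc]
      by_contra hlt
      have hle8 := Nat.le_of_dvd (by norm_num) hdv
      interval_cases h : Nat.card Zs <;> omega
    have hab : ∀ x ∈ Q, ∀ y ∈ Q, x * y = y * x := fun x hx y hy =>
      mem_centralizer_iff.1 ((hZQ.symm ▸ hy : y ∈ Zs).2) x hx
    -- the squaring map has kernel of order at least four
    let sqh : Q →* Q :=
      { toFun := fun x => x * x, map_one' := mul_one 1,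
        map_mul' := fun x y => by
          have : x * y = y * x := Subtype.ext (hab x x.2 y y.2)
          calc x * y * (x * y) = x * (y * x) * y := by group
            _ = x * (x * y) * y := by rw [this]
            _ = x * x * (y * y) := by group }
    have hker : insert (1 : G) (insert d W) ⊆ ((sqh.ker.map Q.subtype : Subgroup G) : Set G) := by
      rintro x (rfl | rfl | ⟨y, hy, hy4, rfl, -⟩)
      · exact Subgroup.one_mem _
      · exact ⟨⟨x, hdQ⟩, Subtype.ext hdd, rfl⟩
      · refine ⟨⟨y * y, Q.mul_mem hy hy⟩, Subtype.ext ?_, rfl⟩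
        show y * y * (y * y) = 1
        rw [← hy4]; simp [pow_succ, mul_assoc]
    have hle2 := Set.ncard_le_ncard hker
    rw [Set.ncard_insert_of_notMem h1W, Set.ncard_insert_of_notMem hdW, ← Nat.card_coe_set_eq,
      ← Nat.card_coe_set_eq] at hle2
    have hk : Nat.card ((sqh.ker.map Q.subtype : Subgroup G) : Set G) = Nat.card sqh.ker :=
      Subgroup.card_map_of_injective Q.subtype_injective
    have hmulk : Nat.card sqh.ker * Nat.card sqh.range = 8 := by
      rw [← Subgroup.index_ker, Subgroup.card_mul_index, hQc]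
    have hrW : Nat.card W ≤ Nat.card sqh.range - 1 := by
      have hsub : insert (1 : G) W ⊆ ((sqh.range.map Q.subtype : Subgroup G) : Set G) := by
        rintro x (rfl | ⟨y, hy, -, rfl, -⟩)
        · exact Subgroup.one_mem _
        · exact ⟨⟨y * y, Q.mul_mem hy hy⟩, ⟨⟨y, hy⟩, rfl⟩, rfl⟩
      have h1 := Set.ncard_le_ncard hsub
      rw [Set.ncard_insert_of_notMem (fun h => h1W (Or.inr h)), ← Nat.card_coe_set_eq,
        ← Nat.card_coe_set_eq] at h1
      have hr : Nat.card ((sqh.range.map Q.subtype : Subgroup G) : Set G) = Nat.card sqh.range :=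
        Subgroup.card_map_of_injective Q.subtype_injective
      omega
    have hr8 : Nat.card sqh.range ≤ 8 := Nat.le_of_dvd (by norm_num) (Dvd.intro_left _ hmulk)
    interval_cases hrc : Nat.card sqh.range <;> omega
  have hQab : ∀ x ∈ Q, ∀ y ∈ Q, x * y = y * x := fun x hx y hy => by
    have h := hQel _ (Q.mul_mem hx hy)
    calc x * y = (x * y)⁻¹ := (inv_eq_of_mul_eq_one_right h).symm
      _ = y⁻¹ * x⁻¹ := mul_inv_rev x y
      _ = y * x := by
        rw [inv_eq_of_mul_eq_one_right (hQel x hx), inv_eq_of_mul_eq_one_right (hQel y hy)]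
  -- involutions of `M` outside `C(t)`
  let Oall : Finset G := Finset.univ.filter fun x => x ∈ M ∧ x ∉ C ∧ x * x = 1
  have hOmem : ∀ x, x ∈ Oall ↔ x ∈ M ∧ x ∉ C ∧ x * x = 1 := fun x => by simp [Oall]
  obtain ⟨v0, hv0⟩ := exists_isSquareInv hM
  have horder4 : ∀ S : Subgroup G, Nat.card S = 16 → ∃ x ∈ S, x * x ≠ 1 := by
    intro S hS
    obtain ⟨g, hg⟩ := hv0.2
    have hg4 : orderOf g = 4 := by
      refine orderOf_eq_prime_pow (p := 2) (n := 1) ?_ ?_
      · simpa [hg] using (inv_facts hv0.1).2.1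
      · rw [show 2 ^ (1 + 1) = 2 * 2 by norm_num, pow_mul, hg, sq, (inv_facts hv0.1).1]
    obtain ⟨P, hP⟩ := (IsPGroup.of_card (p := 2) (n := 2)
      (by rw [Nat.card_zpowers, hg4]; norm_num : Nat.card (zpowers g) = 2 ^ 2)).exists_le_sylow
    obtain ⟨P', hP'⟩ := (IsPGroup.of_card (p := 2) (n := 4)
      (by rw [hS]; norm_num) : IsPGroup 2 S).exists_le_sylow
    have hPc : Nat.card (P' : Subgroup G) = 16 := by
      simpa using CfsgLib.SmallGroups.card_sylow_eq (p := 2) (a := 4) (m := 495)
        (by rw [hM.2]; norm_num) (by norm_num) P'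
    have hSP : S = (P' : Subgroup G) := Subgroup.eq_of_le_of_card_ge hP' (by rw [hS, hPc])
    obtain ⟨h, hh⟩ := MulAction.exists_smul_eq G P P'
    refine ⟨h * g * h⁻¹, ?_, fun e => ?_⟩
    · rw [hSP, ← hh, Sylow.smul_def, Sylow.pointwise_smul_def, Subgroup.pointwise_smul_def]
      exact ⟨g, hP (mem_zpowers g), rfl⟩
    · have h2 := orderOf_dvd_of_pow_eq_one (x := h * g * h⁻¹) (n := 2) (by rw [sq]; exact e)
      rw [← MulAut.conj_apply, MulEquiv.orderOf_eq, hg4] at h2
      omega
  have hCQx : ∀ x ∈ Oall, Nat.card (Q ⊓ centralizer ({x} : Set G) : Subgroup G) = 4 := by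
    intro x hx
    obtain ⟨hxM, hxC, hx2⟩ := (hOmem x).1 hx
    have hxi : x⁻¹ = x := inv_eq_of_mul_eq_one_right hx2
    set F : Subgroup G := Q ⊓ centralizer ({x} : Set G)
    let σh : Q →* Q :=
      { toFun := fun q => ⟨q * (x * q * x⁻¹), Q.mul_mem q.2 (hQnorm x hxM q q.2)⟩,
        map_one' := Subtype.ext (by simp),
        map_mul' := fun p q => Subtype.ext (by
          show (p : G) * q * (x * (p * q) * x⁻¹) = p * (x * p * x⁻¹) * (q * (x * q * x⁻¹))
          have h := hQab _ (hQnorm x hxM p p.2) q q.2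
          calc (p : G) * q * (x * (p * q) * x⁻¹)
              = p * (q * (x * p * x⁻¹)) * (x * q * x⁻¹) := by group
            _ = p * ((x * p * x⁻¹) * q) * (x * q * x⁻¹) := by rw [h]
            _ = p * (x * p * x⁻¹) * (q * (x * q * x⁻¹)) := by group) }
    have hker : Nat.card σh.ker = Nat.card F := by
      refine Nat.card_congr ⟨fun q => ⟨q.1.1, q.1.2, mem_centralizer_singleton_iff.2 ?_⟩,
        fun q => ⟨⟨q.1, q.2.1⟩, Subtype.ext ?_⟩, fun q => rfl, fun q => rfl⟩
      · have h : (q.1.1 : G) * (x * q.1.1 * x⁻¹) = 1 := congrArg Subtype.val q.2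
        have h' : x * q.1.1 * x⁻¹ = q.1.1 := by
          rw [eq_inv_of_mul_eq_one_right h]
          exact inv_eq_of_mul_eq_one_right (hQel _ q.1.2)
        exact (mul_inv_eq_iff_eq_mul.1 h').symm
      · show q.1 * (x * q.1 * x⁻¹) = 1
        rw [← mem_centralizer_singleton_iff.1 q.2.2, mul_inv_cancel_right, hQel _ q.2.1]
    have hran : Nat.card σh.range ≤ Nat.card F := by
      refine Nat.card_le_card_of_injective (fun q => (⟨q.1.1, q.1.2, ?_⟩ : F))
        fun a b e => Subtype.ext (Subtype.ext (congrArg (fun y : F => y.1) e))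
      obtain ⟨p, hp⟩ := q.2
      rw [← hp]
      refine mem_centralizer_singleton_iff.2 ?_
      show (p : G) * (x * p * x⁻¹) * x = x * ((p : G) * (x * p * x⁻¹))
      rw [hQab _ p.2 _ (hQnorm x hxM p p.2)]
      calc x * p * x⁻¹ * p * x = x * (p * x⁻¹) * p * x := by group
        _ = x * (p * x * p * x) := by rw [hxi]; group
        _ = x * (x * p * x⁻¹ * p) := by
          have h := hQab _ p.2 _ (hQnorm x hxM p p.2)
          rw [hxi] at h ⊢
          calc x * (p * x * p * x) = x * (p * (x * p * x)) := by group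
            _ = x * (x * p * x * p) := by rw [h]
    have hmul : Nat.card σh.ker * Nat.card σh.range = 8 := by
      rw [← Subgroup.index_ker, Subgroup.card_mul_index, hQc]
    have hF8 : Nat.card F ∣ 8 := hQc ▸ card_dvd_of_le inf_le_left
    have hne : Nat.card F ≠ 8 := by
      intro h8
      have hFQ : F = Q := Subgroup.eq_of_le_of_card_ge inf_le_left (by rw [hQc, h8])
      have hcentral : ∀ q ∈ Q, x * q = q * x := fun q hq =>
        (mem_centralizer_singleton_iff.1 (hFQ.symm ▸ hq : q ∈ F).2).symm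
      have hxQ : x ∉ Q := fun h => hxC (hQC h)
      have hsq : ∀ s : G, (s ∈ Q ∨ x * s ∈ Q) → s * s = 1 := by
        rintro s (h | h)
        · exact hQel s h
        · have hs : s = x * (x * s) := by rw [← mul_assoc, hx2, one_mul]
          rw [hs, (show Commute x (x * s) from hcentral _ h).symm.mul_mul_mul_comm, hx2, one_mul,
            hQel _ h]
      let S : Subgroup G :=
        { carrier := {s | s ∈ Q ∨ x * s ∈ Q}
          one_mem' := Or.inl Q.one_mem
          mul_mem' := fun {a b} ha hb => by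
            rcases ha with ha | ha <;> rcases hb with hb | hb
            · exact Or.inl (Q.mul_mem ha hb)
            · refine Or.inr ?_
              rw [← mul_assoc, hcentral a ha, mul_assoc]
              exact Q.mul_mem ha hb
            · exact Or.inr (by rw [← mul_assoc]; exact Q.mul_mem ha hb)
            · refine Or.inl ?_
              have : a * b = (x * a) * (x * b) := by
                calc a * b = (x * x) * a * b := by rw [hx2, one_mul]
                  _ = (x * (x * a)) * b := by group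
                  _ = ((x * a) * x) * b := by rw [hcentral _ ha]
                  _ = (x * a) * (x * b) := by group
              rw [this]
              exact Q.mul_mem ha hb
          inv_mem' := fun {a} ha => by
            rw [inv_eq_of_mul_eq_one_right (hsq a ha)]
            exact ha }
      have hS16 : Nat.card S = 16 := by
        have h : Nat.card (Bool × Q) = Nat.card S := by
          refine Nat.card_eq_of_bijective (fun p => ⟨cond p.1 (x * p.2.1) p.2.1, ?_⟩) ⟨?_, ?_⟩
          · cases p.1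
            · exact Or.inl p.2.2
            · exact Or.inr (show x * (x * p.2.1) ∈ Q by rw [← mul_assoc, hx2, one_mul]; exact p.2.2)
          · rintro ⟨b, q⟩ ⟨b', q'⟩ e
            have e' := congrArg Subtype.val e
            cases b <;> cases b' <;> simp only [cond_true, cond_false] at e'
            · exact Prod.ext rfl (Subtype.ext e')
            · refine absurd ?_ hxQ
              have : x = q.1 * (q'.1)⁻¹ := by rw [e']; group
              rw [this]; exact Q.mul_mem q.2 (Q.inv_mem q'.2)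
            · refine absurd ?_ hxQ
              have : x = q'.1 * (q.1)⁻¹ := by rw [← e']; group
              rw [this]; exact Q.mul_mem q'.2 (Q.inv_mem q.2)
            · exact Prod.ext rfl (Subtype.ext (mul_left_cancel e'))
          · rintro ⟨s, hs | hs⟩
            · exact ⟨(false, ⟨s, hs⟩), rfl⟩
            · exact ⟨(true, ⟨x * s, hs⟩), Subtype.ext (show x * (x * s) = s by
                rw [← mul_assoc, hx2, one_mul])⟩
        rw [← h, Nat.card_prod, hQc, Nat.card_eq_fintype_card, Fintype.card_bool]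
      obtain ⟨s, hs, hs2⟩ := horder4 S hS16
      exact hs2 (hsq s hs)
    have hpos : 0 < Nat.card σh.range := Nat.card_pos
    rw [hker] at hmul
    have hmem : Nat.card F ∈ Nat.divisors 8 := Nat.mem_divisors.2 ⟨hF8, by norm_num⟩
    rw [show Nat.divisors 8 = {1, 2, 4, 8} by decide] at hmem
    simp only [Finset.mem_insert, Finset.mem_singleton] at hmem
    rcases hmem with h | h | h | h
    · rw [h] at hmul hran; omega
    · rw [h] at hmul hran; omega
    · exact h
    · exact absurd h hne
  -- orbits under `C(t)` have eighteen elements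
  let orb : G → Finset G := fun x => Finset.univ.filter fun y => ∃ k ∈ C, k * x * k⁻¹ = y
  have horb : ∀ x ∈ Oall, (orb x).card = 18 ∧ orb x ⊆ Oall := by
    intro x hx
    obtain ⟨hxM, hxC, hx2⟩ := (hOmem x).1 hx
    have hxi : x⁻¹ = x := inv_eq_of_mul_eq_one_right hx2
    have hxt : x * t * x⁻¹ = t⁻¹ := by
      have h := (Subgroup.mem_normalizer_iff.1 hxM t).1 (mem_zpowers t)
      rw [mem_zpowers_iff_mem_range_orderOf, h3, Finset.mem_image] at h
      obtain ⟨i, hi, he⟩ := h
      rw [Finset.mem_range] at hi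
      interval_cases i
      · rw [pow_zero, eq_comm, conj_eq_one_iff] at he
        exact absurd he ht1
      · rw [pow_one] at he
        exact absurd (mem_centralizer_singleton_iff.2 (mul_inv_eq_iff_eq_mul.1 he.symm)) hxC
      · rw [← he]
        exact eq_inv_of_mul_eq_one_left (by
          rw [← pow_succ]; exact orderOf_dvd_iff_pow_eq_one.1 (dvd_of_eq h3))
    -- no element of order three of `C(t)` commutes with `x`
    have hno : ∀ y, y ∈ C → x * y = y * x → orderOf y ≠ 3 := by
      intro y hy hxy hy3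
      have hyt : y ∉ zpowers t := by
        intro h
        rw [mem_zpowers_iff_mem_range_orderOf, h3, Finset.mem_image] at h
        obtain ⟨i, hi, rfl⟩ := h
        rw [Finset.mem_range] at hi
        interval_cases i
        · rw [pow_zero, orderOf_one] at hy3; omega
        · rw [pow_one] at hxy
          exact hxC (mem_centralizer_singleton_iff.2 hxy)
        · have h4 : Commute x (t ^ 2) := hxy
          have h5 : t⁻¹ = t ^ 2 := (eq_inv_of_mul_eq_one_left (by
            rw [← pow_succ]; exact orderOf_dvd_iff_pow_eq_one.1 (dvd_of_eq h3))).symm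
          rw [← h5] at h4
          exact hxC (mem_centralizer_singleton_iff.2 (inv_inv t ▸ h4.inv_right).eq)
      set Tt : Subgroup G := zpowers t ⊔ zpowers y
      have hp : IsPGroup 3 Tt := by
        refine (IsPGroup.of_card (n := 1) (by rw [Nat.card_zpowers, h3, pow_one])).to_sup_of_normal_left'
          (IsPGroup.of_card (n := 1) (by rw [Nat.card_zpowers, hy3, pow_one])) ?_
        rw [zpowers_le]
        exact hCM hy
      obtain ⟨T', hT'⟩ := hp.exists_le_sylow
      have htT' : t ∈ T' := hT' (mem_sup_left (mem_zpowers t))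
      have hyT' : y ∈ T' := hT' (mem_sup_right (mem_zpowers y))
      have hgen : (T' : Subgroup G) = Tt := by
        refine (Subgroup.eq_of_le_of_card_ge hT' ?_).symm
        obtain ⟨q, hq⟩ := card_dvd_of_le (le_sup_left : zpowers t ≤ Tt)
        have hd := card_dvd_of_le hT'
        rw [hq, Nat.card_zpowers, h3, card_three_sylow hM T', show 9 = 3 * 3 by norm_num] at hd
        rcases (Nat.dvd_prime (by norm_num : Nat.Prime 3)).1
          (Nat.dvd_of_mul_dvd_mul_left (by norm_num) hd) with rfl | rfl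
        · exfalso
          refine hyt ?_
          rw [Subgroup.eq_of_le_of_card_ge (le_sup_left : zpowers t ≤ Tt) (by rw [hq, mul_one])]
          exact mem_sup_right (mem_zpowers y)
        · rw [hq, Nat.card_zpowers, h3, card_three_sylow hM T']
      have hxN : x ∈ sylN T' := by
        have hfix : ∀ z ∈ Tt, x * z * x⁻¹ ∈ Tt := by
          intro z hz
          have : Tt ≤ Tt.comap (MulAut.conj x).toMonoidHom := sup_le
            (zpowers_le.2 (by
              show x * t * x⁻¹ ∈ Tt
              rw [hxt]; exact Tt.inv_mem (mem_sup_left (mem_zpowers t))))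
            (zpowers_le.2 (by
              show x * y * x⁻¹ ∈ Tt
              rw [hxy, mul_inv_cancel_right]; exact mem_sup_right (mem_zpowers y)))
          exact this hz
        refine Subgroup.mem_normalizer_iff.2 fun z => ?_
        rw [hgen]
        refine ⟨hfix z, fun hz => ?_⟩
        have := hfix _ hz
        rw [hxi] at this
        rwa [show x * (x * z * x) * x = (x * x) * z * (x * x) by group, hx2, one_mul,
          mul_one] at this
      have hN' : Nat.card (sylN T') = 36 := by
        have h1 := CfsgLib.SmallGroups.card_sylow_mul_card_normalizer T'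
        have h2 := CfsgLib.SmallGroups.card_sylow_mul_card_normalizer T
        have hN'' : Nat.card (normalizer ((T : Subgroup G) : Set G)) = 36 := hN
        rw [hN'', hM.2] at h2
        rw [hM.2] at h1
        have hcard : Nat.card (Sylow 3 G) = 220 := by omega
        rw [hcard] at h1
        show Nat.card (normalizer ((T' : Subgroup G) : Set G)) = 36
        omega
      have hy1 : y ≠ 1 := fun e => by rw [e, orderOf_one] at hy3; omega
      rcases orb_cases_small hM hN' hyT' hy1 with ⟨hCN', -, -⟩ | ⟨-, h', -⟩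
      · have heq : sylC T' = sylCN T' y := Subgroup.eq_of_le_of_card_ge (sylC_le_CN T' hyT')
          (by rw [hCN', card_sylC hM T'])
        have hxC' : x ∈ sylC T' := heq ▸ (⟨hxN, mem_centralizer_singleton_iff.2 hxy⟩ : x ∈ sylCN T' y)
        exact hxC (mem_centralizer_singleton_iff.2 (commute_sylC hxC' htT'))
      · have := (orbCount_facts hM T' hyT' hy1).2.1
        rw [sylD_eq hM T T', hD] at h'
        omega
    set Cx : Subgroup G := C ⊓ centralizer ({x} : Set G)
    have hCx : Cx = Q ⊓ centralizer ({x} : Set G) := by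
      refine le_antisymm (fun k hk => ⟨hmemQ k (mem_centralizer_singleton_iff.1 hk.1) ?_, hk.2⟩)
        (inf_le_inf_right _ hQC)
      have hd : orderOf k ∣ 72 := hC72 ▸ Subgroup.orderOf_dvd_natCard _ hk.1
      have hcop : ¬ 3 ∣ orderOf k := fun h3k => by
        refine hno (k ^ (orderOf k / 3)) (C.pow_mem hk.1 _)
          ((show Commute x k from (mem_centralizer_singleton_iff.1 hk.2).symm).pow_right _) ?_
        rw [orderOf_pow_orderOf_div (orderOf_pos k).ne' h3k]
      have h8 : orderOf k ∣ 8 := by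
        have hc9 : Nat.Coprime (orderOf k) 9 := by
          rw [show 9 = 3 ^ 2 by norm_num]
          exact Nat.Coprime.pow_right _ ((Nat.Prime.coprime_iff_not_dvd (by norm_num)).2 hcop).symm
        exact hc9.dvd_of_dvd_mul_right (show orderOf k ∣ 8 * 9 from hd)
      exact orderOf_dvd_iff_pow_eq_one.1 (h8.trans (by norm_num))
    refine ⟨?_, ?_⟩
    · have hmul : (orb x).card * Nat.card Cx = 72 := by
        rw [← hC72]
        let ψ : C → {y : G // ∃ k ∈ C, k * x * k⁻¹ = y} := fun k => ⟨_, k.1, k.2, rfl⟩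
        rw [← Fintype.card_subtype, ← Nat.card_congr (Equiv.sigmaFiberEquiv ψ), Nat.card_sigma,
          Finset.sum_congr rfl (g := fun _ => Nat.card Cx), Finset.sum_const, smul_eq_mul,
          Finset.card_univ]
        rintro ⟨y, g0, hg0C, hg0⟩ -
        refine Nat.card_congr ⟨fun g => ⟨g0⁻¹ * g.1.1, C.mul_mem (C.inv_mem hg0C) g.1.2, ?_⟩,
          fun h => ⟨⟨g0 * h.1, C.mul_mem hg0C h.2.1⟩, Subtype.ext ?_⟩,
          fun g => Subtype.ext (Subtype.ext (mul_inv_cancel_left _ _)),
          fun h => Subtype.ext (inv_mul_cancel_left _ _)⟩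
        · refine mem_centralizer_singleton_iff.2 ?_
          have he : g.1.1 * x * g.1.1⁻¹ = g0 * x * g0⁻¹ := (congrArg Subtype.val g.2).trans hg0.symm
          calc g0⁻¹ * g.1.1 * x = g0⁻¹ * (g.1.1 * x * g.1.1⁻¹) * g.1.1 := by group
            _ = x * (g0⁻¹ * g.1.1) := by rw [he]; group
        · show g0 * h.1 * x * (g0 * h.1)⁻¹ = y
          have hh : h.1 * x = x * h.1 := mem_centralizer_singleton_iff.1 h.2.2
          rw [← hg0, mul_assoc g0, hh]
          group
      rw [hCx, hCQx x hx] at hmul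
      omega
    · intro y hy
      obtain ⟨k, hk, rfl⟩ := (Finset.mem_filter.1 hy).2
      refine (hOmem _).2 ⟨M.mul_mem (M.mul_mem (hCM hk) hxM) (M.inv_mem (hCM hk)), fun h => hxC ?_, ?_⟩
      · have := C.mul_mem (C.mul_mem (C.inv_mem hk) h) hk
        simpa [mul_assoc] using this
      · calc k * x * k⁻¹ * (k * x * k⁻¹) = k * (x * x) * k⁻¹ := by group
          _ = 1 := by rw [hx2]; group
  -- at most 36 of them
  have hO36 : Oall.card ≤ 36 := by
    let outer : Finset G := Finset.univ.filter fun x => x ∈ M ∧ x ∉ C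
    have houter : outer.card = 72 := by
      have h : outer = (Finset.univ.filter fun x => x ∈ M) \ (Finset.univ.filter fun x => x ∈ C) := by
        ext x; simp [outer]
      rw [h, Finset.card_sdiff_of_subset (fun x hx =>
        Finset.mem_filter.2 ⟨Finset.mem_univ _, hCM (Finset.mem_filter.1 hx).2⟩),
        ← Fintype.card_subtype, ← Fintype.card_subtype, ← Nat.card_eq_fintype_card,
        ← Nat.card_eq_fintype_card, hMc, hC72]
    let q : G → G ⧸ Q := QuotientGroup.mk
    have hfib : ∀ b ∈ outer.image q, 8 ≤ (outer.filter fun x => q x = b).card := by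
      intro b hb
      obtain ⟨x, hx, rfl⟩ := Finset.mem_image.1 hb
      obtain ⟨hxM, hxC⟩ := (Finset.mem_filter.1 hx).2
      have hcard : (Finset.univ.filter fun k : G => k ∈ Q).card = 8 := by
        rw [← Fintype.card_subtype, ← Nat.card_eq_fintype_card]; exact hQc
      rw [← hcard]
      refine Finset.card_le_card_of_injOn (fun k => x * k) (fun k hk => ?_)
        fun a _ b _ e => mul_left_cancel e
      have hk' : k ∈ Q := (Finset.mem_filter.1 hk).2
      refine Finset.mem_filter.2 ⟨Finset.mem_filter.2 ⟨Finset.mem_univ _, M.mul_mem hxM (hCM (hQC hk')),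
        fun h => hxC ?_⟩, ?_⟩
      · have := C.mul_mem h (C.inv_mem (hQC hk'))
        rwa [mul_inv_cancel_right] at this
      · show q (x * k) = q x
        exact QuotientGroup.eq.2 (by simpa using Q.inv_mem hk')
    have himg : (outer.image q).card * 8 ≤ 72 := by
      rw [← houter, Finset.card_eq_sum_card_image q outer, ← smul_eq_mul]
      exact Finset.card_nsmul_le_sum _ _ _ hfib
    have hfib4 : ∀ b ∈ Oall.image q, (Oall.filter fun x => q x = b).card ≤ 4 := by
      intro b hb
      obtain ⟨x, hx, rfl⟩ := Finset.mem_image.1 hb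
      obtain ⟨hxM, hxC, hx2⟩ := (hOmem x).1 hx
      have hcard : (Finset.univ.filter fun k : G => k ∈ Q ⊓ centralizer ({x} : Set G)).card = 4 := by
        rw [← Fintype.card_subtype, ← Nat.card_eq_fintype_card]; exact hCQx x hx
      rw [← hcard]
      refine Finset.card_le_card_of_injOn (fun y => x⁻¹ * y) (fun y hy => ?_)
        fun a _ b _ e => mul_left_cancel e
      obtain ⟨hyO, hyq⟩ := Finset.mem_filter.1 hy
      obtain ⟨-, -, hy2⟩ := (hOmem y).1 hyO
      have hk : x⁻¹ * y ∈ Q := QuotientGroup.eq.1 hyq.symm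
      refine Finset.mem_filter.2 ⟨Finset.mem_univ _, hk, mem_centralizer_singleton_iff.2 ?_⟩
      -- `y = x k` is an involution, so `k` commutes with `x`
      have hk2 : x⁻¹ * y * (x⁻¹ * y) = 1 := hQel _ hk
      rw [inv_eq_of_mul_eq_one_right hx2] at hk2 ⊢
      have h1 : x * y = y * x := by
        calc x * y = x * y * 1 := (mul_one _).symm
          _ = x * y * (x * x) * 1 := by rw [hx2]; group
          _ = (x * y * (x * y)) * y⁻¹ * x := by group
          _ = y * x := by rw [hk2, one_mul, inv_eq_of_mul_eq_one_right hy2]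
      calc x * y * x = x * (y * x) := mul_assoc x y x
        _ = x * (x * y) := by rw [h1]
    have h2 : Oall.card ≤ (Oall.image q).card * 4 := by
      rw [Finset.card_eq_sum_card_image q Oall, ← smul_eq_mul]
      exact Finset.sum_le_card_nsmul _ _ _ hfib4
    have h3' : (Oall.image q).card ≤ (outer.image q).card := Finset.card_le_card
      (Finset.image_subset_image fun x hx =>
        Finset.mem_filter.2 ⟨Finset.mem_univ _, ((hOmem x).1 hx).1, ((hOmem x).1 hx).2.1⟩)
    omega
  -- class counts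
  let I : G → Finset G := fun w => Finset.univ.filter fun h => h ∈ Q ∧ IsConj w h
  let O : G → Finset G := fun w => Oall.filter fun h => IsConj w h
  have hO18 : ∀ w, (O w).card = 0 ∨ (O w).card = 18 ∨ (O w).card = 36 := by
    intro w
    have hsubO : ∀ x ∈ O w, orb x ⊆ O w := by
      intro x hx y hy
      obtain ⟨hxO, hc⟩ := Finset.mem_filter.1 hx
      refine Finset.mem_filter.2 ⟨(horb x hxO).2 hy, ?_⟩
      obtain ⟨k, -, rfl⟩ := (Finset.mem_filter.1 hy).2
      exact hc.trans (isConj_iff.2 ⟨k, rfl⟩)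
    have hle : (O w).card ≤ 36 := (Finset.card_le_card (Finset.filter_subset _ _)).trans hO36
    rcases (O w).eq_empty_or_nonempty with h | ⟨x, hx⟩
    · exact Or.inl (by rw [h, Finset.card_empty])
    have hx18 := horb x (Finset.mem_filter.1 hx).1
    by_cases hall' : O w ⊆ orb x
    · refine Or.inr (Or.inl ?_)
      rw [Finset.Subset.antisymm hall' (hsubO x hx)]
      exact hx18.1
    · obtain ⟨y, hy, hyn⟩ := Finset.not_subset.1 hall'
      refine Or.inr (Or.inr (le_antisymm hle ?_))
      have hdisj : Disjoint (orb x) (orb y) := by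
        rw [Finset.disjoint_left]
        intro z hz hz'
        obtain ⟨k, hk, rfl⟩ := (Finset.mem_filter.1 hz).2
        obtain ⟨l, hl, hle'⟩ := (Finset.mem_filter.1 hz').2
        refine hyn (Finset.mem_filter.2 ⟨Finset.mem_univ _, l⁻¹ * k, C.mul_mem (C.inv_mem hl) hk, ?_⟩)
        calc l⁻¹ * k * x * (l⁻¹ * k)⁻¹ = l⁻¹ * (k * x * k⁻¹) * l := by group
          _ = y := by rw [← hle']; group
      have hsum' := Finset.card_le_card (Finset.union_subset (hsubO x hx) (hsubO y hy))
      rw [Finset.card_union_of_disjoint hdisj, hx18.1, (horb y (Finset.mem_filter.1 hy).1).1] at hsum'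
      exact hsum'
  have hcount : ∀ w, orderOf w = 2 → conjCount M w = (I w).card + (O w).card := by
    intro w hw
    have hdisj : Disjoint (I w) (O w) := by
      rw [Finset.disjoint_left]
      intro h h1 h2
      exact ((hOmem h).1 (Finset.mem_filter.1 h2).1).2.1 (hQC (Finset.mem_filter.1 h1).2.1)
    rw [← Finset.card_union_of_disjoint hdisj, conjCount, Nat.card_eq_fintype_card, Fintype.card_subtype]
    congr 1
    ext h
    simp only [Finset.mem_filter, Finset.mem_univ, true_and, Finset.mem_union, I, O, hOmem]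
    constructor
    · rintro ⟨hM', hc⟩
      obtain ⟨ho, hsq⟩ := orderOf_conj_eq hw hc
      by_cases hC' : h ∈ C
      · refine Or.inl ⟨hmemQ h (mem_centralizer_singleton_iff.1 hC') ?_, hc⟩
        rw [show 16 = 2 * 8 by norm_num, pow_mul, sq, hsq, one_pow]
      · exact Or.inr ⟨⟨hM', hC', hsq⟩, hc⟩
    · rintro (⟨hq, hc⟩ | ⟨⟨hM', -, -⟩, hc⟩)
      · exact ⟨hCM (hQC hq), hc⟩
      · exact ⟨hM', hc⟩
  have hmod3 : ∀ w, orderOf w = 2 →
      (I w).card % 3 = if IsConj w d then 1 else 0 := by
    intro w hw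
    have hmod := card_modEq_conj hT3 (↑(I w) : Set G) fun k hk s hs => by
      obtain ⟨hsQ, hc⟩ := (Finset.mem_filter.1 (Finset.mem_coe.1 hs)).2
      exact Finset.mem_coe.2 (Finset.mem_filter.2 ⟨Finset.mem_univ _, hQnorm k (hTM hk) s hsQ,
        hc.trans (isConj_iff.2 ⟨k, rfl⟩)⟩)
    rw [Nat.card_coe_set_eq (↑(I w) : Set G), Set.ncard_coe_finset, Nat.card_coe_set_eq] at hmod
    have hF : {s : G | s ∈ (↑(I w) : Set G) ∧ ∀ k ∈ (T : Subgroup G), k * s = s * k} =
        if IsConj w d then {d} else ∅ := by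
      split_ifs with hwd
      · refine Set.eq_singleton_iff_unique_mem.2 ⟨⟨Finset.mem_coe.2 (Finset.mem_filter.2
          ⟨Finset.mem_univ _, hdQ, hwd⟩), fun k hk => (commute_sylC hdmem.1 hk).symm⟩, ?_⟩
        rintro s ⟨hs, hks⟩
        obtain ⟨hsQ, hc⟩ := (Finset.mem_filter.1 (Finset.mem_coe.1 hs)).2
        refine (hfixed s hsQ hks).resolve_left fun e => ?_
        have := (orderOf_conj_eq hw hc).1
        rw [e, orderOf_one] at this
        omega
      · refine Set.eq_empty_iff_forall_notMem.2 ?_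
        rintro s ⟨hs, hks⟩
        obtain ⟨hsQ, hc⟩ := (Finset.mem_filter.1 (Finset.mem_coe.1 hs)).2
        rcases hfixed s hsQ hks with e | e
        · have := (orderOf_conj_eq hw hc).1
          rw [e, orderOf_one] at this
          omega
        · exact hwd (e ▸ hc)
    rw [hF] at hmod
    split_ifs at hmod ⊢ <;> simpa [Nat.ModEq] using hmod
  have hI7 : ∀ ws : Finset G, (∀ w ∈ ws, orderOf w = 2) →
      (∀ a ∈ ws, ∀ b ∈ ws, IsConj a b → a = b) → ∑ w ∈ ws, (I w).card ≤ 7 := by
    intro ws hw hwc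
    rw [← Finset.card_biUnion (by
      intro a ha b hb hne
      rw [Function.onFun, Finset.disjoint_left]
      intro g hg hg'
      exact hne (hwc a ha b hb ((Finset.mem_filter.1 hg).2.2.trans (Finset.mem_filter.1 hg').2.2.symm)))]
    have h7 : ((Finset.univ.filter fun x => x ∈ Q).erase 1).card = 7 := by
      rw [Finset.card_erase_of_mem (by simp [one_mem]), ← Fintype.card_subtype,
        ← Nat.card_eq_fintype_card, hQc]
    rw [← h7]
    refine Finset.card_le_card fun g hg => ?_
    obtain ⟨a, ha, hg⟩ := Finset.mem_biUnion.1 hg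
    obtain ⟨hgQ, hc⟩ := (Finset.mem_filter.1 hg).2
    refine Finset.mem_erase.2 ⟨fun e => ?_, Finset.mem_filter.2 ⟨Finset.mem_univ _, hgQ⟩⟩
    have := (orderOf_conj_eq (hw a ha) hc).1
    rw [e, orderOf_one] at this
    omega
  have hOsum : ∀ a b, ¬ IsConj a b → (O a).card + (O b).card ≤ 36 := by
    intro a b hne
    rw [← Finset.card_union_of_disjoint (by
      rw [Finset.disjoint_left]
      intro g hg hg'
      exact hne ((Finset.mem_filter.1 hg).2.trans (Finset.mem_filter.1 hg').2.symm))]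
    exact (Finset.card_le_card (Finset.union_subset (Finset.filter_subset _ _)
      (Finset.filter_subset _ _))).trans hO36
  have hOsum3 : ∀ a b w, ¬ IsConj a b → ¬ IsConj a w → ¬ IsConj b w →
      (O a).card + (O b).card + (O w).card ≤ 36 := by
    intro a b w hab haw hbw
    rw [← Finset.card_union_of_disjoint (by
      rw [Finset.disjoint_left]
      intro g hg hg'
      exact hab ((Finset.mem_filter.1 hg).2.trans (Finset.mem_filter.1 hg').2.symm)),
      ← Finset.card_union_of_disjoint (by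
      rw [Finset.disjoint_left]
      intro g hg hg'
      rcases Finset.mem_union.1 hg with hg | hg
      · exact haw ((Finset.mem_filter.1 hg).2.trans (Finset.mem_filter.1 hg').2.symm)
      · exact hbw ((Finset.mem_filter.1 hg).2.trans (Finset.mem_filter.1 hg').2.symm))]
    exact (Finset.card_le_card (Finset.union_subset (Finset.union_subset (Finset.filter_subset _ _)
      (Finset.filter_subset _ _)) (Finset.filter_subset _ _))).trans hO36
  -- `v'` lies in `Q`
  have hv'sq := orderOf_conj_eq hv.1 hv'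
  have hv'Q : v' ∈ Q := hmemQ v' hcomm (by
    rw [show 16 = 2 * 8 by norm_num, pow_mul, sq, hv'sq.2, one_pow])
  have hIvpos : 0 < (I v).card :=
    Finset.card_pos.2 ⟨v', Finset.mem_filter.2 ⟨Finset.mem_univ _, hv'Q, hv'⟩⟩
  have hIdpos : 0 < (I d).card :=
    Finset.card_pos.2 ⟨d, Finset.mem_filter.2 ⟨Finset.mem_univ _, hdQ, IsConj.refl d⟩⟩
  have hMc' : Nat.card M = 144 := hMc
  obtain ⟨f, hf', hfeq⟩ := parity_index_55 hM hMc' hv.1
  rw [hv48, hcount v hv.1] at hfeq
  obtain ⟨g, hg', hgeq⟩ := parity_index_55 hM hMc' hd2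
  rw [hd144, hcount d hd2] at hgeq
  have hmv := hmod3 v hv.1
  rw [if_neg hvd] at hmv
  have hmd := hmod3 d hd2
  rw [if_pos (IsConj.refl d)] at hmd
  have h7 := hI7 {v, d} (by
      intro w hw
      simp only [Finset.mem_insert, Finset.mem_singleton] at hw
      rcases hw with rfl | rfl
      · exact hv.1
      · exact hd2) (by
      intro a ha b hb hab
      simp only [Finset.mem_insert, Finset.mem_singleton] at ha hb
      rcases ha with rfl | rfl <;> rcases hb with rfl | rfl <;> first
        | rfl | exact absurd hab hvd | exact absurd hab.symm hvd)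
  have hvd' : v ≠ d := fun e => hvd (e ▸ IsConj.refl v)
  rw [Finset.sum_pair hvd'] at h7
  have hO2' := hOsum v d hvd
  obtain ⟨hIv, hOv, hId, hOd⟩ :
      (I v).card = 3 ∧ (O v).card = 18 ∧ (I d).card = 1 ∧ (O d).card = 18 := by
    rcases hO18 v with h1 | h1 | h1 <;> rcases hO18 d with h2 | h2 | h2 <;>
      rw [h1] at hfeq hO2' ⊢ <;> rw [h2] at hgeq hO2' ⊢ <;> omega
  -- the third class
  set u := d * v' with hudef
  have hdv : Commute d v' := (hdc v' hv'Q).symm
  have huQ : u ∈ Q := Q.mul_mem hdQ hv'Q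
  have hu1 : u ≠ 1 := by
    intro e
    have : d = v' := by
      calc d = d * (v' * v') := by rw [hv'sq.2, mul_one]
        _ = u * v' := by rw [hudef, mul_assoc]
        _ = v' := by rw [e, one_mul]
    exact hvd (this ▸ hv')
  have hu2 : orderOf u = 2 := orderOf_eq_prime (by rw [sq]; exact hQel u huQ) hu1
  have hud : ¬ IsConj d u := by
    intro h
    have hmem : u ∈ I d := Finset.mem_filter.2 ⟨Finset.mem_univ _, huQ, h⟩
    have := Finset.card_le_one.1 (le_of_eq hId) u hmem d
      (Finset.mem_filter.2 ⟨Finset.mem_univ _, hdQ, IsConj.refl d⟩)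
    have hv1 : v' = 1 := mul_eq_left.1 this
    exact (inv_facts hv'sq.1).2.1 hv1
  have hvu : ¬ IsConj v u := by
    intro h
    -- the orbit of `v'` under `T` is the whole of `I v`
    let K : Subgroup G := (T : Subgroup G) ⊓ centralizer ({v'} : Set G)
    let orbT : Finset G := Finset.univ.filter fun y => ∃ k ∈ (T : Subgroup G), k * v' * k⁻¹ = y
    have hsubI : orbT ⊆ I v := by
      intro y hy
      obtain ⟨k, hk, rfl⟩ := (Finset.mem_filter.1 hy).2
      exact Finset.mem_filter.2 ⟨Finset.mem_univ _, hQnorm k (hTM hk) v' hv'Q,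
        hv'.trans (isConj_iff.2 ⟨k, rfl⟩)⟩
    have hu' : u ∈ orbT := by
      have hmul : orbT.card * Nat.card K = 9 := by
        rw [← card_three_sylow hM T]
        let ψ : ↥(T : Subgroup G) → {y : G // ∃ k ∈ (T : Subgroup G), k * v' * k⁻¹ = y} :=
          fun k => ⟨_, k.1, k.2, rfl⟩
        rw [← Fintype.card_subtype, ← Nat.card_congr (Equiv.sigmaFiberEquiv ψ), Nat.card_sigma,
          Finset.sum_congr rfl (g := fun _ => Nat.card K), Finset.sum_const, smul_eq_mul,
          Finset.card_univ]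
        rintro ⟨y, g0, hg0C, hg0⟩ -
        refine Nat.card_congr ⟨fun g => ⟨g0⁻¹ * g.1.1, (T : Subgroup G).mul_mem
            ((T : Subgroup G).inv_mem hg0C) g.1.2, ?_⟩,
          fun h => ⟨⟨g0 * h.1, (T : Subgroup G).mul_mem hg0C h.2.1⟩, Subtype.ext ?_⟩,
          fun g => Subtype.ext (Subtype.ext (mul_inv_cancel_left _ _)),
          fun h => Subtype.ext (inv_mul_cancel_left _ _)⟩
        · refine mem_centralizer_singleton_iff.2 ?_
          have he : g.1.1 * v' * g.1.1⁻¹ = g0 * v' * g0⁻¹ :=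
            (congrArg Subtype.val g.2).trans hg0.symm
          calc g0⁻¹ * g.1.1 * v' = g0⁻¹ * (g.1.1 * v' * g.1.1⁻¹) * g.1.1 := by group
            _ = v' * (g0⁻¹ * g.1.1) := by rw [he]; group
        · show g0 * h.1 * v' * (g0 * h.1)⁻¹ = y
          have hh : h.1 * v' = v' * h.1 := mem_centralizer_singleton_iff.1 h.2.2
          rw [← hg0, mul_assoc g0, hh]
          group
      have hne : Nat.card K ≠ 9 := by
        intro h9
        have heq : K = (T : Subgroup G) :=
          Subgroup.eq_of_le_of_card_ge inf_le_left (by rw [h9, card_three_sylow hM T])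
        exact hv.not_mem_sylC hM T hv' (mem_centralizer_iff.2 fun k hk =>
          mem_centralizer_singleton_iff.1 (heq.symm ▸ hk : k ∈ K).2)
      have hle3 : orbT.card ≤ 3 := hIv ▸ Finset.card_le_card hsubI
      have h3' : orbT.card = 3 := by
        have hd9 : orbT.card ∈ Nat.divisors 9 := Nat.mem_divisors.2 ⟨Dvd.intro _ hmul, by norm_num⟩
        rw [show Nat.divisors 9 = {1, 3, 9} by decide] at hd9
        simp only [Finset.mem_insert, Finset.mem_singleton] at hd9
        rcases hd9 with h' | h' | h'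
        · rw [h', one_mul] at hmul; exact absurd hmul hne
        · exact h'
        · omega
      rw [Finset.eq_of_subset_of_card_le hsubI (by omega)]
      exact Finset.mem_filter.2 ⟨Finset.mem_univ _, huQ, h⟩
    obtain ⟨k, hk, hku⟩ := (Finset.mem_filter.1 hu').2
    have hkd : k * d * k⁻¹ = d := by rw [← commute_sylC hdmem.1 hk, mul_inv_cancel_right]
    have hstep : ∀ j : ℕ, k ^ (2 * j + 1) * v' * (k ^ (2 * j + 1))⁻¹ = d * v' := by
      intro j
      induction j with
      | zero => simpa [hudef] using hku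
      | succ j ih =>
        calc k ^ (2 * (j + 1) + 1) * v' * (k ^ (2 * (j + 1) + 1))⁻¹
            = k * (k * (k ^ (2 * j + 1) * v' * (k ^ (2 * j + 1))⁻¹) * k⁻¹) * k⁻¹ := by
              rw [show 2 * (j + 1) + 1 = (2 * j + 1) + 1 + 1 by ring, pow_succ', pow_succ']
              simp [mul_assoc]
          _ = k * ((k * d * k⁻¹) * (k * v' * k⁻¹)) * k⁻¹ := by rw [ih]; group
          _ = k * v' * k⁻¹ := by
              rw [hkd, hku, hudef, ← mul_assoc d d, hdd, one_mul, hku, hudef]
          _ = d * v' := by rw [hku, hudef]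
    have h9 := hstep 4
    rw [show 2 * 4 + 1 = 9 by norm_num, pow_nine_of_mem hM T hk] at h9
    simp at h9
    exact hd1 h9
  have hmu := hmod3 u hu2
  rw [if_neg fun h => hud h.symm] at hmu
  have hIupos : 0 < (I u).card :=
    Finset.card_pos.2 ⟨u, Finset.mem_filter.2 ⟨Finset.mem_univ _, huQ, IsConj.refl u⟩⟩
  have h7' := hI7 {v, d, u} (by
      intro w hw
      simp only [Finset.mem_insert, Finset.mem_singleton] at hw
      rcases hw with rfl | rfl | rfl
      · exact hv.1
      · exact hd2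
      · exact hu2) (by
      intro a ha b hb hab
      simp only [Finset.mem_insert, Finset.mem_singleton] at ha hb
      rcases ha with rfl | rfl | rfl <;> rcases hb with rfl | rfl | rfl <;> first
        | rfl | exact absurd hab hvd | exact absurd hab.symm hvd | exact absurd hab hvu
        | exact absurd hab.symm hvu | exact absurd hab hud | exact absurd hab.symm hud)
  have hvu' : v ≠ u := fun e => hvu (e ▸ IsConj.refl v)
  have hdu' : d ≠ u := fun e => hud (e ▸ IsConj.refl d)
  rw [Finset.sum_insert (by simp [hvd', hvu']), Finset.sum_pair hdu', hIv, hId] at h7'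
  have hIu : (I u).card = 3 := by omega
  have hO3 := hOsum3 v d u hvd hvu hud
  have hOu : (O u).card = 0 := by omega
  obtain ⟨j, hj, hjeq⟩ := parity_index_55 hM hMc' hu2
  rw [hcount u hu2, hIu, hOu] at hjeq
  set H := centralizer ({u} : Set G) with hHdef
  have h24 : 24 ∣ Nat.card H := by
    refine (Nat.Coprime.mul_dvd_of_dvd_of_dvd (by norm_num : Nat.Coprime 8 3) ?_ ?_)
    · rw [← hQc]
      exact card_dvd_of_le fun q hq => mem_centralizer_singleton_iff.2 (hQab q hq u huQ)
    · rw [← h3]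
      exact Subgroup.orderOf_dvd_natCard _ (mem_centralizer_singleton_iff.2
        (mem_centralizer_singleton_iff.1 (hQC huQ)).symm)
  have hH144 : Nat.card H = 144 := by
    obtain ⟨q, hq⟩ := h24
    have hle := Nat.le_of_dvd (by norm_num) (centralizer_involution_dvd hM hu2)
    rw [← hHdef] at hle
    omega
  obtain ⟨P3, hP3⟩ := Sylow.exists_subgroup_card_pow_prime (G := H) 3 (n := 2)
    (by rw [hH144]; norm_num)
  obtain ⟨T', hT'⟩ := (IsPGroup.of_card (p := 3) (n := 2)
    (by rw [Subgroup.card_map_of_injective (Subgroup.subtype_injective _), hP3] :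
      Nat.card (P3.map (Subgroup.subtype _)) = 3 ^ 2)).exists_le_sylow
  have heq : P3.map (Subgroup.subtype _) = (T' : Subgroup G) := Subgroup.eq_of_le_of_card_ge hT' (by
    rw [Subgroup.card_map_of_injective (Subgroup.subtype_injective _), hP3, card_three_sylow hM T']
    norm_num)
  obtain ⟨g0, hg0⟩ := exists_conj_sylow T' T
  have hmem : g0 * u * g0⁻¹ ∈ sylC T := by
    refine mem_centralizer_iff.2 fun y hy => ?_
    have hy' : g0⁻¹ * y * g0 ∈ (T' : Subgroup G) :=
      (hg0 _).1 (by rw [show g0 * (g0⁻¹ * y * g0) * g0⁻¹ = y by group]; exact hy)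
    rw [← heq] at hy'
    have hh := mem_centralizer_singleton_iff.1 (map_subtype_le P3 hy')
    calc y * (g0 * u * g0⁻¹) = g0 * ((g0⁻¹ * y * g0) * u) * g0⁻¹ := by group
      _ = g0 * u * g0⁻¹ * y := by rw [hh]; group
  rcases honly _ hmem (by rw [conj_pow, hQ16 u huQ, mul_one, mul_inv_cancel]) with e | e
  · exact hu1 (conj_eq_one_iff.1 e)
  · exact hud (isConj_iff.2 ⟨g0, e⟩).symm

theorem sylow_three (hM : Cfsg.IsM11 G) (T : Sylow 3 G) :
    Nat.card (Sylow 3 G) = 55 ∧ Nat.card (sylN T) = 144 ∧ sylD T = 1 := by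
  rcases normalizer_three_card hM T with hN | hN
  · refine ⟨?_, hN, sylD_eq_one hM hN⟩
    have h := CfsgLib.SmallGroups.card_sylow_mul_card_normalizer T
    have hN' : Nat.card (normalizer ((T : Subgroup G) : Set G)) = 144 := hN
    rw [hN', hM.2] at h
    omega
  · exfalso
    rcases sylD_small hM hN with hD | hD
    · by_cases h : ∃ t ∈ T, t ≠ 1 ∧ orbCount T t = 2
      · obtain ⟨t, ht, ht1, hO⟩ := h
        exact small_false_A hM hN hD ht ht1 hO
      · push Not at h
        refine small_false_B hM hN hD fun t ht ht1 => ?_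
        rcases orb_cases_small hM hN ht ht1 with ⟨-, h', -⟩ | ⟨-, h', -⟩ <;> rw [hD] at h'
        · omega
        · exact absurd (by omega) (h t ht ht1)
    · exact small_false_C hM hN hD

end CfsgLib.Mathieu.Order7920
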