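import Cfsg.Agent.Lib.Mathieu.Order7920.Squares

/-!
Simple groups of order 7920: a bound from counting elements by the orders of their parts.
-/

set_option autoImplicit false

namespace CfsgLib.Mathieu.Order7920

open Subgroup MulAction
open scoped Classical

universe u

variable {G : Type u} [Group G] [Finite G]

/-- The size of a conjugacy class. -/
noncomputable def classCard (x : G) : ℕ := Nat.card {g : G | IsConj x g}

/-- The number of 2-elements centralising `y`. -/
noncomputable def twoCount (y : G) : ℕ := Nat.card {x : G | x * y = y * x ∧ x ^ 16 = 1}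

theorem classCard_mul (x : G) :
    classCard x * Nat.card (centralizer ({x} : Set G)) = Nat.card G := by
  rw [classCard]
  let ψ : G → {g : G | IsConj x g} := fun g => ⟨g * x * g⁻¹, isConj_iff.2 ⟨g, rfl⟩⟩
  have : Fintype {g : G | IsConj x g} := Fintype.ofFinite _
  rw [← Nat.card_congr (Equiv.sigmaFiberEquiv ψ), Nat.card_sigma,
    Finset.sum_congr rfl (g := fun _ => Nat.card (centralizer ({x} : Set G))), Finset.sum_const,
    smul_eq_mul, Finset.card_univ, Nat.card_eq_fintype_card]
  rintro ⟨y, hy⟩ -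
  obtain ⟨g0, hg0⟩ := isConj_iff.1 hy
  refine Nat.card_congr ⟨fun g => ⟨g0⁻¹ * g.1, ?_⟩, fun h => ⟨g0 * h.1, Subtype.ext ?_⟩,
    fun g => Subtype.ext (mul_inv_cancel_left _ _), fun h => Subtype.ext (inv_mul_cancel_left _ _)⟩
  · refine mem_centralizer_singleton_iff.2 ?_
    have he : g.1 * x * g.1⁻¹ = g0 * x * g0⁻¹ := (congrArg Subtype.val g.2).trans hg0.symm
    calc g0⁻¹ * g.1 * x = g0⁻¹ * (g.1 * x * g.1⁻¹) * g.1 := by group
      _ = x * (g0⁻¹ * g.1) := by rw [he]; group
  · show g0 * h.1 * x * (g0 * h.1)⁻¹ = y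
    have hh : h.1 * x = x * h.1 := mem_centralizer_singleton_iff.1 h.2
    rw [← hg0, mul_assoc g0, hh]
    group

theorem classCard_mul_eq (hM : Cfsg.IsM11 G) (x : G) :
    classCard x * Nat.card (centralizer ({x} : Set G)) = 7920 := hM.2 ▸ classCard_mul x

omit [Finite G] in
theorem pow_eq_of_coprime {g : G} {m n : ℕ} (h : g ^ m = 1) (h' : g ^ n = 1) (hc : Nat.Coprime m n) :
    g = 1 :=
  orderOf_eq_one_iff.1
    (Nat.eq_one_of_dvd_coprimes hc (orderOf_dvd_of_pow_eq_one h) (orderOf_dvd_of_pow_eq_one h'))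

theorem card_orderOf_eleven (hM : Cfsg.IsM11 G) : Nat.card {g : G // orderOf g = 11} = 1440 := by
  have : Fact (Nat.Prime 11) := ⟨by norm_num⟩
  rw [card_orderOf_eq (m := 720) (by rw [hM.2]) (by norm_num),
    (sylow_eleven hM (Classical.arbitrary _)).1]

theorem card_orderOf_five (hM : Cfsg.IsM11 G) : Nat.card {g : G // orderOf g = 5} = 1584 := by
  have : Fact (Nat.Prime 5) := ⟨by norm_num⟩
  rw [card_orderOf_eq (m := 1584) (by rw [hM.2]) (by norm_num), sylow_five hM]

/-- The counting bound. -/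
theorem budget (hM : Cfsg.IsM11 G) {v : G} (hv : IsSquareInv v) (Ys Ws : Finset G)
    (hY : ∀ y ∈ Ys, y ^ 9 = 1 ∧ y ≠ 1) (hYc : ∀ y ∈ Ys, ∀ y' ∈ Ys, IsConj y y' → y = y')
    (hW : ∀ w ∈ Ws, orderOf w = 2 ∧ ¬ IsConj v w)
    (hWc : ∀ w ∈ Ws, ∀ w' ∈ Ws, IsConj w w' → w = w') :
    (∑ y ∈ Ys, classCard y * twoCount y) + (3 * classCard v + ∑ w ∈ Ws, classCard w) ≤ 4895 := by
  have : Fintype G := Fintype.ofFinite G
  have hcn : ∀ S : Set G, Nat.card S = S.toFinset.card := fun S => by
    rw [Nat.card_eq_card_toFinset]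
  -- the elements with a nontrivial 3-part
  let A : G → Finset G := fun y => Finset.univ.filter fun g => ∃ c x : G,
    x * y = y * x ∧ x ^ 16 = 1 ∧ g = c * (y * x) * c⁻¹
  have hA64 : ∀ y ∈ Ys, ∀ g ∈ A y, IsConj y (g ^ 64) ∧ g ^ 144 = 1 ∧ g ^ 16 ≠ 1 := by
    intro y hy g hg
    obtain ⟨c, x, hxy, hx, rfl⟩ := (Finset.mem_filter.1 hg).2
    obtain ⟨hy9, hy1⟩ := hY y hy
    have hcomm : Commute y x := hxy.symm
    have hp : ∀ k, (c * (y * x) * c⁻¹) ^ (16 * k) = c * y ^ (16 * k) * c⁻¹ := fun k => by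
      rw [conj_pow, hcomm.mul_pow, pow_mul x 16 k, hx, one_pow, mul_one]
    have hy64 : y ^ 64 = y := by
      rw [show 64 = 9 * 7 + 1 by norm_num, pow_succ, pow_mul, hy9, one_pow, one_mul]
    refine ⟨isConj_iff.2 ⟨c, ?_⟩, ?_, ?_⟩
    · rw [show 64 = 16 * 4 by norm_num, hp, ← show 64 = 16 * 4 by norm_num, hy64]
    · rw [show 144 = 16 * 9 by norm_num, hp, pow_mul', hy9, one_pow, mul_one, mul_inv_cancel]
    · intro h
      refine hy1 ?_
      rw [show 16 = 16 * 1 by norm_num, hp] at h
      have h16 : y ^ 16 = 1 := by simpa using h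
      exact pow_eq_of_coprime hy9 h16 (by norm_num)
  have hAc : ∀ y ∈ Ys, classCard y * twoCount y ≤ (A y).card := by
    intro y hy
    obtain ⟨hy9, hy1⟩ := hY y hy
    have hy64 : y ^ 64 = y := by
      rw [show 64 = 9 * 7 + 1 by norm_num, pow_succ, pow_mul, hy9, one_pow, one_mul]
    let φ : {g : G | IsConj y g} × {x : G | x * y = y * x ∧ x ^ 16 = 1} → A y := fun p =>
      ⟨(isConj_iff.1 p.1.2).choose * (y * p.2.1) * ((isConj_iff.1 p.1.2).choose)⁻¹,
        Finset.mem_filter.2 ⟨Finset.mem_univ _, _, p.2.1, p.2.2.1, p.2.2.2, rfl⟩⟩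
    have h64 : ∀ p, (φ p).1 ^ 64 = p.1.1 := by
      intro p
      have hcomm : Commute y p.2.1 := p.2.2.1.symm
      show (_ * (y * p.2.1) * _) ^ 64 = _
      rw [conj_pow, hcomm.mul_pow, show p.2.1 ^ 64 = (p.2.1 ^ 16) ^ 4 by rw [← pow_mul],
        p.2.2.2, one_pow, mul_one, hy64]
      exact (isConj_iff.1 p.1.2).choose_spec
    have hφ : Function.Injective φ := by
      intro p q e
      have e1 : p.1 = q.1 := Subtype.ext (by rw [← h64 p, ← h64 q, e])
      obtain ⟨p1, p2⟩ := p
      obtain ⟨q1, q2⟩ := q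
      simp only at e1
      subst e1
      refine Prod.ext rfl (Subtype.ext ?_)
      exact mul_left_cancel (mul_left_cancel (mul_right_cancel (congrArg Subtype.val e)))
    refine le_of_eq_of_le ?_ ((Nat.card_le_card_of_injective φ hφ).trans (le_of_eq ?_))
    · rw [Nat.card_prod]; rfl
    · rw [Nat.card_eq_fintype_card, Fintype.card_coe]
  -- the classes of involutions and the square roots
  let V : Finset G := Finset.univ.filter fun g => IsConj v g
  let R4 : Finset G := Finset.univ.filter fun g => orderOf g = 4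
  have hV : V.card = classCard v := by
    rw [classCard, hcn]; congr 1; ext g; simp [V]
  have hR4 : 2 * classCard v ≤ R4.card := by
    obtain ⟨g, hg⟩ := hv.2
    obtain ⟨h2, hv1, -⟩ := inv_facts hv.1
    have hg4 : ∀ c : G, orderOf (c * g * c⁻¹) = 4 := by
      intro c
      rw [← MulAut.conj_apply, MulEquiv.orderOf_eq]
      refine orderOf_eq_prime_pow (p := 2) (n := 1) ?_ ?_
      · simpa [hg] using hv1
      · rw [show 2 ^ (1 + 1) = 2 * 2 by norm_num, pow_mul, hg, sq, h2]
    let root : {x : G | IsConj v x} → G := fun x =>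
      (isConj_iff.1 x.2).choose * g * ((isConj_iff.1 x.2).choose)⁻¹
    have hroot : ∀ x, root x ^ 2 = x.1 := fun x => by
      rw [conj_pow, hg]; exact (isConj_iff.1 x.2).choose_spec
    have h4 : ∀ x, orderOf (root x) = 4 := fun x => hg4 _
    let φ : {x : G | IsConj v x} × Bool → R4 := fun p =>
      ⟨cond p.2 (root p.1) (root p.1)⁻¹, Finset.mem_filter.2 ⟨Finset.mem_univ _, by
        cases p.2 <;> simp [h4]⟩⟩
    have hsq : ∀ p, (φ p).1 ^ 2 = p.1.1 := by
      rintro ⟨x, b⟩
      have hxo : x.1 * x.1 = 1 := by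
        obtain ⟨c, hc⟩ := isConj_iff.1 x.2
        rw [← hc, show c * v * c⁻¹ * (c * v * c⁻¹) = c * (v * v) * c⁻¹ by group, h2]
        group
      cases b
      · show (root x)⁻¹ ^ 2 = x.1
        rw [inv_pow, hroot, inv_eq_of_mul_eq_one_right hxo]
      · exact hroot x
    have hφ : Function.Injective φ := by
      intro p q e
      have e1 : p.1 = q.1 := Subtype.ext (by rw [← hsq p, ← hsq q, e])
      obtain ⟨p1, p2⟩ := p
      obtain ⟨q1, q2⟩ := q
      simp only at e1
      subst e1
      have hne : root p1 ≠ (root p1)⁻¹ := fun h => by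
        have := orderOf_dvd_of_pow_eq_one (x := root p1) (n := 2)
          (by rw [sq]; nth_rewrite 2 [h]; exact mul_inv_cancel _)
        rw [h4] at this
        omega
      have e' := congrArg Subtype.val e
      cases p2 <;> cases q2 <;> first | rfl | exact absurd e' hne | exact absurd e'.symm hne
    have := Nat.card_le_card_of_injective φ hφ
    rw [Nat.card_prod, Nat.card_eq_fintype_card (α := R4), Fintype.card_coe,
      Nat.card_eq_fintype_card (α := Bool), Fintype.card_bool] at this
    rw [mul_comm]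
    exact this
  let W : Finset G := Ws.biUnion fun w => Finset.univ.filter fun g => IsConj w g
  have hWcard : W.card = ∑ w ∈ Ws, classCard w := by
    rw [Finset.card_biUnion]
    · refine Finset.sum_congr rfl fun w _ => ?_
      rw [classCard, hcn]; congr 1; ext g; simp
    · intro w hw w' hw' hne
      rw [Function.onFun, Finset.disjoint_left]
      intro g hg hg'
      exact hne (hWc w hw w' hw' ((Finset.mem_filter.1 hg).2.trans (Finset.mem_filter.1 hg').2.symm))
  let B : Finset G := Ys.biUnion A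
  have hBcard : ∑ y ∈ Ys, classCard y * twoCount y ≤ B.card := by
    rw [Finset.card_biUnion]
    · exact Finset.sum_le_sum hAc
    · intro y hy y' hy' hne
      rw [Function.onFun, Finset.disjoint_left]
      intro g hg hg'
      exact hne (hYc y hy y' hy' ((hA64 y hy g hg).1.trans (hA64 y' hy' g hg').1.symm))
  have hord2 : ∀ g ∈ V ∪ W, orderOf g = 2 := by
    intro g hg
    rcases Finset.mem_union.1 hg with h | h
    · obtain ⟨c, rfl⟩ := isConj_iff.1 (Finset.mem_filter.1 h).2
      rw [← MulAut.conj_apply, MulEquiv.orderOf_eq, hv.1]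
    · obtain ⟨w, hw, h⟩ := Finset.mem_biUnion.1 h
      obtain ⟨c, rfl⟩ := isConj_iff.1 (Finset.mem_filter.1 h).2
      rw [← MulAut.conj_apply, MulEquiv.orderOf_eq, (hW w hw).1]
  let O5 : Finset G := Finset.univ.filter fun g => orderOf g = 5
  let O11 : Finset G := Finset.univ.filter fun g => orderOf g = 11
  have hVW : Disjoint V W := by
    rw [Finset.disjoint_left]
    intro g hg hg'
    obtain ⟨w, hw, h⟩ := Finset.mem_biUnion.1 hg'
    exact (hW w hw).2 ((Finset.mem_filter.1 hg).2.trans (Finset.mem_filter.1 h).2.symm)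
  have h2big : V.card + W.card = (V ∪ W).card := (Finset.card_union_of_disjoint hVW).symm
  -- assemble: all pieces avoid the identity and are pairwise disjoint
  let S2 : Finset G := (V ∪ W) ∪ R4
  have hS2 : S2.card = (V ∪ W).card + R4.card := Finset.card_union_of_disjoint (by
    rw [Finset.disjoint_left]
    intro g hg hg'
    have := hord2 g hg
    rw [(Finset.mem_filter.1 hg').2] at this
    omega)
  have hS2' : ∀ g ∈ S2, g ^ 16 = 1 ∧ g ≠ 1 := by
    intro g hg
    have h : orderOf g = 2 ∨ orderOf g = 4 := (Finset.mem_union.1 hg).imp (hord2 g)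
      fun (h : g ∈ R4) => (Finset.mem_filter.1 h).2
    refine ⟨orderOf_dvd_iff_pow_eq_one.1 (by rcases h with h | h <;> rw [h] <;> norm_num), fun e => ?_⟩
    rw [e, orderOf_one] at h
    omega
  have hBS : Disjoint B S2 := by
    rw [Finset.disjoint_left]
    intro g hg hg'
    obtain ⟨y, hy, h⟩ := Finset.mem_biUnion.1 hg
    exact (hA64 y hy g h).2.2 (hS2' g hg').1
  have h144 : ∀ g ∈ B ∪ S2, g ^ 144 = 1 ∧ g ≠ 1 := by
    intro g hg
    rcases Finset.mem_union.1 hg with h | h
    · obtain ⟨y, hy, h⟩ := Finset.mem_biUnion.1 h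
      exact ⟨(hA64 y hy g h).2.1, fun e => (hA64 y hy g h).2.2 (by rw [e, one_pow])⟩
    · refine ⟨?_, (hS2' g h).2⟩
      rw [show 144 = 16 * 9 by norm_num, pow_mul, (hS2' g h).1, one_pow]
  have hP : Disjoint (B ∪ S2) (O5 ∪ O11) := by
    rw [Finset.disjoint_left]
    intro g hg hg'
    obtain ⟨h1, h2⟩ := h144 g hg
    have hd := orderOf_dvd_of_pow_eq_one h1
    rcases Finset.mem_union.1 hg' with h | h <;> rw [(Finset.mem_filter.1 h).2] at hd <;> omega
  have h511 : (O5 ∪ O11).card = 1584 + 1440 := by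
    rw [Finset.card_union_of_disjoint, ← card_orderOf_five hM, ← card_orderOf_eleven hM,
      Nat.card_eq_fintype_card, Nat.card_eq_fintype_card, Fintype.card_subtype, Fintype.card_subtype]
    rw [Finset.disjoint_left]
    intro g hg hg'
    have := (Finset.mem_filter.1 hg).2
    rw [(Finset.mem_filter.1 hg').2] at this
    omega
  have htot : ((B ∪ S2) ∪ (O5 ∪ O11)).card ≤ (Finset.univ.erase (1 : G)).card := by
    refine Finset.card_le_card fun g hg => Finset.mem_erase.2 ⟨?_, Finset.mem_univ g⟩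
    rcases Finset.mem_union.1 hg with h | h
    · exact (h144 g h).2
    · intro e
      rcases Finset.mem_union.1 h with h | h <;>
      · have := (Finset.mem_filter.1 h).2
        rw [e, orderOf_one] at this
        omega
  rw [Finset.card_union_of_disjoint hP, Finset.card_union_of_disjoint hBS, hS2, ← h2big, h511,
    Finset.card_erase_of_mem (Finset.mem_univ _), Finset.card_univ, ← Nat.card_eq_fintype_card,
    hM.2, hWcard, hV] at htot
  omega

end CfsgLib.Mathieu.Order7920
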