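import Cfsg.Agent.Lib.Mathieu.Order7920.Graph

/-!
Simple groups of order 7920 act sharply 4-transitively on eleven cliques of Sylow 3-subgroups.
-/

set_option autoImplicit false

noncomputable section

namespace CfsgLib.Mathieu.Order7920

open Subgroup MulAction
open scoped Classical

universe u

variable {G : Type u} [Group G] [Finite G]

local instance fact_prime_three_cliques : Fact (Nat.Prime 3) := ⟨by norm_num⟩
local instance fintype_sylow_cliques : Fintype (Sylow 3 G) := Fintype.ofFinite _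

/-- A clique of ten Sylow 3-subgroups. -/
def IsTen (Q : Finset (Sylow 3 G)) : Prop := Q.card = 10 ∧ ∀ U ∈ Q, ∀ V ∈ Q, U ≠ V → Adj U V

/-- The cliques of ten Sylow 3-subgroups. -/
abbrev Ten (G : Type u) [Group G] : Type u := {Q : Finset (Sylow 3 G) // IsTen Q}

omit [Finite G] in
theorem IsTen.image {Q : Finset (Sylow 3 G)} (hQ : IsTen Q) (g : G) :
    IsTen (Q.image (g • ·)) := by
  refine ⟨by rw [Finset.card_image_of_injective _ (MulAction.injective g), hQ.1], ?_⟩
  intro U hU V hV hne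
  obtain ⟨U', hU', rfl⟩ := Finset.mem_image.1 hU
  obtain ⟨V', hV', rfl⟩ := Finset.mem_image.1 hV
  exact (adj_smul g).2 (hQ.2 U' hU' V' hV' fun e => hne (by rw [e]))

instance tenAction : MulAction G (Ten G) where
  smul g Q := ⟨Q.1.image (g • ·), Q.2.image g⟩
  one_smul Q := Subtype.ext (show Q.1.image _ = Q.1 by simp)
  mul_smul g h Q := Subtype.ext (show Q.1.image _ = (Q.1.image _).image _ by
    rw [Finset.image_image]
    exact Finset.image_congr fun U _ => mul_smul g h U)

omit [Finite G] in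
theorem mem_smul_ten {g : G} {Q : Ten G} {U : Sylow 3 G} (hU : U ∈ Q.1) : g • U ∈ (g • Q).1 :=
  Finset.mem_image_of_mem _ hU

namespace Frame

variable (F : Frame G)

local instance fintype_base : Fintype (F.T : Subgroup G) := Fintype.ofFinite _

/-- The clique on one side. -/
def tenSet (e : Bool) : Finset (Sylow 3 G) :=
  insert F.T (Finset.univ.image fun τ : (F.T : Subgroup G) => F.pt (τ, e))

theorem mem_tenSet {e : Bool} {U : Sylow 3 G} :
    U ∈ F.tenSet e ↔ U = F.T ∨ ∃ τ : (F.T : Subgroup G), F.pt (τ, e) = U := by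
  simp [tenSet]

theorem card_side (hM : Cfsg.IsM11 G) (e : Bool) :
    (Finset.univ.image fun τ : (F.T : Subgroup G) => F.pt (τ, e)).card = 9 := by
  rw [Finset.card_image_of_injective _ fun a b h => congrArg Prod.fst (F.pt_injective hM h),
    Finset.card_univ, ← Nat.card_eq_fintype_card, card_three_sylow hM F.T]

theorem isTen_tenSet (hM : Cfsg.IsM11 G) (e : Bool) : IsTen (F.tenSet e) := by
  refine ⟨?_, fun U hU V hV hne => ?_⟩
  · rw [tenSet, Finset.card_insert_of_notMem ?_, F.card_side hM e]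
    intro h
    obtain ⟨τ, -, hτ⟩ := Finset.mem_image.1 h
    exact F.pt_ne hM _ hτ
  · rcases F.mem_tenSet.1 hU with rfl | ⟨σ, rfl⟩ <;> rcases F.mem_tenSet.1 hV with rfl | ⟨τ, rfl⟩
    · exact absurd rfl hne
    · exact F.adj_T_pt hM _
    · exact (F.adj_T_pt hM _).symm
    · exact (F.adj_iff hM σ τ e e).2 (Or.inr ⟨fun h => hne (by rw [h]), rfl⟩)

theorem ten_cases (hM : Cfsg.IsM11 G) {Q : Finset (Sylow 3 G)} (hQ : IsTen Q) (hT : F.T ∈ Q) :
    Q = F.tenSet false ∨ Q = F.tenSet true := by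
  have hpt : ∀ U ∈ Q, U ≠ F.T → ∃ p, F.pt p = U := fun U hU hne =>
    F.exists_pt hM (hQ.2 F.T hT U hU hne.symm)
  by_cases hboth : ∃ σ τ, F.pt (σ, false) ∈ Q ∧ F.pt (τ, true) ∈ Q
  · exfalso
    obtain ⟨σ, τ, hσ, hτ⟩ := hboth
    have hne : F.pt (σ, false) ≠ F.pt (τ, true) := fun h =>
      Bool.false_ne_true (congrArg Prod.snd (F.pt_injective hM h))
    have hστ : σ = τ := by
      rcases (F.adj_iff hM σ τ false true).1 (hQ.2 _ hσ _ hτ hne) with h | h
      · exact h.1
      · exact absurd h.2 Bool.false_ne_true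
    have hsub : Q ⊆ {F.T, F.pt (σ, false), F.pt (τ, true)} := by
      intro U hU
      simp only [Finset.mem_insert, Finset.mem_singleton]
      by_contra h
      push Not at h
      obtain ⟨⟨ρ, d⟩, rfl⟩ := hpt U hU h.1
      cases d
      · rcases (F.adj_iff hM ρ τ false true).1 (hQ.2 _ hU _ hτ h.2.2) with h' | h'
        · exact h.2.1 (by rw [h'.1, hστ])
        · exact absurd h'.2 Bool.false_ne_true
      · rcases (F.adj_iff hM ρ σ true false).1 (hQ.2 _ hU _ hσ h.2.1) with h' | h'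
        · exact h.2.2 (by rw [h'.1, hστ])
        · exact absurd h'.2.symm Bool.false_ne_true
    have := (Finset.card_le_card hsub).trans Finset.card_le_three
    rw [hQ.1] at this
    omega
  · push Not at hboth
    obtain ⟨e, he⟩ : ∃ e, Q ⊆ F.tenSet e := by
      by_cases hA : ∃ σ, F.pt (σ, false) ∈ Q
      · obtain ⟨σ, hσ⟩ := hA
        refine ⟨false, fun U hU => F.mem_tenSet.2 ((em (U = F.T)).imp id fun hne => ?_)⟩
        obtain ⟨⟨τ, d⟩, rfl⟩ := hpt U hU hne
        cases d
        · exact ⟨τ, rfl⟩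
        · exact absurd hU (hboth σ τ hσ)
      · refine ⟨true, fun U hU => F.mem_tenSet.2 ((em (U = F.T)).imp id fun hne => ?_)⟩
        obtain ⟨⟨τ, d⟩, rfl⟩ := hpt U hU hne
        cases d
        · exact absurd ⟨τ, hU⟩ hA
        · exact ⟨τ, rfl⟩
    have := Finset.eq_of_subset_of_card_le he (by rw [(F.isTen_tenSet hM e).1, hQ.1])
    cases e
    · exact Or.inl this
    · exact Or.inr this

theorem mem_both (hM : Cfsg.IsM11 G) {U : Sylow 3 G} (h0 : U ∈ F.tenSet false)
    (h1 : U ∈ F.tenSet true) : U = F.T := by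
  rcases F.mem_tenSet.1 h0 with h | ⟨σ, rfl⟩
  · exact h
  rcases F.mem_tenSet.1 h1 with h | ⟨τ, hτ⟩
  · exact h
  exact absurd (congrArg Prod.snd (F.pt_injective hM hτ)).symm Bool.false_ne_true

theorem tenSet_ne (hM : Cfsg.IsM11 G) : F.tenSet false ≠ F.tenSet true := by
  intro h
  have hm : F.pt (1, false) ∈ F.tenSet false := F.mem_tenSet.2 (Or.inr ⟨1, rfl⟩)
  exact F.pt_ne hM _ (F.mem_both hM hm (h ▸ hm))

end Frame

local instance fintype_ten : Fintype (Ten G) := Fintype.ofFinite _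

/-- The cliques through a vertex. -/
def tensAt (U : Sylow 3 G) : Finset (Ten G) := Finset.univ.filter fun Q => U ∈ Q.1

theorem mem_tensAt {U : Sylow 3 G} {Q : Ten G} : Q ∈ tensAt U ↔ U ∈ Q.1 := by simp [tensAt]

theorem tensAt_frame (hM : Cfsg.IsM11 G) (F : Frame G) :
    tensAt F.T = {⟨_, F.isTen_tenSet hM false⟩, ⟨_, F.isTen_tenSet hM true⟩} := by
  ext Q
  rw [mem_tensAt, Finset.mem_insert, Finset.mem_singleton]
  constructor
  · intro h
    exact (F.ten_cases hM Q.2 h).imp (fun e => Subtype.ext e) fun e => Subtype.ext e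
  · rintro (rfl | rfl) <;> exact F.mem_tenSet.2 (Or.inl rfl)

theorem card_tensAt (hM : Cfsg.IsM11 G) (U : Sylow 3 G) : (tensAt U).card = 2 := by
  obtain ⟨F, rfl⟩ := exists_frame hM U
  rw [tensAt_frame hM F, Finset.card_pair fun e => F.tenSet_ne hM (congrArg Subtype.val e)]

theorem card_ten (hM : Cfsg.IsM11 G) : Fintype.card (Ten G) = 11 := by
  have h1 : ∑ Q : Ten G, Q.1.card = Fintype.card (Ten G) * 10 := by
    rw [Finset.sum_congr rfl fun Q _ => Q.2.1, Finset.sum_const, smul_eq_mul, Finset.card_univ]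
  have h2 : ∑ Q : Ten G, Q.1.card = ∑ U : Sylow 3 G, (tensAt U).card := by
    have : ∀ Q : Ten G, Q.1.card = ∑ U : Sylow 3 G, if U ∈ Q.1 then 1 else 0 := fun Q => by simp
    rw [Finset.sum_congr rfl fun Q _ => this Q, Finset.sum_comm]
    refine Finset.sum_congr rfl fun U _ => ?_
    rw [Finset.sum_boole, Nat.cast_id, tensAt]
  rw [Finset.sum_congr rfl fun U _ => card_tensAt hM U, Finset.sum_const, smul_eq_mul,
    card_sylow_univ hM] at h2
  omega

theorem tensAt_injective (hM : Cfsg.IsM11 G) : Function.Injective (tensAt (G := G)) := by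
  intro U V h
  obtain ⟨F, rfl⟩ := exists_frame hM U
  have hV : ∀ e, V ∈ F.tenSet e := fun e => by
    have : (⟨_, F.isTen_tenSet hM e⟩ : Ten G) ∈ tensAt V :=
      h ▸ mem_tensAt.2 (F.mem_tenSet.2 (Or.inl rfl))
    exact mem_tensAt.1 this
  exact (F.mem_both hM (hV false) (hV true)).symm

/-- Two cliques meet in exactly one vertex. -/
theorem exists_meet (hM : Cfsg.IsM11 G) {Q R : Ten G} (hne : Q ≠ R) :
    ∃ U, U ∈ Q.1 ∧ U ∈ R.1 ∧ ∀ V, V ∈ Q.1 → V ∈ R.1 → V = U := by
  have himg : Finset.univ.image (tensAt (G := G)) = (Finset.univ : Finset (Ten G)).powersetCard 2 := by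
    refine Finset.eq_of_subset_of_card_le (fun s hs => ?_) ?_
    · obtain ⟨U, -, rfl⟩ := Finset.mem_image.1 hs
      exact Finset.mem_powersetCard.2 ⟨Finset.subset_univ _, card_tensAt hM U⟩
    · rw [Finset.card_powersetCard, Finset.card_univ, card_ten hM,
        Finset.card_image_of_injective _ (tensAt_injective hM), card_sylow_univ hM]
      rfl
  have hpair : ({Q, R} : Finset (Ten G)) ∈ Finset.univ.image (tensAt (G := G)) := by
    rw [himg]
    exact Finset.mem_powersetCard.2 ⟨Finset.subset_univ _, Finset.card_pair hne⟩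
  obtain ⟨U, -, hU⟩ := Finset.mem_image.1 hpair
  have hiff : ∀ V, V ∈ Q.1 → V ∈ R.1 → tensAt V = {Q, R} := fun V hVQ hVR => by
    refine (Finset.eq_of_subset_of_card_le ?_ ?_).symm
    · intro S hS
      rcases Finset.mem_insert.1 hS with rfl | hS
      · exact mem_tensAt.2 hVQ
      · rw [Finset.mem_singleton.1 hS]; exact mem_tensAt.2 hVR
    · rw [card_tensAt hM, Finset.card_pair hne]
  exact ⟨U, mem_tensAt.1 (by rw [hU]; exact Finset.mem_insert_self _ _),
    mem_tensAt.1 (by rw [hU]; exact Finset.mem_insert_of_mem (Finset.mem_singleton_self _)),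
    fun V hVQ hVR => tensAt_injective hM ((hiff V hVQ hVR).trans hU.symm)⟩

theorem Frame.eq_one_of_fix (hM : Cfsg.IsM11 G) (F : Frame G) {g : G} (hg : g • F.T = F.T)
    {σ τ : (F.T : Subgroup G)} {e : Bool} (hne : σ ≠ τ) (hσ : g • F.pt (σ, e) = F.pt (σ, e))
    (hτ : g • F.pt (τ, e) = F.pt (τ, e)) : g = 1 := by
  set h : G := (σ : G)⁻¹ * g * σ with hh
  have hT : h • F.T = F.T := by
    rw [hh, mul_smul, mul_smul, smul_eq_self F.T σ.2, hg, inv_smul_eq_iff, smul_eq_self F.T σ.2]
  have hside : h • F.side e = F.side e := by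
    rw [hh, mul_smul, mul_smul, show (σ : G) • F.side e = F.pt (σ, e) from rfl, hσ, inv_smul_eq_iff]
    rfl
  have hρ : h • F.pt (σ⁻¹ * τ, e) = F.pt (σ⁻¹ * τ, e) := by
    have hpt : F.pt (σ⁻¹ * τ, e) = (σ : G)⁻¹ • F.pt (τ, e) := by
      show ((σ⁻¹ * τ : (F.T : Subgroup G)) : G) • F.side e = _
      rw [show F.pt (τ, e) = (τ : G) • F.side e from rfl, ← mul_smul]
      rfl
    rw [hpt, hh, mul_smul, mul_smul, smul_inv_smul, hτ]
  have hc : h * F.c = F.c * h := by
    have h1 : Inverts F.T (h * F.c * h⁻¹) := by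
      have := F.hc.smul h
      rwa [hT] at this
    have h2 : Inverts (F.side e) (h * F.c * h⁻¹) := by
      have := (F.inverts_side e).smul h
      rwa [hside] at this
    exact mul_inv_eq_iff_eq_mul.1
      (common_inverter_unique hM (F.side_ne hM e) h1 h2 F.hc (F.inverts_side e))
  have hK : h ∈ F.K := by
    refine F.mem_K.2 ⟨hT, hc, ?_⟩
    cases e
    · exact hside
    · rcases F.smul_triple hM hc F.a F.inverts_a with h' | h' | h'
      · exact absurd (smul_left_cancel h (h'.trans hT.symm)) (F.a_ne hM)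
      · exact h'
      · exact absurd (smul_left_cancel h (h'.trans hside.symm)) (F.b_ne_a hM).symm
  set ρ := σ⁻¹ * τ with hρdef
  have hρ1 : ρ ≠ 1 := fun h' => hne (inv_mul_eq_one.1 h')
  have hmem : h * ρ * h⁻¹ ∈ (F.T : Subgroup G) :=
    (Subgroup.mem_normalizer_iff.1 (mem_sylN_iff.2 hT) _).1 ρ.2
  rw [F.smul_pt hM hK ρ e ⟨_, hmem⟩ rfl] at hρ
  have e1 : h * ρ * h⁻¹ = ρ :=
    congrArg (fun p : ↥(F.T : Subgroup G) × Bool => (p.1 : G)) (F.pt_injective hM hρ)
  have h1 := F.K_free hM hK ρ.2 (fun h' => hρ1 (Subtype.ext h')) (mul_inv_eq_iff_eq_mul.1 e1)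
  calc g = (σ : G) * h * (σ : G)⁻¹ := by rw [hh]; group
    _ = 1 := by rw [h1]; group

theorem stabilizer_ten_eq_bot (hM : Cfsg.IsM11 G) (x : Fin 4 ↪ Ten G) :
    stabilizer G x = ⊥ := by
  refine (Subgroup.eq_bot_iff_forall _).2 fun g hg => ?_
  have hfix : ∀ i, g • x i = x i := fun i =>
    congrArg (fun e : Fin 4 ↪ Ten G => e i) (mem_stabilizer_iff.1 hg)
  have hne : ∀ i j, i ≠ j → x i ≠ x j := fun i j h e => h (x.injective e)
  have meetfix : ∀ i j, i ≠ j → ∃ U, U ∈ (x i).1 ∧ U ∈ (x j).1 ∧ g • U = U := by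
    intro i j h
    obtain ⟨U, h1, h2, hu⟩ := exists_meet hM (hne i j h)
    refine ⟨U, h1, h2, hu _ ?_ ?_⟩
    · rw [← hfix i]; exact mem_smul_ten h1
    · rw [← hfix j]; exact mem_smul_ten h2
  obtain ⟨U1, hU10, hU11, hf1⟩ := meetfix 0 1 (by decide)
  obtain ⟨U2, hU20, hU22, hf2⟩ := meetfix 0 2 (by decide)
  obtain ⟨U3, hU30, hU33, hf3⟩ := meetfix 0 3 (by decide)
  -- no three of the cliques share a vertex
  have htri : ∀ (U : Sylow 3 G) i j k, i ≠ j → i ≠ k → j ≠ k → U ∈ (x i).1 → U ∈ (x j).1 →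
      U ∈ (x k).1 → False := by
    intro U i j k hij hik hjk hi hj hk
    have hsub : ({x i, x j, x k} : Finset (Ten G)) ⊆ tensAt U := by
      intro S hS
      simp only [Finset.mem_insert, Finset.mem_singleton] at hS
      rcases hS with rfl | rfl | rfl <;> exact mem_tensAt.2 (by assumption)
    have := Finset.card_le_card hsub
    rw [card_tensAt hM, Finset.card_insert_of_notMem (by simp [hne i j hij, hne i k hik]),
      Finset.card_pair (hne j k hjk)] at this
    omega
  obtain ⟨F, rfl⟩ := exists_frame hM U1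
  obtain ⟨e, he⟩ : ∃ e, (x 0).1 = F.tenSet e :=
    (F.ten_cases hM (x 0).2 hU10).elim (fun h => ⟨false, h⟩) fun h => ⟨true, h⟩
  rw [he] at hU20 hU30
  rcases F.mem_tenSet.1 hU20 with rfl | ⟨σ, rfl⟩
  · exact (htri F.T 0 1 2 (by decide) (by decide) (by decide) hU10 hU11 hU22).elim
  rcases F.mem_tenSet.1 hU30 with rfl | ⟨τ, rfl⟩
  · exact (htri F.T 0 1 3 (by decide) (by decide) (by decide) hU10 hU11 hU33).elim
  refine F.eq_one_of_fix hM hf1 (fun hστ => ?_) hf2 hf3
  subst hστ
  exact htri (F.pt (σ, e)) 0 2 3 (by decide) (by decide) (by decide) (he ▸ hU20) hU22 hU33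

theorem ten_four_transitive (hM : Cfsg.IsM11 G) : IsMultiplyPretransitive G (Ten G) 4 := by
  have hcard : Nat.card G = Nat.card (Fin 4 ↪ Ten G) := by
    rw [hM.2, Nat.card_eq_fintype_card, Fintype.card_embedding_eq, card_ten hM, Fintype.card_fin]
    rfl
  refine ⟨fun x y => ?_⟩
  have hinj : Function.Injective fun g : G => g • x := by
    intro g h e
    have : h⁻¹ * g ∈ stabilizer G x := by
      rw [mem_stabilizer_iff, mul_smul, show g • x = h • x from e, inv_smul_smul]
    rw [stabilizer_ten_eq_bot hM x, mem_bot] at this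
    exact (inv_mul_eq_one.1 this).symm
  exact ((Nat.bijective_iff_injective_and_card _).2 ⟨hinj, hcard⟩).2 y

/-- A simple group of order 7920 has a sharply 4-transitive action on eleven points. -/
theorem exists_sharply_four (hM : Cfsg.IsM11 G) :
    ∃ (X : Type u) (_ : MulAction G X) (_ : Fintype X), Fintype.card X = 11 ∧
      IsMultiplyPretransitive G X 4 ∧ ∀ x : Fin 4 ↪ X, stabilizer G x = ⊥ :=
  ⟨Ten G, inferInstance, inferInstance, card_ten hM, ten_four_transitive hM,
    stabilizer_ten_eq_bot hM⟩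

end CfsgLib.Mathieu.Order7920
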