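import Mathlib
import Cfsg.Agent.Lib.SmallGroups.Basic

/-!
Counting tools for simple groups of order 7920: fixed points on cosets, parity of involutions in
permutation representations, elements of prime order.
-/

set_option autoImplicit false

namespace CfsgLib.Mathieu.Order7920

open Subgroup MulAction
open scoped Classical

universe u v

variable {G : Type u} [Group G] {X : Type v} [MulAction G X]

/-- The number of fixed points of an element. -/
noncomputable def fixCount (X : Type v) [MulAction G X] (g : G) : ℕ := Nat.card {q : X // g • q = q}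

/-- The number of conjugates of `x` in the subgroup `H`. -/
noncomputable def conjCount (H : Subgroup G) (x : G) : ℕ := Nat.card {h : G // h ∈ H ∧ IsConj x h}

theorem mk_fixed_iff (H : Subgroup G) (x g : G) :
    x • (g : G ⧸ H) = (g : G ⧸ H) ↔ g⁻¹ * x * g ∈ H := by
  rw [Quotient.smul_coe, smul_eq_mul, eq_comm, QuotientGroup.eq, mul_assoc]

theorem fix_mul_card [Finite G] (H : Subgroup G) (x : G) :
    fixCount (G ⧸ H) x * Nat.card H =
      Nat.card (centralizer ({x} : Set G)) * conjCount H x := by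
  have h1 : Nat.card {g : G // g⁻¹ * x * g ∈ H} = fixCount (G ⧸ H) x * Nat.card H := by
    rw [fixCount, mul_comm, ← Nat.card_prod]
    refine Nat.card_congr ((Equiv.subtypeEquivRight fun g => ?_).trans
      (QuotientGroup.preimageMkEquivSubgroupProdSet H {q : G ⧸ H | x • q = q}))
    exact (mk_fixed_iff H x g).symm
  let φ : {g : G // g⁻¹ * x * g ∈ H} → {h : G // h ∈ H ∧ IsConj x h} := fun g =>
    ⟨g.1⁻¹ * x * g.1, g.2, isConj_iff.2 ⟨g.1⁻¹, by rw [inv_inv]⟩⟩
  have h2 : ∀ h, Nat.card {g // φ g = h} = Nat.card (centralizer ({x} : Set G)) := by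
    intro h
    obtain ⟨c, hc⟩ := isConj_iff.1 h.2.2
    have hz : ∀ z : centralizer ({x} : Set G),
        ((z : G) * c⁻¹)⁻¹ * x * ((z : G) * c⁻¹) = h.1 := by
      intro z
      have hz : (z : G) * x = x * z := mem_centralizer_singleton_iff.1 z.2
      calc ((z : G) * c⁻¹)⁻¹ * x * ((z : G) * c⁻¹) = c * ((z : G)⁻¹ * (x * z)) * c⁻¹ := by group
        _ = c * x * c⁻¹ := by rw [← hz, inv_mul_cancel_left]
        _ = h.1 := hc
    have hmem : ∀ z : centralizer ({x} : Set G),
        ((z : G) * c⁻¹)⁻¹ * x * ((z : G) * c⁻¹) ∈ H := fun z => by rw [hz]; exact h.2.1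
    let ψ : centralizer ({x} : Set G) → {g // φ g = h} := fun z =>
      ⟨⟨(z : G) * c⁻¹, hmem z⟩, Subtype.ext (hz z)⟩
    refine (Nat.card_eq_of_bijective ψ ⟨fun z z' e => ?_, ?_⟩).symm
    · exact Subtype.ext (mul_right_cancel (congrArg (fun g : {g // φ g = h} => (g.1 : G)) e))
    · rintro ⟨⟨g, hg⟩, hφ⟩
      have hφ' : g⁻¹ * x * g = h.1 := congrArg Subtype.val hφ
      refine ⟨⟨g * c, mem_centralizer_singleton_iff.2 ?_⟩, Subtype.ext (Subtype.ext ?_)⟩
      · calc g * c * x = g * (c * x * c⁻¹) * c := by group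
          _ = g * (g⁻¹ * x * g) * c := by rw [hc, hφ']
          _ = x * (g * c) := by group
      · exact mul_inv_cancel_right g c
  have : Fintype {h : G // h ∈ H ∧ IsConj x h} := Fintype.ofFinite _
  rw [← h1, ← Nat.card_congr (Equiv.sigmaFiberEquiv φ), Nat.card_sigma]
  rw [Finset.sum_congr rfl fun h _ => h2 h, Finset.sum_const, smul_eq_mul, Finset.card_univ,
    ← Nat.card_eq_fintype_card, mul_comm]
  rfl

theorem fixCount_conj (c g : G) : fixCount X (c * g * c⁻¹) = fixCount X g := by
  refine Nat.card_congr (Equiv.subtypeEquiv (MulAction.toPerm c⁻¹) fun q => ?_)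
  show (c * g * c⁻¹) • q = q ↔ g • c⁻¹ • q = c⁻¹ • q
  rw [mul_smul, mul_smul, eq_inv_smul_iff]

section Simple

variable [Finite G] [IsSimpleGroup G] [Finite X]

theorem sign_smul_eq_one (hG : ¬ IsMulCommutative G) [Fintype X] (g : G) :
    Equiv.Perm.sign (MulAction.toPerm g : Equiv.Perm X) = 1 := by
  let s : G →* ℤˣ := Equiv.Perm.sign.comp (MulAction.toPermHom G X)
  rcases (inferInstance : s.ker.Normal).eq_bot_or_eq_top with h | h
  · refine absurd ?_ hG
    exact IsMulCommutative.of_comm fun a b =>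
      ((MonoidHom.ker_eq_bot_iff s).mp h) (by rw [map_mul, map_mul, mul_comm])
  · exact (h ▸ Subgroup.mem_top g : g ∈ s.ker)

theorem card_sub_fixCount (hG : ¬ IsMulCommutative G) {g : G} (hg : g ^ 2 = 1) :
    4 ∣ Nat.card X - fixCount X g ∧ fixCount X g ≤ Nat.card X := by
  have := Fintype.ofFinite X
  have hσ : (MulAction.toPerm g : Equiv.Perm X) ^ 2 = 1 := by
    refine Equiv.ext fun q => ?_
    show g • g • q = q
    rw [← mul_smul, ← sq, hg, one_smul]
  have hf : fixCount X g =
      Fintype.card (Function.fixedPoints (MulAction.toPerm g : Equiv.Perm X)) := by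
    rw [← Nat.card_eq_fintype_card]
    rfl
  have h1 := Equiv.Perm.sign_of_pow_two_eq_one hσ
  rw [sign_smul_eq_one hG, ← hf, ← Nat.card_eq_fintype_card] at h1
  have h2 := Equiv.Perm.two_dvd_card_support hσ
  have h3 : fixCount X g = Nat.card X - (MulAction.toPerm g : Equiv.Perm X).support.card := by
    rw [hf, Equiv.Perm.card_fixedPoints, Equiv.Perm.sum_cycleType, Nat.card_eq_fintype_card]
  have h4 := Finset.card_le_univ (MulAction.toPerm g : Equiv.Perm X).support
  rw [← Nat.card_eq_fintype_card] at h4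
  have h5 : Even ((Nat.card X - fixCount X g) / 2) := by
    by_contra h
    rw [(Nat.not_even_iff_odd.1 h).neg_one_pow] at h1
    exact absurd h1 (by decide)
  refine ⟨?_, by omega⟩
  obtain ⟨k, hk⟩ := h5
  omega

theorem eight_dvd_of_square_fixedPointFree (hG : ¬ IsMulCommutative G) {g : G} (hg : g ^ 4 = 1)
    (hfree : fixCount X (g ^ 2) = 0) : 8 ∣ Nat.card X := by
  have := Fintype.ofFinite X
  set σ : Equiv.Perm X := MulAction.toPerm g with hσdef
  have hσ4 : σ ^ 4 = 1 := by
    refine Equiv.ext fun q => ?_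
    show g • g • g • g • q = q
    rw [← mul_smul, ← mul_smul, ← mul_smul, show g * g * g * g = g ^ 4 by simp [pow_succ], hg, one_smul]
  have hne : ∀ q : X, σ (σ q) ≠ q := by
    intro q e
    have : IsEmpty {q : X // g ^ 2 • q = q} := by
      rcases Nat.card_eq_zero.1 hfree with h | h
      · exact h
      · exact absurd h (not_infinite_iff_finite.2 inferInstance)
    exact this.false ⟨q, by rw [sq, mul_smul]; exact e⟩
  have hall : ∀ n ∈ σ.cycleType, n = 4 := by
    intro n hn
    have hdvd := (Equiv.Perm.dvd_of_mem_cycleType hn).trans (orderOf_dvd_of_pow_eq_one hσ4)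
    have h2 := Equiv.Perm.two_le_of_mem_cycleType hn
    have hle := Nat.le_of_dvd (by norm_num) hdvd
    interval_cases n
    · exfalso
      rw [Equiv.Perm.cycleType_def, Multiset.mem_map] at hn
      obtain ⟨c, hc, hcard⟩ := hn
      rw [Function.comp_apply] at hcard
      obtain ⟨hcyc, hcσ⟩ := Equiv.Perm.mem_cycleFactorsFinset_iff.1 hc
      obtain ⟨q, hq⟩ := Finset.card_pos.1 (by omega : 0 < c.support.card)
      refine hne q ?_
      have hc2 : c ^ 2 = 1 := by
        have h := pow_orderOf_eq_one c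
        rwa [hcyc.orderOf, hcard] at h
      rw [← hcσ q hq, ← hcσ _ (Equiv.Perm.apply_mem_support.2 hq), ← Equiv.Perm.mul_apply, ← sq,
        hc2, Equiv.Perm.one_apply]
    · omega
    · rfl
  have hrep : σ.cycleType = Multiset.replicate σ.cycleType.card 4 := Multiset.eq_replicate_card.2 hall
  have h1 := Equiv.Perm.sign_of_cycleType_eq_replicate (σ := σ) (by norm_num) hrep
  rw [sign_smul_eq_one hG] at h1
  have hfix : Fintype.card (Function.fixedPoints σ) = 0 := by
    rw [Fintype.card_eq_zero_iff]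
    refine ⟨fun q => hne q.1 ?_⟩
    have hq : σ q.1 = q.1 := q.2
    rw [hq, hq]
  rw [hfix, if_neg (by decide), Nat.sub_zero, ← Nat.card_eq_fintype_card] at h1
  have hsum : 4 ∣ Nat.card X := by
    rw [Nat.card_eq_fintype_card]
    have h3 := Equiv.Perm.card_fixedPoints σ
    have h4 := σ.sum_cycleType_le
    rw [hfix] at h3
    refine ⟨σ.cycleType.card, ?_⟩
    have h5 : σ.cycleType.sum = σ.cycleType.card * 4 := by
      conv_lhs => rw [hrep]
      simp
    omega
  have h5 : Even (Nat.card X / 4) := by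
    by_contra h
    rw [(Nat.not_even_iff_odd.1 h).neg_one_pow] at h1
    exact absurd h1 (by decide)
  obtain ⟨k, hk⟩ := h5
  omega

end Simple

theorem fixCount_modEq {p : ℕ} [Fact p.Prime] [Finite X] {Q : Subgroup G} (hQ : IsPGroup p Q) :
    Nat.card X ≡ Nat.card (fixedPoints Q X) [MOD p] := hQ.card_modEq_card_fixedPoints X

theorem mem_fixedPoints_zpowers {g : G} {q : X} :
    q ∈ fixedPoints (zpowers g) X ↔ g • q = q := by
  refine ⟨fun h => h ⟨g, mem_zpowers g⟩, fun h => ?_⟩
  rintro ⟨z, hz⟩
  show z • q = q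
  exact (zpowers_le.2 (show g ∈ stabilizer G q from h)) hz

/-- The number of elements of order `p`, when Sylow `p`-subgroups have order `p`. -/
theorem card_orderOf_eq [Finite G] {p m : ℕ} [hp : Fact p.Prime] (hn : Nat.card G = p * m)
    (hm : ¬ p ∣ m) : Nat.card {g : G // orderOf g = p} = Nat.card (Sylow p G) * (p - 1) := by
  have hn' : Nat.card G = p ^ 1 * m := by rw [pow_one]; exact hn
  have hP : ∀ P : Sylow p G, Nat.card (P : Subgroup G) = p := fun P => by
    simpa using CfsgLib.SmallGroups.card_sylow_eq hn' hm P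
  have hne : ∀ P : Sylow p G, Nat.card {x : (P : Subgroup G) // x ≠ 1} = p - 1 := by
    intro P
    have := Fintype.ofFinite (P : Subgroup G)
    rw [Nat.card_eq_fintype_card, Fintype.card_subtype_compl, Fintype.card_subtype_eq,
      ← Nat.card_eq_fintype_card, hP]
  have : Fintype (Sylow p G) := Fintype.ofFinite _
  have h : Nat.card (Σ P : Sylow p G, {x : (P : Subgroup G) // x ≠ 1}) =
      Nat.card {g : G // orderOf g = p} := by
    refine Nat.card_eq_of_bijective (fun s => ⟨(s.2.1 : G), ?_⟩) ⟨?_, ?_⟩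
    · rw [orderOf_coe]
      rcases (Nat.dvd_prime hp.out).1 ((orderOf_dvd_natCard s.2.1).trans (dvd_of_eq (hP s.1)))
        with h | h
      · exact absurd (orderOf_eq_one_iff.1 h) s.2.2
      · exact h
    · rintro ⟨P, ⟨x, hx⟩, hx1⟩ ⟨Q, ⟨y, hy⟩, hy1⟩ e
      obtain rfl : x = y := congrArg Subtype.val e
      have key : ∀ R : Sylow p G, x ∈ R → zpowers x = (R : Subgroup G) := fun R hR => by
        refine Subgroup.eq_of_le_of_card_ge (zpowers_le.2 hR) ?_
        rw [hP, Nat.card_zpowers]
        rcases (Nat.dvd_prime hp.out).1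
          ((Subgroup.orderOf_dvd_natCard _ hR).trans (dvd_of_eq (hP R))) with h | h
        · exact absurd (Subtype.ext (orderOf_eq_one_iff.1 h)) hx1
        · exact h.ge
      obtain rfl : P = Q := Sylow.ext ((key P hx).symm.trans (key Q hy))
      rfl
    · rintro ⟨g, hg⟩
      have hc : Nat.card (zpowers g) = p := by rw [Nat.card_zpowers, hg]
      obtain ⟨P, hle⟩ := (IsPGroup.of_card (p := p) (n := 1) (by rw [hc, pow_one])).exists_le_sylow
      refine ⟨⟨P, ⟨⟨g, hle (mem_zpowers g)⟩, fun e => ?_⟩⟩, rfl⟩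
      rw [show g = 1 from congrArg Subtype.val e, orderOf_one] at hg
      exact hp.out.one_lt.ne hg
  rw [← h, Nat.card_sigma]
  simp [hne, Nat.card_eq_fintype_card]

end CfsgLib.Mathieu.Order7920
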