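import Cfsg.Prelude.Def_Sporadic
import Cfsg.Agent.Lib.Mathieu.Order7920.Tools

/-!
Simple groups of order 7920: normalisers of Sylow subgroups for the primes 11 and 5.
-/

set_option autoImplicit false

namespace CfsgLib.Mathieu.Order7920

open Subgroup MulAction
open scoped Classical

universe u

variable {G : Type u} [Group G] [Finite G]

local instance fact_prime_eleven : Fact (Nat.Prime 11) := ⟨by norm_num⟩
local instance fact_prime_five : Fact (Nat.Prime 5) := ⟨by norm_num⟩
local instance fact_prime_three : Fact (Nat.Prime 3) := ⟨by norm_num⟩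

theorem noncomm (hM : Cfsg.IsM11 G) : ¬ IsMulCommutative G :=
  have := hM.1
  CfsgLib.SmallGroups.not_isMulCommutative_of_card_eq hM.2 (by norm_num)

/-- A `p`-subgroup normalising a Sylow `p`-subgroup of the same order equals it. -/
theorem sylow_eq_of_fix {p : ℕ} [Fact p.Prime] (P Q : Sylow p G) {a : G} (ha : a • Q = Q)
    (hgen : (P : Subgroup G) = zpowers a) : P = Q := by
  have hle : (P : Subgroup G) ≤ normalizer ((Q : Subgroup G) : Set G) := by
    rw [hgen, zpowers_le]
    exact Sylow.smul_eq_iff_mem_normalizer.1 ha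
  have : ((Q.subtype le_normalizer : Sylow p (normalizer ((Q : Subgroup G) : Set G))) :
      Subgroup (normalizer ((Q : Subgroup G) : Set G))).Normal :=
    Subgroup.normal_in_normalizer (H := (Q : Subgroup G))
  have hsub : Subsingleton (Sylow p (normalizer ((Q : Subgroup G) : Set G))) :=
    (Sylow.unique_of_normal _ this).instSubsingleton
  exact Sylow.subtype_injective (hP := hle) (hQ := le_normalizer) (Subsingleton.elim _ _)

theorem card_sylow_eleven_eq (hM : Cfsg.IsM11 G) (P : Sylow 11 G) :
    Nat.card (P : Subgroup G) = 11 := by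
  simpa using CfsgLib.SmallGroups.card_sylow_eq (p := 11) (a := 1) (m := 720)
    (by rw [hM.2]; norm_num) (by norm_num) P

theorem card_sylow_five_eq (hM : Cfsg.IsM11 G) (P : Sylow 5 G) :
    Nat.card (P : Subgroup G) = 5 := by
  simpa using CfsgLib.SmallGroups.card_sylow_eq (p := 5) (a := 1) (m := 1584)
    (by rw [hM.2]; norm_num) (by norm_num) P

theorem zpowers_eq_of_mem {p : ℕ} [hp : Fact p.Prime] {H : Subgroup G} (hH : Nat.card H = p)
    {a : G} (ha : a ∈ H) (ha1 : a ≠ 1) : H = zpowers a := by
  refine (Subgroup.eq_of_le_of_card_ge (zpowers_le.2 ha) ?_).symm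
  rw [hH, Nat.card_zpowers]
  rcases (Nat.dvd_prime hp.out).1 ((Subgroup.orderOf_dvd_natCard _ ha).trans (dvd_of_eq hH))
    with h | h
  · exact absurd (orderOf_eq_one_iff.1 h) ha1
  · exact h.ge

theorem exists_ne_one {p : ℕ} [hp : Fact p.Prime] {H : Subgroup G} (hH : Nat.card H = p) :
    ∃ a ∈ H, orderOf a = p ∧ H = zpowers a := by
  obtain ⟨⟨a, ha⟩, ho⟩ := exists_prime_orderOf_dvd_card' (G := H) p (dvd_of_eq hH.symm)
  rw [orderOf_mk] at ho
  exact ⟨a, ha, ho, zpowers_eq_of_mem hH ha fun e => hp.out.one_lt.ne (by rw [← ho, e, orderOf_one])⟩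

/-- A generator of a Sylow subgroup of prime order fixes exactly one Sylow subgroup. -/
theorem fix_sylow_subset {p : ℕ} [Fact p.Prime] (P Q : Sylow p G) {a : G}
    (hgen : (P : Subgroup G) = zpowers a) : a • Q = Q ↔ Q = P := by
  refine ⟨fun h => (sylow_eq_of_fix P Q h hgen).symm, ?_⟩
  rintro rfl
  exact Sylow.smul_eq_iff_mem_normalizer.2 (le_normalizer (by rw [hgen]; exact mem_zpowers a))

theorem faithful_sylow (hM : Cfsg.IsM11 G) {p : ℕ} [Fact p.Prime] (hp : p ∣ Nat.card G) {g : G}
    (hg : ∀ Q : Sylow p G, g • Q = Q) : g = 1 := by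
  have := hM.1
  obtain ⟨P⟩ := (inferInstance : Nonempty (Sylow p G))
  have hne := CfsgLib.SmallGroups.normalizer_sylow_ne_top (noncomm hM) hp P
  have hmem : g ∈ (normalizer ((P : Subgroup G) : Set G)).normalCore := by
    intro c
    have h : g • c⁻¹ • P = c⁻¹ • P := hg _
    rw [← mul_smul, eq_inv_smul_iff, ← mul_smul, ← mul_assoc] at h
    exact Sylow.smul_eq_iff_mem_normalizer.1 h
  have hbot := CfsgLib.SmallGroups.eq_bot_of_normal
    (H := (normalizer ((P : Subgroup G) : Set G)).normalCore) inferInstance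
    fun h => hne (top_le_iff.1 (h ▸ normalCore_le _))
  rw [hbot, mem_bot] at hmem
  exact hmem

theorem card_orbit_eleven {P Q : Sylow 11 G} {a : G} (hPc : Nat.card (P : Subgroup G) = 11)
    (hgen : (P : Subgroup G) = zpowers a) (hQ : Q ≠ P) :
    (orbit (P : Subgroup G) Q).ncard = 11 := by
  have h1 : (orbit (P : Subgroup G) Q).ncard ∣ 11 := by
    rw [← index_stabilizer]
    exact (index_dvd_card _).trans (dvd_of_eq hPc)
  rcases (Nat.dvd_prime (by norm_num)).1 h1 with h | h
  · exfalso
    obtain ⟨r, hr⟩ := Set.ncard_eq_one.1 h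
    have e1 : Q = r := by simpa [hr] using mem_orbit_self (M := (P : Subgroup G)) Q
    have e2 : (⟨a, hgen ▸ mem_zpowers a⟩ : (P : Subgroup G)) • Q = r := by
      simpa [hr] using mem_orbit Q (⟨a, hgen ▸ mem_zpowers a⟩ : (P : Subgroup G))
    exact hQ ((fix_sylow_subset P Q hgen).1 (e2.trans e1.symm))
  · exact h

theorem sylow_eleven (hM : Cfsg.IsM11 G) (P : Sylow 11 G) :
    Nat.card (Sylow 11 G) = 144 ∧ Nat.card (normalizer ((P : Subgroup G) : Set G)) = 55 ∧
      centralizer ((P : Subgroup G) : Set G) = (P : Subgroup G) := by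
  have := hM.1
  have hG := noncomm hM
  have hPc := card_sylow_eleven_eq hM P
  have hn : Nat.card G = 11 * 720 := hM.2
  obtain ⟨c, e, hc, hN, he1, he, hmul⟩ :=
    CfsgLib.SmallGroups.sylow_prime_data hG hn (by norm_num) P
  have hmem := CfsgLib.SmallGroups.card_sylow_mem (p := 11) (a := 1) (m := 720)
    (by rw [hM.2]; norm_num : Nat.card G = 11 ^ 1 * 720) (by norm_num)
  rw [show (Nat.divisors 720).filter (fun d => d % 11 = 1) = {1, 12, 45, 144} by decide +kernel]
    at hmem
  simp only [Finset.mem_insert, Finset.mem_singleton] at hmem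
  have h1 := CfsgLib.SmallGroups.one_lt_card_sylow hG (p := 11) (by rw [hM.2]; norm_num)
  obtain ⟨a, ha, hao, hgen⟩ := exists_ne_one hPc
  have hcomm : (P : Subgroup G) ≤ centralizer ((P : Subgroup G) : Set G) := fun x hx => by
    refine mem_centralizer_iff.2 fun y hy => ?_
    rw [SetLike.mem_coe, hgen] at hy
    rw [hgen] at hx
    obtain ⟨i, rfl⟩ := hx
    obtain ⟨j, rfl⟩ := hy
    exact zpow_mul_comm a j i
  rcases hmem with h | h | h | h
  · omega
  · -- twelve points
    exfalso
    rw [h] at hmul
    have hCP : centralizer ((P : Subgroup G) : Set G) ≤ (P : Subgroup G) := by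
      intro x hx
      obtain ⟨Q, hQ⟩ : ∃ Q : Sylow 11 G, Q ≠ P := by
        by_contra hall
        push Not at hall
        have : Subsingleton (Sylow 11 G) := ⟨fun A B => (hall A).trans (hall B).symm⟩
        have := Nat.card_of_subsingleton P
        omega
      have hxP : x • P = P :=
        Sylow.smul_eq_iff_mem_normalizer.2 (centralizer_le_normalizer _ hx)
      have horb : ∀ R : Sylow 11 G, R ≠ P → R ∈ orbit (P : Subgroup G) Q := by
        intro R hR
        by_contra hRo
        have hsub : insert P (insert R (orbit (P : Subgroup G) Q)) ⊆ Set.univ := Set.subset_univ _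
        have hPo : P ∉ orbit (P : Subgroup G) Q := by
          rintro ⟨k, hk⟩
          refine hQ ?_
          have hk' : (k : G) • Q = P := hk
          rw [← eq_inv_smul_iff] at hk'
          rw [hk', Sylow.smul_eq_iff_mem_normalizer]
          exact inv_mem (le_normalizer k.2)
        have h2 := Set.ncard_le_ncard hsub
        rw [Set.ncard_univ, h, Set.ncard_insert_of_notMem, Set.ncard_insert_of_notMem hRo,
          card_orbit_eleven hPc hgen hQ] at h2
        · omega
        · simp [hPo, hR.symm]
      have hxQ : x • Q ≠ P := fun e => hQ (smul_left_cancel x (e.trans hxP.symm))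
      obtain ⟨k, hk⟩ := horb _ hxQ
      suffices (k : G)⁻¹ * x = 1 by
        rw [inv_mul_eq_one] at this
        rw [← this]; exact k.2
      refine faithful_sylow hM (p := 11) (by rw [hM.2]; norm_num) fun R => ?_
      have hfixQ : ((k : G)⁻¹ * x) • Q = Q := by
        rw [mul_smul, inv_smul_eq_iff]; exact hk.symm
      by_cases hR : R = P
      · rw [hR, mul_smul, hxP, Sylow.smul_eq_iff_mem_normalizer]
        exact inv_mem (le_normalizer k.2)
      · obtain ⟨j, rfl⟩ := horb R hR
        show ((k : G)⁻¹ * x) • (j : G) • Q = (j : G) • Q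
        have hcommj : ((k : G)⁻¹ * x) * j = j * ((k : G)⁻¹ * x) :=
          (mem_centralizer_iff.1 (mul_mem (inv_mem (hcomm k.2)) hx) (j : G) j.2).symm
        rw [← mul_smul, hcommj, mul_smul, hfixQ]
    have hc1 : c = 1 := by
      have := Subgroup.card_le_of_le hCP
      rw [hc, hPc] at this
      have hc0 : c ≠ 0 := by rintro rfl; omega
      omega
    subst hc1
    have := Nat.le_of_dvd (by norm_num) he
    omega
  · -- forty-five points
    exfalso
    rw [h] at hmul
    have he' : e ∈ Nat.divisors 10 := Nat.mem_divisors.2 ⟨he, by norm_num⟩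
    rw [show Nat.divisors 10 = {1, 2, 5, 10} by decide] at he'
    simp only [Finset.mem_insert, Finset.mem_singleton] at he'
    have hc8 : c = 8 := by rcases he' with rfl | rfl | rfl | rfl <;> omega
    have : Fact (Nat.Prime 2) := ⟨by norm_num⟩
    obtain ⟨Q0, hQ0⟩ := Sylow.exists_subgroup_card_pow_prime
      (G := centralizer ((P : Subgroup G) : Set G)) 2 (n := 3) (by rw [hc, hc8]; norm_num)
    set Q : Subgroup G := Q0.map (Subgroup.subtype _)
    have hQc : Nat.card Q = 8 := by
      rw [Subgroup.card_map_of_injective (Subgroup.subtype_injective _), hQ0]; norm_num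
    have hQC : Q ≤ centralizer ((P : Subgroup G) : Set G) := map_subtype_le _
    have hQ2 : IsPGroup 2 Q := IsPGroup.of_card (n := 3) (by rw [hQc]; norm_num)
    have hX : Nat.card (Sylow 11 G) = 45 := h
    have hfix : ∀ q : Q, q ≠ 1 → ∀ R : Sylow 11 G, q • R = R → R = P := by
      -- involutions first
      have hinv : ∀ t ∈ Q, t ≠ 1 → t ^ 2 = 1 → ∀ R : Sylow 11 G, t • R = R → R = P := by
        intro t ht ht1 ht2 R hR
        by_contra hRP
        have ⟨hdvd, hle⟩ := card_sub_fixCount (X := Sylow 11 G) hG ht2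
        have htP : t • P = P :=
          Sylow.smul_eq_iff_mem_normalizer.2 (centralizer_le_normalizer _ (hQC ht))
        let S : SubMulAction (P : Subgroup G) (Sylow 11 G) :=
          { carrier := {R | t • R = R}
            smul_mem' := fun k R hR => by
              show t • (k : G) • R = (k : G) • R
              rw [← mul_smul, ← mem_centralizer_iff.1 (hQC ht) (k : G) k.2, mul_smul, hR] }
        have hP11 : IsPGroup 11 (P : Subgroup G) := P.2
        have hmod := hP11.card_modEq_card_fixedPoints S
        have hfixS : fixedPoints (P : Subgroup G) S = {⟨P, htP⟩} := by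
          ext ⟨A, hA⟩
          refine ⟨fun hA' => Subtype.ext ((fix_sylow_subset P A hgen).1
            (congrArg Subtype.val (hA' ⟨a, ha⟩))), ?_⟩
          rintro ⟨⟩ k
          exact Subtype.ext (Sylow.smul_eq_iff_mem_normalizer.2 (le_normalizer k.2))
        rw [hfixS] at hmod
        have hcS : Nat.card S = fixCount (Sylow 11 G) t := rfl
        have h1S : Nat.card ({⟨P, htP⟩} : Set S) = 1 := Nat.card_unique
        rw [hcS, h1S] at hmod
        have h2S : 2 ≤ fixCount (Sylow 11 G) t := by
          have hp := Nat.card_le_card_of_injective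
            (fun b : Bool => (cond b ⟨P, htP⟩ ⟨R, hR⟩ : {q : Sylow 11 G // t • q = q}))
            (by intro b b' e; cases b <;> cases b' <;> simp_all [eq_comm])
          simpa [fixCount] using hp
        rw [hX] at hdvd hle
        have hmod' : fixCount (Sylow 11 G) t % 11 = 1 := hmod
        have hall : fixCount (Sylow 11 G) t = 45 := by omega
        refine ht1 (faithful_sylow hM (p := 11) (by rw [hM.2]; norm_num) fun A => ?_)
        have := (Finite.card_eq_zero_iff (α := {q : Sylow 11 G // ¬ t • q = q})).1 (by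
          have := Fintype.ofFinite (Sylow 11 G)
          rw [Nat.card_eq_fintype_card, Fintype.card_subtype_compl, ← Nat.card_eq_fintype_card,
            ← Nat.card_eq_fintype_card, hX]
          exact Nat.sub_eq_zero_of_le (le_of_eq hall.symm))
        by_contra hA
        exact this.false ⟨A, hA⟩
      intro q hq R hR
      obtain ⟨k, hk⟩ := hQ2.exists_orderOf_eq_pow q
      rcases k with _ | k
      · exact absurd (orderOf_eq_one_iff.1 (by simpa using hk)) hq
      · refine hinv ((q ^ 2 ^ k : Q) : G) (q ^ 2 ^ k : Q).2 ?_ ?_ R ?_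
        · intro e
          have := orderOf_dvd_of_pow_eq_one (x := q) (n := 2 ^ k) (Subtype.ext e)
          rw [hk, Nat.pow_dvd_pow_iff_le_right (by norm_num)] at this
          omega
        · rw [SubgroupClass.coe_pow, ← pow_mul, ← pow_succ, ← hk]
          exact congrArg Subtype.val (pow_orderOf_eq_one q)
        · have hmem : q ^ 2 ^ k ∈ stabilizer Q R := pow_mem (by exact hR) _
          exact hmem
    have : Fintype Q := Fintype.ofFinite _
    have : Fintype (Sylow 11 G) := Fintype.ofFinite _
    have hburn := MulAction.sum_card_fixedBy_eq_card_orbits_mul_card_group Q (Sylow 11 G)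
    have hsum : ∑ q : Q, Fintype.card (fixedBy (Sylow 11 G) q) = 45 + 7 * 1 := by
      rw [← Finset.add_sum_erase _ _ (Finset.mem_univ (1 : Q))]
      congr 1
      · rw [← hX, Nat.card_eq_fintype_card]
        exact Fintype.card_of_bijective (f := Subtype.val)
          ⟨Subtype.val_injective, fun R => ⟨⟨R, one_smul Q R⟩, rfl⟩⟩
      · rw [Finset.sum_congr rfl (g := fun _ => 1), Finset.sum_const, Finset.card_erase_of_mem
          (Finset.mem_univ _), Finset.card_univ, ← Nat.card_eq_fintype_card, hQc, smul_eq_mul]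
        intro q hq
        rw [Fintype.card_eq_one_iff]
        refine ⟨⟨P, ?_⟩, fun R => Subtype.ext (hfix q (Finset.ne_of_mem_erase hq) R.1 R.2)⟩
        exact Sylow.smul_eq_iff_mem_normalizer.2 (centralizer_le_normalizer _ (hQC q.2))
    rw [hsum, ← Nat.card_eq_fintype_card (α := Q), hQc] at hburn
    omega
  · refine ⟨h, ?_, le_antisymm ?_ hcomm⟩
    · rw [h] at hmul
      rw [hN, mul_assoc, show c * e = 5 by omega]
      norm_num
    · have hc1 : c = 1 := by
        rw [h] at hmul
        have h5 : c ∣ 5 := Dvd.intro e (by omega)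
        rcases (Nat.dvd_prime (by norm_num)).1 h5 with hc' | hc'
        · exact hc'
        · subst hc'; omega
      refine (Subgroup.eq_of_le_of_card_ge hcomm ?_).ge
      rw [hc, hc1, hPc]

theorem centralizer_orderOf_eleven (hM : Cfsg.IsM11 G) {a : G} (ha : orderOf a = 11) :
    centralizer ({a} : Set G) = zpowers a := by
  obtain ⟨P, hle⟩ := (IsPGroup.of_card (p := 11) (n := 1)
    (by rw [Nat.card_zpowers, ha, pow_one] : Nat.card (zpowers a) = 11 ^ 1)).exists_le_sylow
  have hgen : (P : Subgroup G) = zpowers a :=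
    zpowers_eq_of_mem (card_sylow_eleven_eq hM P) (hle (mem_zpowers a))
      fun e => by rw [e, orderOf_one] at ha; omega
  rw [← hgen, ← (sylow_eleven hM P).2.2, hgen]
  refine le_antisymm (fun x hx => mem_centralizer_iff.2 ?_) fun x hx => ?_
  · rintro _ ⟨i, rfl⟩
    exact Commute.zpow_left (mem_centralizer_singleton_iff.1 hx).symm i
  · exact mem_centralizer_singleton_iff.2 (mem_centralizer_iff.1 hx a (mem_zpowers a)).symm

theorem sylow_five_eleven (hM : Cfsg.IsM11 G) (R : Sylow 5 G) :
    ¬ 11 ∣ Nat.card (centralizer ((R : Subgroup G) : Set G)) := by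
  intro h
  obtain ⟨b, hb, hbo, -⟩ := exists_ne_one (card_sylow_five_eq hM R)
  obtain ⟨⟨a, ha⟩, hao⟩ := exists_prime_orderOf_dvd_card' 11 h
  rw [orderOf_mk] at hao
  have hmem : b ∈ centralizer ({a} : Set G) :=
    mem_centralizer_singleton_iff.2 (mem_centralizer_iff.1 ha b hb)
  rw [centralizer_orderOf_eleven hM hao] at hmem
  have := Subgroup.orderOf_dvd_natCard _ hmem
  rw [hbo, Nat.card_zpowers, hao] at this
  omega

theorem orderOf_five_of_mem_normalizer (hM : Cfsg.IsM11 G) (P : Sylow 11 G) {x : G}
    (hx : x ∈ normalizer ((P : Subgroup G) : Set G)) (hxP : x ∉ (P : Subgroup G)) :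
    orderOf x = 5 := by
  have h := Subgroup.orderOf_dvd_natCard _ hx
  rw [(sylow_eleven hM P).2.1] at h
  have hd : orderOf x ∈ Nat.divisors 55 := Nat.mem_divisors.2 ⟨h, by norm_num⟩
  rw [show Nat.divisors 55 = {1, 5, 11, 55} by decide] at hd
  simp only [Finset.mem_insert, Finset.mem_singleton] at hd
  have key : ∀ a : G, orderOf a = 11 → a ∈ normalizer ((P : Subgroup G) : Set G) → a ∈ P := by
    intro a ha hmem
    obtain ⟨Q, hle⟩ := (IsPGroup.of_card (p := 11) (n := 1)
      (by rw [Nat.card_zpowers, ha, pow_one] : Nat.card (zpowers a) = 11 ^ 1)).exists_le_sylow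
    have hgen := zpowers_eq_of_mem (card_sylow_eleven_eq hM Q) (hle (mem_zpowers a))
      fun e => by rw [e, orderOf_one] at ha; omega
    have := sylow_eq_of_fix Q P (Sylow.smul_eq_iff_mem_normalizer.2 hmem) hgen
    exact this ▸ hle (mem_zpowers a)
  rcases hd with h | h | h | h
  · exact absurd (orderOf_eq_one_iff.1 h ▸ one_mem _) hxP
  · exact h
  · exact absurd (key x h hx) hxP
  · exfalso
    have h11 : orderOf (x ^ 5) = 11 := by rw [orderOf_pow' x (by norm_num), h]; norm_num
    have hmem : x ∈ centralizer ({x ^ 5} : Set G) :=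
      mem_centralizer_singleton_iff.2 (Commute.self_pow x 5)
    rw [centralizer_orderOf_eleven hM h11] at hmem
    have := Subgroup.orderOf_dvd_natCard _ hmem
    rw [h, Nat.card_zpowers, h11] at this
    omega

/-- An element of order five fixes at most one Sylow 11-subgroup in each orbit of one it fixes. -/
theorem fixCount_five_le (hM : Cfsg.IsM11 G) {b : G} (hb : orderOf b = 5) :
    fixCount (Sylow 11 G) b ≤ 14 := by
  rcases Nat.eq_zero_or_pos (fixCount (Sylow 11 G) b) with h | h
  · omega
  obtain ⟨⟨P, hbP⟩⟩ := (Nat.card_pos_iff.1 h).1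
  have hPc := card_sylow_eleven_eq hM P
  obtain ⟨a, ha, hao, hgen⟩ := exists_ne_one hPc
  have hnum : Nat.card (Quotient (orbitRel (P : Subgroup G) (Sylow 11 G))) ≤ 14 := by
    have : Fintype (P : Subgroup G) := Fintype.ofFinite _
    have : Fintype (Sylow 11 G) := Fintype.ofFinite _
    have hburn :=
      MulAction.sum_card_fixedBy_eq_card_orbits_mul_card_group (P : Subgroup G) (Sylow 11 G)
    have hsum : ∑ q : (P : Subgroup G), Fintype.card (fixedBy (Sylow 11 G) q) = 144 + 10 * 1 := by
      rw [← Finset.add_sum_erase _ _ (Finset.mem_univ (1 : (P : Subgroup G)))]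
      congr 1
      · rw [← (sylow_eleven hM P).1, Nat.card_eq_fintype_card]
        exact Fintype.card_of_bijective (f := Subtype.val)
          ⟨Subtype.val_injective, fun R => ⟨⟨R, one_smul (P : Subgroup G) R⟩, rfl⟩⟩
      · rw [Finset.sum_congr rfl (g := fun _ => 1), Finset.sum_const, Finset.card_erase_of_mem
          (Finset.mem_univ _), Finset.card_univ, ← Nat.card_eq_fintype_card, hPc, smul_eq_mul]
        intro q hq
        rw [Fintype.card_eq_one_iff]
        refine ⟨⟨P, Sylow.smul_eq_iff_mem_normalizer.2 (le_normalizer q.2)⟩, fun R => Subtype.ext ?_⟩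
        refine (fix_sylow_subset P R.1 (zpowers_eq_of_mem hPc q.2 fun e => ?_)).1 R.2
        exact Finset.ne_of_mem_erase hq (Subtype.ext e)
    rw [hsum, ← Nat.card_eq_fintype_card (α := (P : Subgroup G)), hPc] at hburn
    rw [Nat.card_eq_fintype_card]
    omega
  refine le_trans (Nat.card_le_card_of_injective
    (fun R : {R : Sylow 11 G // b • R = R} =>
      (Quotient.mk'' R.1 : Quotient (orbitRel (P : Subgroup G) (Sylow 11 G)))) ?_) hnum
  rintro ⟨R, hR⟩ ⟨R', hR'⟩ e
  obtain ⟨k, hk⟩ : R' ∈ orbit (P : Subgroup G) R := Quotient.exact' e.symm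
  have hk' : (k : G) • R = R' := hk
  refine Subtype.ext (?_ : R = R')
  by_cases hk1 : (k : G) = 1
  · rw [← hk', hk1, one_smul]
  by_cases hRP : R = P
  · subst hRP
    rw [← hk', Sylow.smul_eq_iff_mem_normalizer.2 (le_normalizer k.2)]
  exfalso
  have hcomk : (k : G)⁻¹ * b⁻¹ * k * b ∈ (P : Subgroup G) := by
    have hbN := Sylow.smul_eq_iff_mem_normalizer.1 hbP
    have h1 := (Subgroup.mem_normalizer_iff''.1 hbN (k : G)).1 k.2
    have : (k : G)⁻¹ * (b⁻¹ * k * b) ∈ (P : Subgroup G) := mul_mem (inv_mem k.2) h1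
    simpa [mul_assoc] using this
  have hfixR : ((k : G)⁻¹ * b⁻¹ * k * b) • R = R := by
    rw [mul_smul, mul_smul, mul_smul, hR, hk', inv_smul_eq_iff.2 hR'.symm, inv_smul_eq_iff, hk']
  have h1 : (k : G)⁻¹ * b⁻¹ * k * b = 1 := by
    by_contra hne
    exact hRP ((fix_sylow_subset P R (zpowers_eq_of_mem hPc hcomk hne)).1 hfixR)
  have hcomm : (k : G) * b = b * k := by
    calc (k : G) * b = b * k * ((k : G)⁻¹ * b⁻¹ * k * b) := by group
      _ = b * k := by rw [h1, mul_one]
  have hkgen := zpowers_eq_of_mem hPc k.2 hk1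
  have hko : orderOf (k : G) = 11 := by rw [← Nat.card_zpowers, ← hkgen, hPc]
  have hmem : b ∈ centralizer ({(k : G)} : Set G) := mem_centralizer_singleton_iff.2 hcomm.symm
  rw [centralizer_orderOf_eleven hM hko] at hmem
  have := Subgroup.orderOf_dvd_natCard _ hmem
  rw [hb, Nat.card_zpowers, hko] at this
  omega

theorem sylow_five (hM : Cfsg.IsM11 G) : Nat.card (Sylow 5 G) = 396 := by
  have := hM.1
  have hG := noncomm hM
  obtain ⟨R⟩ := (inferInstance : Nonempty (Sylow 5 G))
  have hn : Nat.card G = 5 * 1584 := hM.2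
  obtain ⟨c, e, hc, hN, he1, he, hmul⟩ :=
    CfsgLib.SmallGroups.sylow_prime_data hG hn (by norm_num) R
  have hmem := CfsgLib.SmallGroups.card_sylow_mem (p := 5) (a := 1) (m := 1584)
    (by rw [hM.2]; norm_num : Nat.card G = 5 ^ 1 * 1584) (by norm_num)
  rw [show (Nat.divisors 1584).filter (fun d => d % 5 = 1) = {1, 6, 11, 16, 36, 66, 176, 396} by
    decide +kernel] at hmem
  simp only [Finset.mem_insert, Finset.mem_singleton] at hmem
  -- double counting of pairs (element of order five, Sylow 11-subgroup it normalises)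
  have : Fintype G := Fintype.ofFinite G
  have : Fintype (Sylow 11 G) := Fintype.ofFinite _
  have hper : ∀ P : Sylow 11 G,
      ((Finset.univ.filter fun b : G => orderOf b = 5).filter fun b => b • P = P).card = 44 := by
    intro P
    have hset : ((Finset.univ.filter fun b : G => orderOf b = 5).filter fun b => b • P = P) =
        (Finset.univ.filter fun b : G => b ∈ normalizer ((P : Subgroup G) : Set G)) \
          (Finset.univ.filter fun b : G => b ∈ (P : Subgroup G)) := by
      ext b
      simp only [Finset.mem_filter, Finset.mem_univ, true_and, Finset.mem_sdiff,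
        Sylow.smul_eq_iff_mem_normalizer]
      constructor
      · rintro ⟨ho, hb⟩
        refine ⟨hb, fun hbP => ?_⟩
        have := Subgroup.orderOf_dvd_natCard _ hbP
        rw [ho, card_sylow_eleven_eq hM P] at this
        omega
      · rintro ⟨hb, hbP⟩
        exact ⟨orderOf_five_of_mem_normalizer hM P hb hbP, hb⟩
    rw [hset, Finset.card_sdiff_of_subset (by
      intro b hb
      simp only [Finset.mem_filter, Finset.mem_univ, true_and] at hb ⊢
      exact le_normalizer hb), ← Fintype.card_subtype, ← Fintype.card_subtype,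
      ← Nat.card_eq_fintype_card, ← Nat.card_eq_fintype_card]
    have h1 := (sylow_eleven hM P).2.1
    have h2 := card_sylow_eleven_eq hM P
    omega
  have hle : ∀ b ∈ Finset.univ.filter (fun b : G => orderOf b = 5),
      (Finset.univ.filter fun P : Sylow 11 G => b • P = P).card ≤ 14 := fun b hb => by
    rw [← Fintype.card_subtype, ← Nat.card_eq_fintype_card]
    exact fixCount_five_le hM (Finset.mem_filter.1 hb).2
  have hdc := Finset.sum_card_bipartiteAbove_eq_sum_card_bipartiteBelow
    (r := fun (b : G) (P : Sylow 11 G) => b • P = P)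
    (s := Finset.univ.filter fun b : G => orderOf b = 5) (t := Finset.univ)
  simp only [Finset.bipartiteAbove, Finset.bipartiteBelow] at hdc
  rw [Finset.sum_congr rfl fun P _ => hper P, Finset.sum_const, smul_eq_mul, Finset.card_univ,
    ← Nat.card_eq_fintype_card, (sylow_eleven hM (Classical.arbitrary _)).1] at hdc
  have hbound := Finset.sum_le_card_nsmul _ _ _ hle
  rw [hdc, smul_eq_mul, ← Fintype.card_subtype, ← Nat.card_eq_fintype_card,
    card_orderOf_eq hn (by norm_num)] at hbound
  rcases hmem with h | h | h | h | h | h | h | h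
  all_goals first
    | omega
    | skip
  exfalso
  have he' : e ∈ Nat.divisors 4 := Nat.mem_divisors.2 ⟨he, by norm_num⟩
  rw [show Nat.divisors 4 = {1, 2, 4} by decide] at he'
  simp only [Finset.mem_insert, Finset.mem_singleton] at he'
  rw [h] at hmul
  rcases he' with rfl | rfl | rfl <;> omega

theorem normalizer_five (hM : Cfsg.IsM11 G) (R : Sylow 5 G) :
    Nat.card (normalizer ((R : Subgroup G) : Set G)) = 20 := by
  have h := CfsgLib.SmallGroups.card_sylow_mul_card_normalizer R
  rw [sylow_five hM, hM.2] at h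
  omega

end CfsgLib.Mathieu.Order7920
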