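import Cfsg.Agent.Lib.Mathieu.Order7920.Eleven

/-!
Simple groups of order 7920: Sylow 5-subgroups are self-centralising.
-/

set_option autoImplicit false

namespace CfsgLib.Mathieu.Order7920

open Subgroup MulAction
open scoped Classical

universe u

variable {G : Type u} [Group G] [Finite G]

local instance fact_prime_two' : Fact (Nat.Prime 2) := ⟨by norm_num⟩
local instance fact_prime_three' : Fact (Nat.Prime 3) := ⟨by norm_num⟩
local instance fact_prime_five' : Fact (Nat.Prime 5) := ⟨by norm_num⟩

/-- Counting fixed points of a `p`-group acting on an invariant set by conjugation. -/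
theorem card_modEq_conj {p : ℕ} [Fact p.Prime] {Q : Subgroup G} (hQ : IsPGroup p Q) (S : Set G)
    (hS : ∀ k ∈ Q, ∀ s ∈ S, k * s * k⁻¹ ∈ S) :
    Nat.card S ≡ Nat.card {s : G | s ∈ S ∧ ∀ k ∈ Q, k * s = s * k} [MOD p] := by
  let _ : MulAction Q S :=
    { smul := fun k s => ⟨k * s * (k : G)⁻¹, hS k k.2 s s.2⟩
      one_smul := fun s => Subtype.ext (by show (1 : G) * s * (1 : G)⁻¹ = s; simp)
      mul_smul := fun k l s => Subtype.ext (by
        show ((k * l : Q) : G) * s * ((k * l : Q) : G)⁻¹ = k * (l * s * (l : G)⁻¹) * (k : G)⁻¹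
        simp [mul_assoc]) }
  refine (hQ.card_modEq_card_fixedPoints S).trans (congrArg (· % p) ?_)
  refine Nat.card_congr ⟨fun s => ⟨s.1.1, s.1.2, fun k hk => ?_⟩,
    fun s => ⟨⟨s.1, s.2.1⟩, fun k => Subtype.ext ?_⟩, fun s => rfl, fun s => rfl⟩
  · exact mul_inv_eq_iff_eq_mul.1 (congrArg Subtype.val (s.2 ⟨k, hk⟩))
  · exact mul_inv_eq_iff_eq_mul.2 (s.2.2 k k.2)

theorem pow_fiveEleven_card (hM : Cfsg.IsM11 G) (H : Subgroup G) (h5 : ¬ 5 ∣ Nat.card H)
    (h11 : ¬ 11 ∣ Nat.card H) : Nat.card H ∣ 144 := by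
  have h : Nat.card H ∣ 144 * 55 := by
    have := H.card_subgroup_dvd_card
    rw [hM.2] at this
    exact this
  exact ((Nat.Coprime.mul_right ((Nat.Prime.coprime_iff_not_dvd (by norm_num)).2 h5).symm
    ((Nat.Prime.coprime_iff_not_dvd (by norm_num)).2 h11).symm : (Nat.card H).Coprime (5 * 11))).dvd_of_dvd_mul_right h

/-- An element of order three normalised by a Sylow 5-subgroup commutes with it. -/
theorem commute_of_normalize_three {b y : G} (hb : b ^ 5 = 1) (hy : orderOf y = 3)
    (h : b * y * b⁻¹ ∈ zpowers y) : b * y = y * b := by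
  rw [mem_zpowers_iff_mem_range_orderOf, hy, Finset.mem_image] at h
  obtain ⟨i, hi, he⟩ := h
  have hit : ∀ j : ℕ, b ^ j * y * (b ^ j)⁻¹ = y ^ i ^ j := by
    intro j
    induction j with
    | zero => simp
    | succ j ih =>
      calc b ^ (j + 1) * y * (b ^ (j + 1))⁻¹ = b * (b ^ j * y * (b ^ j)⁻¹) * b⁻¹ := by
            rw [pow_succ']; simp [mul_assoc]
        _ = b * y ^ i ^ j * b⁻¹ := by rw [ih]
        _ = y ^ i ^ (j + 1) := by rw [← conj_pow, ← he, ← pow_mul, pow_succ']
  have h5 := hit 5
  rw [hb, one_mul, inv_one, mul_one, eq_comm] at h5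
  conv_rhs at h5 => rw [← pow_one y]
  rw [pow_eq_pow_iff_modEq, hy] at h5
  rw [Finset.mem_range] at hi
  interval_cases i
  · exact absurd h5 (by decide)
  · rw [pow_one] at he
    exact mul_inv_eq_iff_eq_mul.1 he.symm
  · exact absurd h5 (by decide)

section Commuting

variable {b u : G}

theorem card_eq_self_of_fixed {E : Subgroup G} (hEc : Nat.card E = 8) {F : Subgroup G}
    (hF3 : 3 ≤ Nat.card F) (hFE : F ≤ E) {y : G} (hy : y ^ 3 = 1)
    (hnorm : ∀ e ∈ E, y * e * y⁻¹ ∈ E) (hFy : ∀ e ∈ E, e ∈ F ↔ y * e = e * y) : E ≤ F := by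
  have hd := card_dvd_of_le hFE
  rw [hEc] at hd
  have hmem : Nat.card F ∈ Nat.divisors 8 := Nat.mem_divisors.2 ⟨hd, by norm_num⟩
  rw [show Nat.divisors 8 = {1, 2, 4, 8} by decide] at hmem
  simp only [Finset.mem_insert, Finset.mem_singleton] at hmem
  rcases hmem with h | h | h | h
  · omega
  · omega
  · intro e he
    by_contra heF
    have hidx : (F.subgroupOf E).index = 2 := by
      have h1 := Subgroup.card_mul_index (F.subgroupOf E)
      rw [Nat.card_congr (subgroupOfEquivOfLe hFE).toEquiv, h, hEc] at h1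
      omega
    have hfix : ∀ f ∈ F, y * f * y⁻¹ = f := fun f hf =>
      mul_inv_eq_iff_eq_mul.2 ((hFy f (hFE hf)).1 hf)
    have hnotF : y * e * y⁻¹ ∉ F := by
      intro hc
      have h2 := hfix _ hc
      have h3 : y * e * y⁻¹ = e := by
        have h4 : y * (y * e * y⁻¹) * y⁻¹ = y * e * y⁻¹ := h2
        exact mul_left_cancel (mul_right_cancel h4)
      exact heF (h3 ▸ hc)
    have hw : e⁻¹ * (y * e * y⁻¹) ∈ F := by
      have := (Subgroup.mul_mem_iff_of_index_two hidx
        (a := (⟨e⁻¹, inv_mem he⟩ : E)) (b := ⟨y * e * y⁻¹, hnorm e he⟩))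
      simp only [mem_subgroupOf, MulMemClass.mk_mul_mk] at this
      exact this.2 (iff_of_false (fun hc => heF (inv_mem_iff.1 hc)) hnotF)
    obtain ⟨w, hwdef⟩ : ∃ w, w = e⁻¹ * (y * e * y⁻¹) := ⟨_, rfl⟩
    rw [← hwdef] at hw
    have h1 : y * e * y⁻¹ = e * w := by rw [hwdef, mul_inv_cancel_left]
    have hw1 := hfix w hw
    have h2 : y * (e * w) * y⁻¹ = e * w * w := by
      calc y * (e * w) * y⁻¹ = (y * e * y⁻¹) * (y * w * y⁻¹) := by group
        _ = e * w * w := by rw [h1, hw1]
    have h3 : y * (e * w * w) * y⁻¹ = e * w * w * w := by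
      calc y * (e * w * w) * y⁻¹ = (y * e * y⁻¹) * (y * w * y⁻¹) * (y * w * y⁻¹) := by group
        _ = e * w * w * w := by rw [h1, hw1]
    have h4 : e = e * w * w * w := by
      calc e = y ^ 3 * e * (y ^ 3)⁻¹ := by simp [hy]
        _ = y * (y * (y * e * y⁻¹) * y⁻¹) * y⁻¹ := by rw [pow_three]; simp [mul_assoc]
        _ = e * w * w * w := by rw [h1, h2, h3]
    have h5 : w ^ 3 = 1 := by
      rw [mul_assoc, mul_assoc, left_eq_mul] at h4
      rw [pow_three]; exact h4
    have h8 : w ^ 8 = 1 := by
      have := Subgroup.orderOf_dvd_natCard _ (hFE hw)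
      rw [hEc] at this
      exact orderOf_dvd_iff_pow_eq_one.1 this
    have h6 : w = 1 := by
      calc w = (w ^ 3) ^ 3 * (w ^ 8)⁻¹ := by rw [← pow_mul]; group
        _ = 1 := by rw [h5, h8]; simp
    rw [h6, mul_one] at h1
    exact heF ((hFy e he).2 (mul_inv_eq_iff_eq_mul.1 h1))
  · exact (Subgroup.eq_of_le_of_card_ge hFE (by omega)).ge

end Commuting

theorem centralizer_sylow_five (hM : Cfsg.IsM11 G) (R : Sylow 5 G) :
    centralizer ((R : Subgroup G) : Set G) = (R : Subgroup G) := by
  have := hM.1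
  have hG := noncomm hM
  have hn : Nat.card G = 5 * 1584 := hM.2
  have hRc := card_sylow_five_eq hM R
  have hN20 := normalizer_five hM R
  obtain ⟨c, e, hc, hN, he1, he, hmul⟩ :=
    CfsgLib.SmallGroups.sylow_prime_data hG hn (by norm_num) R
  rw [sylow_five hM] at hmul
  obtain ⟨b, hbR, hbo, hgen⟩ := exists_ne_one hRc
  have hb5 : b ^ 5 = 1 := by rw [← hbo]; exact pow_orderOf_eq_one b
  have hcomm : (R : Subgroup G) ≤ centralizer ((R : Subgroup G) : Set G) := fun x hx => by
    refine mem_centralizer_iff.2 fun y hy => ?_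
    rw [SetLike.mem_coe, hgen] at hy
    rw [hgen] at hx
    obtain ⟨i, rfl⟩ := hx
    obtain ⟨j, rfl⟩ := hy
    exact zpow_mul_comm b j i
  have hCb : ∀ x : G, x * b = b * x → x ∈ centralizer ((R : Subgroup G) : Set G) := fun x hx => by
    refine mem_centralizer_iff.2 fun y hy => ?_
    rw [SetLike.mem_coe, hgen] at hy
    obtain ⟨i, rfl⟩ := hy
    exact ((show Commute b x from hx.symm).zpow_left i).eq
  have hmemC : ∀ {x : G}, x ∈ centralizer ((R : Subgroup G) : Set G) → x * b = b * x :=
    fun hx => (mem_centralizer_iff.1 hx b hbR).symm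
  have he' : e ∈ Nat.divisors 4 := Nat.mem_divisors.2 ⟨he, by norm_num⟩
  rw [show Nat.divisors 4 = {1, 2, 4} by decide] at he'
  simp only [Finset.mem_insert, Finset.mem_singleton] at he'
  have hc12 : c = 1 ∨ c = 2 := by rcases he' with rfl | rfl | rfl <;> omega
  rcases hc12 with rfl | rfl
  · exact (Subgroup.eq_of_le_of_card_ge hcomm (by rw [hc, hRc])).symm
  exfalso
  -- an involution centralising `R`
  have hCc : Nat.card (centralizer ((R : Subgroup G) : Set G)) = 10 := hc
  obtain ⟨⟨u, hu⟩, huo⟩ := exists_prime_orderOf_dvd_card'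
    (G := centralizer ((R : Subgroup G) : Set G)) 2 (by rw [hCc]; norm_num)
  rw [orderOf_mk] at huo
  have hu2 : u * u = 1 := by rw [← sq, ← huo]; exact pow_orderOf_eq_one u
  have hu1 : u ≠ 1 := fun e => by rw [e, orderOf_one] at huo; omega
  have huR : u ∉ (R : Subgroup G) := fun h => by
    have := Subgroup.orderOf_dvd_natCard _ h
    rw [hRc, huo] at this
    omega
  have huniq : ∀ t, t ∈ centralizer ((R : Subgroup G) : Set G) → t * t = 1 → t ≠ 1 → t = u := by
    intro t ht ht2 ht1
    have hidx : ((R : Subgroup G).subgroupOf (centralizer ((R : Subgroup G) : Set G))).index = 2 := by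
      have h1 := Subgroup.card_mul_index
        ((R : Subgroup G).subgroupOf (centralizer ((R : Subgroup G) : Set G)))
      rw [Nat.card_congr (subgroupOfEquivOfLe hcomm).toEquiv, hRc, hCc] at h1
      omega
    have htR : t ∉ (R : Subgroup G) := fun h => by
      have h5 := Subgroup.orderOf_dvd_natCard _ h
      have h2 : orderOf t = 2 := orderOf_eq_prime (by rw [sq, ht2]) ht1
      rw [hRc, h2] at h5
      omega
    have := Subgroup.mul_mem_iff_of_index_two hidx
      (a := (⟨u, hu⟩ : centralizer ((R : Subgroup G) : Set G))) (b := ⟨t, ht⟩)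
    simp only [mem_subgroupOf, MulMemClass.mk_mul_mk] at this
    have hut : u * t ∈ (R : Subgroup G) := this.2 (iff_of_false huR htR)
    have hcomm' : t * (u * t) = u * t * t := (mem_centralizer_iff.1 ht _ hut).symm
    rw [mul_assoc, ht2, mul_one] at hcomm'
    have h2 : (u * t) ^ 2 = 1 := by rw [sq, mul_assoc, hcomm', hu2]
    have h5 : (u * t) ^ 5 = 1 := by
      rw [← hRc]
      exact orderOf_dvd_iff_pow_eq_one.1 (Subgroup.orderOf_dvd_natCard _ hut)
    have h1 : u * t = 1 := by
      rw [pow_succ, show 4 = 2 * 2 by norm_num, pow_mul, h2, one_pow, one_mul] at h5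
      exact h5
    calc t = u * (u * t) := by rw [← mul_assoc, hu2, one_mul]
      _ = u := by rw [h1, mul_one]
  have hucN : ∀ g ∈ normalizer ((R : Subgroup G) : Set G), g * u = u * g := by
    intro g hg
    have hmem : g * u * g⁻¹ ∈ centralizer ((R : Subgroup G) : Set G) := by
      refine hCb _ ?_
      have h1 : g⁻¹ * b * g ∈ (R : Subgroup G) :=
        (Subgroup.mem_normalizer_iff''.1 hg b).1 hbR
      have h2 := (mem_centralizer_iff.1 hu _ h1).symm
      calc g * u * g⁻¹ * b = g * (u * (g⁻¹ * b * g)) * g⁻¹ := by group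
        _ = g * ((g⁻¹ * b * g) * u) * g⁻¹ := by rw [h2]
        _ = b * (g * u * g⁻¹) := by group
    refine mul_inv_eq_iff_eq_mul.1 (huniq _ hmem ?_ fun e => hu1 ?_)
    · calc g * u * g⁻¹ * (g * u * g⁻¹) = g * (u * u) * g⁻¹ := by group
        _ = 1 := by rw [hu2]; group
    · calc u = g⁻¹ * (g * u * g⁻¹) * g := by group
        _ = 1 := by rw [e]; group
  set H : Subgroup G := centralizer ({u} : Set G) with hHdef
  have hNH : normalizer ((R : Subgroup G) : Set G) ≤ H := fun g hg =>
    mem_centralizer_singleton_iff.2 (hucN g hg)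
  have hRH : (R : Subgroup G) ≤ H := le_normalizer.trans hNH
  have hnormH : Nat.card (normalizer ((R.subtype hRH : Subgroup H) : Set H)) = 20 := by
    rw [← hN20]
    refine (Nat.card_congr (Equiv.subtypeEquivRight fun x => ?_)).trans
      (Nat.card_congr (subgroupOfEquivOfLe hNH).toEquiv)
    show x ∈ normalizer ((R.subtype hRH : Subgroup H) : Set H) ↔
      (x : G) ∈ normalizer ((R : Subgroup G) : Set G)
    constructor
    · intro hx
      refine Subgroup.mem_normalizer_iff.2 fun y => ⟨fun hy => ?_, fun hy => ?_⟩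
      · exact (Subgroup.mem_normalizer_iff.1 hx ⟨y, hRH hy⟩).1 hy
      · have hyH : y ∈ H := by
          have := H.mul_mem (H.mul_mem (H.inv_mem x.2) (hRH hy)) x.2
          simpa [mul_assoc] using this
        exact (Subgroup.mem_normalizer_iff.1 hx ⟨y, hyH⟩).2 hy
    · intro hx
      exact Subgroup.mem_normalizer_iff.2 fun y => Subgroup.mem_normalizer_iff.1 hx y.1
  obtain ⟨n, hn5, hHn⟩ : ∃ n, n % 5 = 1 ∧ Nat.card H = 20 * n := by
    refine ⟨Nat.card (Sylow 5 H), card_sylow_modEq_one 5 H, ?_⟩
    have := CfsgLib.SmallGroups.card_sylow_mul_card_normalizer (R.subtype hRH)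
    rw [hnormH] at this
    omega
  have hn36 : n ∣ 36 := by
    have h11 : ¬ 11 ∣ Nat.card H := by
      intro h
      obtain ⟨⟨a, ha⟩, hao⟩ := exists_prime_orderOf_dvd_card' (G := H) 11
        (hp := ⟨by norm_num⟩) h
      rw [orderOf_mk] at hao
      have hmem : u ∈ centralizer ({a} : Set G) :=
        mem_centralizer_singleton_iff.2 (mem_centralizer_singleton_iff.1 ha).symm
      rw [centralizer_orderOf_eleven hM hao] at hmem
      have := Subgroup.orderOf_dvd_natCard _ hmem
      rw [huo, Nat.card_zpowers, hao] at this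
      omega
    have hd : Nat.card H ∣ 720 * 11 := by
      have := H.card_subgroup_dvd_card
      rw [hM.2] at this
      exact this
    have h720 : Nat.card H ∣ 720 :=
      ((Nat.Prime.coprime_iff_not_dvd (by norm_num)).2 h11).symm.dvd_of_dvd_mul_right hd
    rw [hHn, show 720 = 20 * 36 by norm_num] at h720
    exact Nat.dvd_of_mul_dvd_mul_left (by norm_num) h720
  have hn' : n ∈ (Nat.divisors 36).filter (fun d => d % 5 = 1) :=
    Finset.mem_filter.2 ⟨Nat.mem_divisors.2 ⟨hn36, by norm_num⟩, hn5⟩
  rw [show (Nat.divisors 36).filter (fun d => d % 5 = 1) = {1, 6, 36} by decide +kernel] at hn'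
  simp only [Finset.mem_insert, Finset.mem_singleton] at hn'
  have huu : u ^ 2 = 1 := by rw [sq, hu2]
  rcases hn' with rfl | rfl | rfl
  · -- `|C(u)| = 20`: parity on the 396 cosets
    have ⟨hdvd, hle⟩ := card_sub_fixCount (X := G ⧸ normalizer ((R : Subgroup G) : Set G)) hG huu
    have hX : Nat.card (G ⧸ normalizer ((R : Subgroup G) : Set G)) = 396 := by
      exact R.card_eq_index_normalizer.symm.trans (sylow_five hM)
    have hfix := fix_mul_card (normalizer ((R : Subgroup G) : Set G)) u
    rw [hN20, ← hHdef, hHn] at hfix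
    set N := normalizer ((R : Subgroup G) : Set G)
    have hmod := card_modEq_conj R.2 {h : G | h ∈ N ∧ IsConj u h} (by
      intro k hk s hs
      exact ⟨mul_mem (mul_mem (le_normalizer hk) hs.1) (inv_mem (le_normalizer hk)),
        hs.2.trans (isConj_iff.2 ⟨k, rfl⟩)⟩)
    have hone : {s : G | s ∈ {h : G | h ∈ N ∧ IsConj u h} ∧
        ∀ k ∈ (R : Subgroup G), k * s = s * k} = {u} := by
      ext s
      constructor
      · rintro ⟨⟨-, hs⟩, hcs⟩
        obtain ⟨g, rfl⟩ := isConj_iff.1 hs
        refine huniq _ (mem_centralizer_iff.2 hcs) ?_ fun e => hu1 ?_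
        · calc g * u * g⁻¹ * (g * u * g⁻¹) = g * (u * u) * g⁻¹ := by group
            _ = 1 := by rw [hu2]; group
        · calc u = g⁻¹ * (g * u * g⁻¹) * g := by group
            _ = 1 := by rw [e]; group
      · intro hs
        rw [Set.mem_singleton_iff] at hs
        subst hs
        exact ⟨⟨centralizer_le_normalizer _ hu, IsConj.refl s⟩, mem_centralizer_iff.1 hu⟩
    rw [hone, Nat.card_coe_set_eq ({u} : Set G), Set.ncard_singleton] at hmod
    have hmod' : conjCount N u % 5 = 1 := hmod
    have hb15 : conjCount N u ≤ 15 := by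
      refine le_trans (Nat.card_le_card_of_injective
        (fun h : {h : G // h ∈ N ∧ IsConj u h} => (⟨⟨h.1, h.2.1⟩, fun hR => ?_⟩ :
          {x : N // ¬ (x : G) ∈ (R : Subgroup G)})) ?_) (le_of_eq ?_)
      · obtain ⟨g, hg⟩ := isConj_iff.1 h.2.2
        have h5 := Subgroup.orderOf_dvd_natCard _ (show h.1 ∈ (R : Subgroup G) from hR)
        rw [← hg, ← MulAut.conj_apply, MulEquiv.orderOf_eq, huo, hRc] at h5
        omega
      · intro h h' e
        exact Subtype.ext (congrArg (fun x : {x : N // ¬ (x : G) ∈ (R : Subgroup G)} => (x.1 : G)) e)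
      · have := Fintype.ofFinite N
        rw [Nat.card_eq_fintype_card, Fintype.card_subtype_compl, ← Nat.card_eq_fintype_card, hN20]
        have : Fintype.card {x : N // (x : G) ∈ (R : Subgroup G)} = 5 := by
          refine (Nat.card_eq_fintype_card.symm.trans (Nat.card_congr ?_)).trans hRc
          exact (subgroupOfEquivOfLe le_normalizer).toEquiv
        rw [this]
    rw [hX] at hdvd hle
    omega
  · -- `|C(u)| = 120`
    have hH120 : Nat.card H = 120 := by rw [hHn]
    have factA : ∀ y : G, orderOf y = 3 → b * y * b⁻¹ ∈ zpowers y → False := by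
      intro y hy hmem
      have h3 := Subgroup.orderOf_dvd_natCard _ (hCb y (commute_of_normalize_three hb5 hy hmem).symm)
      rw [hy, hCc] at h3
      omega
    have factB : ∀ E : Subgroup G, Nat.card E = 8 → (∀ k ∈ (R : Subgroup G), ∀ e ∈ E,
        k * e * k⁻¹ ∈ E) → False := by
      intro E hE hnorm
      have hmod := card_modEq_conj R.2 (E : Set G) hnorm
      have hsub : {s : G | s ∈ (E : Set G) ∧ ∀ k ∈ (R : Subgroup G), k * s = s * k} ⊆ {1, u} := by
        rintro s ⟨hsE, hs⟩
        have hsC : s ∈ centralizer ((R : Subgroup G) : Set G) := mem_centralizer_iff.2 hs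
        by_cases h1 : s = 1
        · exact Or.inl h1
        have hd8 := Subgroup.orderOf_dvd_natCard _ hsE
        have hd10 := Subgroup.orderOf_dvd_natCard _ hsC
        rw [hE] at hd8
        rw [hCc] at hd10
        have hd2 : orderOf s ∣ 2 := Nat.dvd_gcd hd8 hd10
        refine Or.inr (huniq s hsC ?_ h1)
        rw [← sq]
        exact orderOf_dvd_iff_pow_eq_one.1 hd2
      have hle := Set.ncard_le_ncard hsub
      rw [Set.ncard_pair (Ne.symm hu1), ← Nat.card_coe_set_eq] at hle
      have hEc' : Nat.card (E : Set G) = 8 := hE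
      have hmod' : Nat.card (E : Set G) % 5 =
          Nat.card {s : G | s ∈ (E : Set G) ∧ ∀ k ∈ (R : Subgroup G), k * s = s * k} % 5 := hmod
      omega
    have hH2 : Nat.card H = 2 ^ 3 * 15 := by rw [hH120]; norm_num
    have hn2 := CfsgLib.SmallGroups.card_sylow_mem (G := H) hH2 (by norm_num)
    rw [show (Nat.divisors 15).filter (fun d => d % 2 = 1) = {1, 3, 5, 15} by decide +kernel] at hn2
    simp only [Finset.mem_insert, Finset.mem_singleton] at hn2
    obtain ⟨E⟩ := (inferInstance : Nonempty (Sylow 2 H))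
    have hEc : Nat.card (E : Subgroup H) = 8 := by
      simpa using CfsgLib.SmallGroups.card_sylow_eq hH2 (by norm_num) E
    have hnE : Nat.card (Sylow 2 H) = 5 := by
      have hsmall : ¬ (Nat.card (Sylow 2 H) = 1 ∨ Nat.card (Sylow 2 H) = 3) := by
        intro hs
        let bH : H := ⟨b, hRH hbR⟩
        have hbp : IsPGroup 5 (zpowers bH) := IsPGroup.of_card (n := 1)
          (by rw [Nat.card_zpowers, orderOf_mk, hbo, pow_one])
        have hmod := hbp.card_modEq_card_fixedPoints (Sylow 2 H)
        obtain ⟨⟨E', hE'⟩⟩ : Nonempty (fixedPoints (zpowers bH) (Sylow 2 H)) := by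
          by_contra hemp
          rw [not_nonempty_iff] at hemp
          rw [Nat.card_of_isEmpty (α := fixedPoints (zpowers bH) (Sylow 2 H))] at hmod
          have hmod' : Nat.card (Sylow 2 H) % 5 = 0 % 5 := hmod
          omega
        have hfix : bH ∈ normalizer ((E' : Subgroup H) : Set H) :=
          Sylow.smul_eq_iff_mem_normalizer.1 (mem_fixedPoints_zpowers.1 hE')
        refine factB ((E' : Subgroup H).map H.subtype) ?_ ?_
        · rw [Subgroup.card_map_of_injective H.subtype_injective]
          simpa using CfsgLib.SmallGroups.card_sylow_eq hH2 (by norm_num) E'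
        · rintro k hk _ ⟨x, hx, rfl⟩
          rw [hgen] at hk
          obtain ⟨i, rfl⟩ := hk
          refine ⟨bH ^ i * x * (bH ^ i)⁻¹,
            (Subgroup.mem_normalizer_iff.1 (zpow_mem hfix i) x).1 hx, ?_⟩
          simp [bH]
      by_contra hne5
      have h15 : Nat.card (Sylow 2 H) = 15 := by omega
      -- transfer in the quotient by the central involution
      let uH : H := ⟨u, mem_centralizer_singleton_iff.2 rfl⟩
      let Z : Subgroup H := zpowers uH
      have hZn : Z.Normal := by
        refine ⟨fun z hz g => ?_⟩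
        have hc : g * z = z * g := by
          obtain ⟨i, rfl⟩ := hz
          have hgu : Commute g uH := Subtype.ext (mem_centralizer_singleton_iff.1 g.2)
          exact (hgu.zpow_right i).eq
        rwa [hc, mul_inv_cancel_right]
      have huHo : orderOf uH = 2 := by rw [orderOf_mk, huo]
      have hZc : Nat.card Z = 2 := by rw [Nat.card_zpowers, huHo]
      have hZE : Z ≤ E := by
        have hZp : IsPGroup 2 Z := IsPGroup.of_card (n := 1) (by rw [hZc, pow_one])
        have := E.is_maximal' (hZp.to_sup_of_normal_left E.2) le_sup_right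
        exact le_sup_left.trans this.le
      let π : H →* H ⧸ Z := QuotientGroup.mk' Z
      have hπ : Function.Surjective π := QuotientGroup.mk'_surjective Z
      let Eb : Sylow 2 (H ⧸ Z) := E.mapSurjective hπ
      have hKc : Nat.card (H ⧸ Z) = 60 := by
        have := Subgroup.card_mul_index Z
        rw [hZc, hH120] at this
        change Z.index = 60
        omega
      have hEbc : Nat.card (Eb : Subgroup (H ⧸ Z)) = 4 := by
        simpa using CfsgLib.SmallGroups.card_sylow_eq (p := 2) (a := 2) (m := 15)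
          (by rw [hKc]; norm_num) (by norm_num) Eb
      have hNE : normalizer ((E : Subgroup H) : Set H) = (E : Subgroup H) := by
        refine (Subgroup.eq_of_le_of_card_ge le_normalizer ?_).symm
        have := CfsgLib.SmallGroups.card_sylow_mul_card_normalizer E
        rw [h15, hH120] at this
        omega
      have htr : normalizer ((Eb : Subgroup (H ⧸ Z)) : Set (H ⧸ Z)) ≤
          centralizer ((Eb : Subgroup (H ⧸ Z)) : Set (H ⧸ Z)) := by
        intro x hx
        obtain ⟨g, rfl⟩ := hπ x
        have hgE : g ∈ (E : Subgroup H) := by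
          rw [← hNE]
          have hcm : ((Eb : Subgroup (H ⧸ Z))).comap π = (E : Subgroup H) :=
            Subgroup.comap_map_eq_self (by rw [QuotientGroup.ker_mk']; exact hZE)
          have hmem : g ∈ (normalizer ((Eb : Subgroup (H ⧸ Z)) : Set (H ⧸ Z))).comap π := hx
          rw [comap_normalizer_eq_of_surjective _ hπ, hcm] at hmem
          exact hmem
        refine mem_centralizer_iff.2 fun y hy => ?_
        exact congrArg Subtype.val (IsPGroup.commutative_of_card_eq_prime_sq (p := 2)
          (by rw [hEbc]; norm_num) (⟨y, hy⟩ : (Eb : Subgroup (H ⧸ Z))) ⟨π g, ⟨g, hgE, rfl⟩⟩)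
      let φ := MonoidHom.transferSylow Eb htr
      have hφc : Nat.card φ.ker = 15 := by
        have := (MonoidHom.ker_transferSylow_isComplement' Eb htr).card_mul_card
        change Nat.card φ.ker * Nat.card (Eb : Subgroup (H ⧸ Z)) = Nat.card (H ⧸ Z) at this
        rw [hKc, hEbc] at this
        omega
      have hker : ∀ x : H ⧸ Z, ∀ d : ℕ, x ^ d = 1 → Nat.Coprime d 4 → x ∈ φ.ker := by
        intro x d hx hd
        rw [MonoidHom.mem_ker, ← orderOf_eq_one_iff]
        refine Nat.eq_one_of_dvd_coprimes hd ?_ ?_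
        · exact orderOf_dvd_of_pow_eq_one (by rw [← map_pow, hx, map_one])
        · exact (orderOf_dvd_natCard (φ x)).trans (dvd_of_eq hEbc)
      obtain ⟨y, hyo⟩ := exists_prime_orderOf_dvd_card' (G := H) 3 (by rw [hH120]; norm_num)
      have hy3 : π y ^ 3 = 1 := by
        rw [← map_pow]
        have : y ^ 3 = 1 := by rw [← hyo]; exact pow_orderOf_eq_one y
        rw [this, map_one]
      let bH : H := ⟨b, hRH hbR⟩
      have hbH5 : bH ^ 5 = 1 := Subtype.ext hb5
      have hb5' : π bH ^ 5 = 1 := by rw [← map_pow, hbH5, map_one]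
      have hb1' : π bH ≠ 1 := by
        intro e
        have hmem : bH ∈ Z := by rw [← QuotientGroup.ker_mk' Z]; exact e
        have := Subgroup.orderOf_dvd_natCard _ hmem
        rw [hZc, orderOf_mk, hbo] at this
        omega
      let yk : φ.ker := ⟨π y, hker _ 3 hy3 (by norm_num)⟩
      let bk : φ.ker := ⟨π bH, hker _ 5 hb5' (by norm_num)⟩
      have hbko : orderOf bk = 5 := by rw [orderOf_mk]; exact orderOf_eq_prime hb5' hb1'
      have hnormal : (zpowers bk).Normal := by
        refine Subgroup.normal_of_index_eq_minFac_card ?_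
        have := Subgroup.card_mul_index (zpowers bk)
        rw [Nat.card_zpowers, hbko, hφc] at this
        rw [hφc]
        norm_num
        omega
      obtain ⟨i, hi⟩ := hnormal.conj_mem bk (mem_zpowers bk) yk
      have hi' : π (bH ^ i) = π (y * bH * y⁻¹) := by
        have := congrArg Subtype.val hi
        simpa [bk, yk, map_zpow] using this
      have hz : (bH ^ i)⁻¹ * (y * bH * y⁻¹) ∈ Z := QuotientGroup.eq.1 hi'
      have hz2 : ((bH ^ i)⁻¹ * (y * bH * y⁻¹)) ^ 2 = 1 := by
        have := Subgroup.orderOf_dvd_natCard _ hz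
        rw [hZc] at this
        exact orderOf_dvd_iff_pow_eq_one.1 this
      have hcz : Commute (bH ^ i) ((bH ^ i)⁻¹ * (y * bH * y⁻¹)) := by
        obtain ⟨j, hj⟩ := hz
        have hbu : Commute bH uH := Subtype.ext (mem_centralizer_singleton_iff.1 (hRH hbR))
        simp only at hj
        rw [← hj]
        exact (hbu.zpow_left i).zpow_right j
      have hyb : y * bH * y⁻¹ = (bH ^ i) ^ 6 := by
        have hb6 : bH ^ 6 = bH := by rw [pow_succ, hbH5, one_mul]
        calc y * bH * y⁻¹ = y * bH ^ 6 * y⁻¹ := by rw [hb6]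
          _ = (y * bH * y⁻¹) ^ 6 := by rw [conj_pow]
          _ = ((bH ^ i) * ((bH ^ i)⁻¹ * (y * bH * y⁻¹))) ^ 6 := by rw [mul_inv_cancel_left]
          _ = (bH ^ i) ^ 6 := by
            rw [hcz.mul_pow, show (6 : ℕ) = 2 * 3 by norm_num,
              pow_mul ((bH ^ i)⁻¹ * (y * bH * y⁻¹)), hz2, one_pow, mul_one]
      have hyN : (y : G) ∈ normalizer ((R : Subgroup G) : Set G) := by
        refine Sylow.smul_eq_iff_mem_normalizer.1 ?_
        refine Sylow.ext (Subgroup.eq_of_le_of_card_ge ?_ ?_)
        · intro x hx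
          rw [Sylow.smul_def, Sylow.pointwise_smul_def, Subgroup.pointwise_smul_def] at hx
          obtain ⟨r, hr, rfl⟩ := hx
          rw [SetLike.mem_coe, hgen] at hr
          obtain ⟨j, rfl⟩ := hr
          have hval : (y : G) * b * (y : G)⁻¹ ∈ (R : Subgroup G) := by
            have := congrArg Subtype.val hyb
            simp [bH] at this
            rw [this]
            exact pow_mem (zpow_mem hbR i) 6
          show (y : G) * b ^ j * (y : G)⁻¹ ∈ (R : Subgroup G)
          rw [← conj_zpow]
          exact zpow_mem hval j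
        · rw [card_sylow_five_eq hM R, card_sylow_five_eq hM (_ : Sylow 5 G)]
      have := Subgroup.orderOf_dvd_natCard _ hyN
      rw [hN20, orderOf_coe, hyo] at this
      omega
    have hNEc : Nat.card (normalizer ((E : Subgroup H) : Set H)) = 24 := by
      have := CfsgLib.SmallGroups.card_sylow_mul_card_normalizer E
      rw [hnE, hH120] at this
      omega
    obtain ⟨⟨y, hyN⟩, hyo⟩ := exists_prime_orderOf_dvd_card'
      (G := normalizer ((E : Subgroup H) : Set H)) 3 (by rw [hNEc]; norm_num)
    rw [orderOf_mk] at hyo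
    set EG : Subgroup G := (E : Subgroup H).map H.subtype with hEGdef
    have hEGc : Nat.card EG = 8 := by
      rw [hEGdef, Subgroup.card_map_of_injective H.subtype_injective, hEc]
    have hEGH : EG ≤ H := map_subtype_le _
    set NE : Subgroup G := normalizer (EG : Set G) with hNEdef
    have hyNE : (y : G) ∈ NE := by
      refine Subgroup.mem_normalizer_iff.2 fun x => ⟨?_, fun hx => ?_⟩
      · rintro ⟨z, hz, rfl⟩
        exact ⟨y * z * y⁻¹, (Subgroup.mem_normalizer_iff.1 hyN z).1 hz, by simp⟩
      · obtain ⟨z, hz, hzx⟩ := hx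
        refine ⟨y⁻¹ * z * y, ?_, ?_⟩
        · exact (Subgroup.mem_normalizer_iff''.1 hyN z).1 hz
        · simp only [Subgroup.coe_subtype] at hzx
          show ((y⁻¹ * z * y : H) : G) = x
          rw [coe_mul, coe_mul, coe_inv, hzx]
          group
    have hNH' : Nat.card (NE ⊓ H : Subgroup G) = 24 := by
      rw [← hNEc]
      refine Nat.card_congr ⟨fun x => ⟨⟨x.1, x.2.2⟩, ?_⟩, fun x => ⟨x.1.1, ?_, x.1.2⟩,
        fun x => rfl, fun x => rfl⟩
      · refine Subgroup.mem_normalizer_iff.2 fun z => ⟨fun hz => ?_, fun hz => ?_⟩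
        · obtain ⟨w, hw, hwe⟩ := (Subgroup.mem_normalizer_iff.1 x.2.1 z.1).1 ⟨z, hz, rfl⟩
          rw [show (⟨x.1, x.2.2⟩ * z * (⟨x.1, x.2.2⟩ : H)⁻¹ : H) = w from Subtype.ext hwe.symm]
          exact hw
        · obtain ⟨w, hw, hwe⟩ := (Subgroup.mem_normalizer_iff.1 x.2.1 z.1).2 ⟨_, hz, rfl⟩
          rwa [show z = w from Subtype.ext hwe.symm]
      · refine Subgroup.mem_normalizer_iff.2 fun z => ⟨?_, ?_⟩
        · rintro ⟨w, hw, rfl⟩
          exact ⟨x.1 * w * x.1⁻¹, (Subgroup.mem_normalizer_iff.1 x.2 w).1 hw, by simp⟩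
        · rintro ⟨w, hw, hwe⟩
          refine ⟨x.1⁻¹ * w * x.1, (Subgroup.mem_normalizer_iff''.1 x.2 w).1 hw, ?_⟩
          simp only [Subgroup.coe_subtype] at hwe
          show ((x.1⁻¹ * w * x.1 : H) : G) = z
          rw [coe_mul, coe_mul, coe_inv, hwe]
          group
    have h16 : 16 ∣ Nat.card NE := by
      obtain ⟨S, hS⟩ := (IsPGroup.of_card (p := 2) (n := 3) (by rw [hEGc]; norm_num) :
        IsPGroup 2 EG).exists_le_sylow
      have hSc : Nat.card (S : Subgroup G) = 16 := by
        simpa using CfsgLib.SmallGroups.card_sylow_eq (p := 2) (a := 4) (m := 495)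
          (by rw [hM.2]; norm_num) (by norm_num) S
      have hidx : (EG.subgroupOf (S : Subgroup G)).index = 2 := by
        have h1 := Subgroup.card_mul_index (EG.subgroupOf (S : Subgroup G))
        rw [Nat.card_congr (subgroupOfEquivOfLe hS).toEquiv, hEGc, hSc] at h1
        omega
      have hnorm : (EG.subgroupOf (S : Subgroup G)).Normal :=
        Subgroup.normal_of_index_eq_two hidx
      have hSN : (S : Subgroup G) ≤ NE := by
        intro s hs
        refine Subgroup.mem_normalizer_iff.2 fun x => ⟨fun hx => ?_, fun hx => ?_⟩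
        · exact hnorm.conj_mem ⟨x, hS hx⟩ hx ⟨s, hs⟩
        · have := hnorm.conj_mem ⟨_, hS hx⟩ hx (⟨s, hs⟩ : (S : Subgroup G))⁻¹
          simpa [mem_subgroupOf, mul_assoc] using this
      rw [← hSc]
      exact card_dvd_of_le hSN
    have hNE144 : Nat.card NE ∣ 144 := by
      refine pow_fiveEleven_card hM NE ?_ ?_
      · intro h
        obtain ⟨⟨a, ha⟩, hao⟩ := exists_prime_orderOf_dvd_card' 5 h
        rw [orderOf_mk] at hao
        obtain ⟨R', hle⟩ := (IsPGroup.of_card (p := 5) (n := 1)
          (by rw [Nat.card_zpowers, hao, pow_one] : Nat.card (zpowers a) = 5 ^ 1)).exists_le_sylow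
        obtain ⟨g, hg⟩ := MulAction.exists_smul_eq G R' R
        refine factB (EG.map (MulAut.conj g).toMonoidHom) ?_ ?_
        · rw [Subgroup.card_map_of_injective (MulAut.conj g).injective, hEGc]
        · intro k hk x hx
          obtain ⟨e', he', rfl⟩ := hx
          rw [← hg, Sylow.smul_def, Sylow.pointwise_smul_def, Subgroup.pointwise_smul_def] at hk
          obtain ⟨r, hr, hrk⟩ := hk
          have hrk' : g * r * g⁻¹ = k := hrk
          subst hrk'
          have hgen' := zpowers_eq_of_mem (card_sylow_five_eq hM R') (hle (mem_zpowers a))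
            fun e => by rw [e, orderOf_one] at hao; omega
          rw [SetLike.mem_coe, hgen'] at hr
          obtain ⟨j, rfl⟩ := hr
          refine ⟨a ^ j * e' * (a ^ j)⁻¹, (Subgroup.mem_normalizer_iff.1 (zpow_mem ha j) e').1 he', ?_⟩
          simp [MulAut.conj_apply, mul_assoc]
      · intro h
        have : Fact (Nat.Prime 11) := ⟨by norm_num⟩
        obtain ⟨⟨a, ha⟩, hao⟩ := exists_prime_orderOf_dvd_card' 11 h
        rw [orderOf_mk] at hao
        have hmod := card_modEq_conj (IsPGroup.of_card (p := 11) (n := 1)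
          (by rw [Nat.card_zpowers, hao, pow_one] : Nat.card (zpowers a) = 11 ^ 1)) (EG : Set G)
          fun k hk s hs =>
            (Subgroup.mem_normalizer_iff.1 ((zpowers_le.2 ha) hk) s).1 hs
        have hsub : {s : G | s ∈ (EG : Set G) ∧ ∀ k ∈ zpowers a, k * s = s * k} ⊆ {1} := by
          rintro s ⟨hsE, hs⟩
          have hmem : s ∈ centralizer ({a} : Set G) :=
            mem_centralizer_singleton_iff.2 (hs a (mem_zpowers a)).symm
          rw [centralizer_orderOf_eleven hM hao] at hmem
          have h1 := Subgroup.orderOf_dvd_natCard _ hmem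
          have h2 := Subgroup.orderOf_dvd_natCard _ hsE
          rw [Nat.card_zpowers, hao] at h1
          rw [hEGc] at h2
          exact orderOf_eq_one_iff.1 (Nat.eq_one_of_dvd_coprimes (by norm_num) h1 h2)
        have hle := Set.ncard_le_ncard hsub
        rw [Set.ncard_singleton, ← Nat.card_coe_set_eq] at hle
        have hEc' : Nat.card (EG : Set G) = 8 := hEGc
        have hmod' : Nat.card (EG : Set G) % 11 =
            Nat.card {s : G | s ∈ (EG : Set G) ∧ ∀ k ∈ zpowers a, k * s = s * k} % 11 := hmod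
        omega
    -- the orbit of `u` under the normaliser
    have huE : u ∈ EG := by
      let uH : H := ⟨u, mem_centralizer_singleton_iff.2 rfl⟩
      have hcomm' : ∀ g : H, Commute g uH := fun g =>
        Subtype.ext (mem_centralizer_singleton_iff.1 g.2)
      have hZp : IsPGroup 2 (zpowers uH) :=
        IsPGroup.of_card (n := 1) (by rw [Nat.card_zpowers, orderOf_mk, huo, pow_one])
      have hZn : (zpowers uH).Normal := ⟨fun z hz g => by
        obtain ⟨i, rfl⟩ := hz
        show g * uH ^ i * g⁻¹ ∈ zpowers uH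
        rw [((hcomm' g).zpow_right i).eq, mul_inv_cancel_right]
        exact ⟨i, rfl⟩⟩
      have := E.is_maximal' (hZp.to_sup_of_normal_left E.2) le_sup_right
      exact ⟨uH, this.le (le_sup_left (b := (E : Subgroup H)) (mem_zpowers uH)), rfl⟩
    let O : Set G := {x | ∃ g ∈ NE, g * u * g⁻¹ = x}
    have hOc : Nat.card O * 24 = Nat.card NE := by
      let φ : NE → O := fun g => ⟨g.1 * u * g.1⁻¹, g.1, g.2, rfl⟩
      have : Fintype O := Fintype.ofFinite _
      rw [← Nat.card_congr (Equiv.sigmaFiberEquiv φ), Nat.card_sigma]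
      rw [Finset.sum_congr rfl (g := fun _ => 24), Finset.sum_const, smul_eq_mul, Finset.card_univ,
        Nat.card_eq_fintype_card]
      rintro ⟨x, g0, hg0, hx⟩ -
      rw [← hNH']
      refine Nat.card_congr ⟨fun g => ⟨g0⁻¹ * g.1.1, NE.mul_mem (NE.inv_mem hg0) g.1.2, ?_⟩,
        fun h => ⟨⟨g0 * h.1, NE.mul_mem hg0 h.2.1⟩, Subtype.ext ?_⟩,
        fun g => Subtype.ext (Subtype.ext (mul_inv_cancel_left _ _)),
        fun h => Subtype.ext (inv_mul_cancel_left _ _)⟩
      · refine mem_centralizer_singleton_iff.2 ?_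
        have he : g.1.1 * u * g.1.1⁻¹ = g0 * u * g0⁻¹ := (congrArg Subtype.val g.2).trans hx.symm
        calc g0⁻¹ * g.1.1 * u = g0⁻¹ * (g.1.1 * u * g.1.1⁻¹) * g.1.1 := by group
          _ = u * (g0⁻¹ * g.1.1) := by rw [he]; group
      · show g0 * h.1 * u * (g0 * h.1)⁻¹ = x
        have hh : h.1 * u = u * h.1 := mem_centralizer_singleton_iff.1 h.2.2
        rw [← hx, mul_assoc g0, hh]
        group
    have hOne : ∀ x ∈ O, x ∈ EG ∧ x ≠ 1 := by
      rintro x ⟨g, hg, rfl⟩
      refine ⟨(Subgroup.mem_normalizer_iff.1 hg u).1 huE, fun e => hu1 ?_⟩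
      calc u = g⁻¹ * (g * u * g⁻¹) * g := by group
        _ = 1 := by rw [e]; group
    have hy3 : (y : G) ^ 3 = 1 := by
      have : y ^ 3 = 1 := by rw [← hyo]; exact pow_orderOf_eq_one y
      exact congrArg Subtype.val this
    have hO26 : Nat.card O = 2 ∨ Nat.card O = 6 := by
      have h48 : 48 ∣ Nat.card NE := by
        refine (Nat.Coprime.mul_dvd_of_dvd_of_dvd (by norm_num : Nat.Coprime 16 3) h16 ?_)
        have := Subgroup.orderOf_dvd_natCard _ hyNE
        rwa [orderOf_coe, hyo] at this
      have := Nat.le_of_dvd (by norm_num) hNE144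
      obtain ⟨q, hq⟩ := h48
      have hq3 : q ∣ 3 := by
        rw [hq, show 144 = 48 * 3 by norm_num] at hNE144
        exact Nat.dvd_of_mul_dvd_mul_left (by norm_num) hNE144
      rcases (Nat.dvd_prime (by norm_num)).1 hq3 with rfl | rfl <;> omega
    set F : Subgroup G := EG ⊓ centralizer ({(y : G)} : Set G) with hFdef
    have hEF : EG ≤ F := by
      have hyp : IsPGroup 3 (zpowers (y : G)) :=
        IsPGroup.of_card (n := 1) (by rw [Nat.card_zpowers, orderOf_coe, hyo, pow_one])
      have hmod := card_modEq_conj hyp O fun k hk x hx => by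
        obtain ⟨g, hg, rfl⟩ := hx
        exact ⟨k * g, mul_mem ((zpowers_le.2 hyNE) hk) hg, by group⟩
      set Fx := {s : G | s ∈ O ∧ ∀ k ∈ zpowers (y : G), k * s = s * k}
      have huFx : u ∈ Fx := ⟨⟨1, one_mem _, by group⟩, fun k hk => by
        have hkH : k ∈ H := (zpowers_le (H := H)).2 y.2 hk
        exact mem_centralizer_singleton_iff.1 hkH⟩
      have hFx1 : 1 ≤ Nat.card Fx := by
        rw [Nat.one_le_iff_ne_zero, Nat.card_ne_zero]
        exact ⟨⟨⟨u, huFx⟩⟩, inferInstance⟩
      have hFx2 : 2 ≤ Nat.card Fx := by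
        have hmod' : Nat.card O % 3 = Nat.card Fx % 3 := hmod
        omega
      have hsub : insert (1 : G) Fx ⊆ (F : Set G) := by
        rintro x (rfl | ⟨hxO, hx⟩)
        · exact one_mem F
        · exact ⟨(hOne x hxO).1, mem_centralizer_singleton_iff.2 (hx _ (mem_zpowers _)).symm⟩
      have h1Fx : (1 : G) ∉ Fx := fun h => (hOne 1 h.1).2 rfl
      have hle := Set.ncard_le_ncard hsub
      rw [Set.ncard_insert_of_notMem h1Fx, ← Nat.card_coe_set_eq, ← Nat.card_coe_set_eq] at hle
      refine card_eq_self_of_fixed hEGc (F := F) (le_trans (by omega) hle) inf_le_left hy3 ?_ ?_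
      · exact fun x hx => (Subgroup.mem_normalizer_iff.1 hyNE x).1 hx
      · intro x hx
        exact ⟨fun h => (mem_centralizer_singleton_iff.1 h.2).symm,
          fun h => ⟨hx, mem_centralizer_singleton_iff.2 h.symm⟩⟩
    -- so `y` is centralised by a Sylow 2-subgroup of `C(u)`
    have hH3 : Nat.card H = 3 ^ 1 * 40 := by rw [hH120]; norm_num
    obtain ⟨Y, hY⟩ := (IsPGroup.of_card (p := 3) (n := 1)
      (by rw [Nat.card_zpowers, hyo, pow_one] : Nat.card (zpowers y) = 3 ^ 1)).exists_le_sylow
    have hYc : Nat.card (Y : Subgroup H) = 3 := by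
      simpa using CfsgLib.SmallGroups.card_sylow_eq hH3 (by norm_num) Y
    have hYgen := zpowers_eq_of_mem hYc (hY (mem_zpowers y))
      fun e => by rw [e, orderOf_one] at hyo; omega
    have h8 : 8 ∣ Nat.card (normalizer ((Y : Subgroup H) : Set H)) := by
      rw [← hEc]
      refine card_dvd_of_le fun x hx => centralizer_le_normalizer _ ?_
      refine mem_centralizer_iff.2 fun z hz => ?_
      rw [SetLike.mem_coe, hYgen] at hz
      obtain ⟨i, rfl⟩ := hz
      have hcom : Commute x y := Subtype.ext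
        (mem_centralizer_singleton_iff.1 (hEF (show (x : G) ∈ EG from ⟨x, hx, rfl⟩)).2)
      exact (hcom.zpow_right i).eq.symm
    have h3 : 3 ∣ Nat.card (normalizer ((Y : Subgroup H) : Set H)) := by
      exact (dvd_of_eq hYc.symm).trans (card_dvd_of_le le_normalizer)
    obtain ⟨q, hq⟩ : 24 ∣ Nat.card (normalizer ((Y : Subgroup H) : Set H)) :=
      Nat.Coprime.mul_dvd_of_dvd_of_dvd (by norm_num : Nat.Coprime 8 3) h8 h3
    have hmulY := CfsgLib.SmallGroups.card_sylow_mul_card_normalizer Y
    rw [hq, hH120] at hmulY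
    have hY5 : Nat.card (Sylow 3 H) ∣ 5 := ⟨q, by linarith⟩
    have hY1 : Nat.card (Sylow 3 H) % 3 = 1 := card_sylow_modEq_one 3 H
    have hYuniq : Nat.card (Sylow 3 H) = 1 := by
      rcases (Nat.dvd_prime (by norm_num)).1 hY5 with h | h
      · exact h
      · omega
    have hsub : Subsingleton (Sylow 3 H) := (Nat.card_eq_one_iff_unique.1 hYuniq).1
    let bH : H := ⟨b, hRH hbR⟩
    have hbY : bH • Y = Y := Subsingleton.elim _ _
    have hmem := (Subgroup.mem_normalizer_iff.1 (Sylow.smul_eq_iff_mem_normalizer.1 hbY) y).1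
      (hY (mem_zpowers y))
    rw [hYgen] at hmem
    obtain ⟨i, hi⟩ := hmem
    refine factA (y : G) (by rw [orderOf_coe, hyo]) ⟨i, ?_⟩
    have := congrArg Subtype.val hi
    simpa [bH] using this
  · -- `|C(u)| = 720`: eleven points
    have hH720 : Nat.card H = 720 := by rw [hHn]
    have hX : Nat.card (G ⧸ H) = 11 := by
      have := Subgroup.card_mul_index H
      rw [hH720, hM.2] at this
      change H.index = 11
      omega
    have ⟨hdvd, hle⟩ := card_sub_fixCount (X := G ⧸ H) hG huu
    let S : SubMulAction (R : Subgroup G) (G ⧸ H) :=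
      { carrier := {q | u • q = q}
        smul_mem' := fun k q hq => by
          show u • (k : G) • q = (k : G) • q
          rw [← mul_smul, ← mem_centralizer_iff.1 hu (k : G) k.2, mul_smul, hq] }
    have hmod := R.2.card_modEq_card_fixedPoints S
    have hb1 : ∀ q : G ⧸ H, b • q = q → q = ((1 : G) : G ⧸ H) := by
      intro q hq
      obtain ⟨g, rfl⟩ := QuotientGroup.mk_surjective q
      have hg := (mk_fixed_iff H b g).1 hq
      have hmem : g * u * g⁻¹ ∈ centralizer ((R : Subgroup G) : Set G) := by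
        refine hCb _ ?_
        have h := mem_centralizer_singleton_iff.1 hg
        calc g * u * g⁻¹ * b = g * (u * (g⁻¹ * b * g)) * g⁻¹ := by group
          _ = g * ((g⁻¹ * b * g) * u) * g⁻¹ := by rw [h]
          _ = b * (g * u * g⁻¹) := by group
      have hgu := huniq _ hmem (by
        calc g * u * g⁻¹ * (g * u * g⁻¹) = g * (u * u) * g⁻¹ := by group
          _ = 1 := by rw [hu2]; group) (fun e => hu1 (by
        calc u = g⁻¹ * (g * u * g⁻¹) * g := by group
          _ = 1 := by rw [e]; group))
      rw [QuotientGroup.eq]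
      refine mul_mem (inv_mem ?_) (one_mem _)
      exact mem_centralizer_singleton_iff.2 (mul_inv_eq_iff_eq_mul.1 hgu)
    have hbase : ∀ k ∈ H, k • ((1 : G) : G ⧸ H) = ((1 : G) : G ⧸ H) := fun k hk =>
      (mk_fixed_iff H k 1).2 (by simpa using hk)
    have huH : u ∈ H := mem_centralizer_singleton_iff.2 rfl
    have hone : Nat.card (fixedPoints (R : Subgroup G) S) = 1 := by
      rw [Nat.card_eq_one_iff_unique]
      refine ⟨⟨fun x y => Subtype.ext (Subtype.ext ?_)⟩,
        ⟨⟨⟨_, hbase u huH⟩, fun k => Subtype.ext (hbase k (hRH k.2))⟩⟩⟩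
      rw [hb1 _ (congrArg Subtype.val (x.2 ⟨b, hbR⟩)), hb1 _ (congrArg Subtype.val (y.2 ⟨b, hbR⟩))]
    rw [hone] at hmod
    have hcS : Nat.card S = fixCount (G ⧸ H) u := rfl
    rw [hcS] at hmod
    have hmod' : fixCount (G ⧸ H) u % 5 = 1 := hmod
    rw [hX] at hdvd hle
    have hall : fixCount (G ⧸ H) u = 11 := by omega
    have hfix : ∀ q : G ⧸ H, u • q = q := by
      intro q
      by_contra hq
      have hlt : fixCount (G ⧸ H) u < Nat.card (G ⧸ H) := by
        have := Fintype.ofFinite (G ⧸ H)
        rw [fixCount, Nat.card_eq_fintype_card, Nat.card_eq_fintype_card]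
        exact Fintype.card_subtype_lt (x := q) hq
      omega
    refine hu1 (CfsgLib.SmallGroups.toPermHom_cosets_injective (H := H) ?_ ?_)
    · intro hT
      rw [hT, Subgroup.card_top, hM.2] at hH720
      omega
    · rw [map_one]
      exact Equiv.ext hfix

theorem centralizer_orderOf_five (hM : Cfsg.IsM11 G) {b : G} (hb : orderOf b = 5) :
    centralizer ({b} : Set G) = zpowers b := by
  obtain ⟨R, hle⟩ := (IsPGroup.of_card (p := 5) (n := 1)
    (by rw [Nat.card_zpowers, hb, pow_one] : Nat.card (zpowers b) = 5 ^ 1)).exists_le_sylow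
  have hgen : (R : Subgroup G) = zpowers b :=
    zpowers_eq_of_mem (card_sylow_five_eq hM R) (hle (mem_zpowers b))
      fun e => by rw [e, orderOf_one] at hb; omega
  rw [← hgen, ← centralizer_sylow_five hM R, hgen]
  refine le_antisymm (fun x hx => mem_centralizer_iff.2 ?_) fun x hx => ?_
  · rintro _ ⟨i, rfl⟩
    exact Commute.zpow_left (mem_centralizer_singleton_iff.1 hx).symm i
  · exact mem_centralizer_singleton_iff.2 (mem_centralizer_iff.1 hx b (mem_zpowers b)).symm

end CfsgLib.Mathieu.Order7920
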