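import Cfsg.Agent.Lib.Mathieu.Order7920.Lines

/-!
Simple groups of order 7920: the graph on the 55 Sylow 3-subgroups joining two of them when some
involution inverts both. The neighbourhood of a vertex is two cliques of size nine.
-/

set_option autoImplicit false

noncomputable section

namespace CfsgLib.Mathieu.Order7920

open Subgroup MulAction
open scoped Classical

universe u

variable {G : Type u} [Group G] [Finite G]

local instance fact_prime_three_graph : Fact (Nat.Prime 3) := ⟨by norm_num⟩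
local instance fact_prime_two_graph : Fact (Nat.Prime 2) := ⟨Nat.prime_two⟩
local instance fintype_sylow_graph : Fintype (Sylow 3 G) := Fintype.ofFinite _

/-- Two Sylow 3-subgroups are adjacent when some involution inverts both. -/
def Adj (U V : Sylow 3 G) : Prop := U ≠ V ∧ ∃ x, Inverts U x ∧ Inverts V x

omit [Finite G] in
theorem Adj.symm {U V : Sylow 3 G} (h : Adj U V) : Adj V U :=
  ⟨h.1.symm, h.2.imp fun _ hx => ⟨hx.2, hx.1⟩⟩

omit [Finite G] in
theorem adj_smul {U V : Sylow 3 G} (g : G) : Adj (g • U) (g • V) ↔ Adj U V :=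
  ⟨fun ⟨hne, x, h1, h2⟩ => ⟨fun e => hne (by rw [e]), _, h1.of_smul, h2.of_smul⟩,
    fun ⟨hne, x, h1, h2⟩ => ⟨fun e => hne (smul_left_cancel g e), _, h1.smul g, h2.smul g⟩⟩

omit [Finite G] in
theorem adj_smul_right {U V : Sylow 3 G} (g : G) : Adj U (g • V) ↔ Adj (g⁻¹ • U) V := by
  rw [← adj_smul g⁻¹, inv_smul_smul]

/-- The neighbours of a vertex. -/
def nbrs (U : Sylow 3 G) : Finset (Sylow 3 G) := Finset.univ.filter fun V => Adj U V

theorem mem_nbrs {U V : Sylow 3 G} : V ∈ nbrs U ↔ Adj U V := by simp [nbrs]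

/-- The number of common neighbours. -/
def common (U V : Sylow 3 G) : ℕ := (nbrs U ∩ nbrs V).card

theorem common_smul (g : G) (U V : Sylow 3 G) : common (g • U) (g • V) = common U V := by
  rw [common, common, ← Finset.card_image_of_injective (nbrs U ∩ nbrs V) (MulAction.injective g)]
  congr 1
  ext W
  simp only [Finset.mem_inter, mem_nbrs, Finset.mem_image]
  constructor
  · intro h
    exact ⟨g⁻¹ • W, by rwa [← adj_smul g (U := U), ← adj_smul g (U := V), smul_inv_smul],
      smul_inv_smul g W⟩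
  · rintro ⟨W', h, rfl⟩
    rwa [adj_smul, adj_smul]

theorem mem_sylN_iff {U : Sylow 3 G} {n : G} : n ∈ sylN U ↔ n • U = U :=
  Sylow.smul_eq_iff_mem_normalizer.symm

theorem smul_eq_self (U : Sylow 3 G) {t : G} (ht : t ∈ U) : t • U = U :=
  mem_sylN_iff.1 (le_normalizer ht)

theorem eq_one_of_mem_sylN (hM : Cfsg.IsM11 G) {U V : Sylow 3 G} {t : G} (ht : t ∈ U)
    (h : t • V = V) (hne : V ≠ U) : t = 1 := by
  by_contra ht1
  exact hne (sylow_eq_of_mem hM ht ((smul_eq_iff_mem hM U V ht).1 h) ht1)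

namespace Frame

variable (F : Frame G)

/-- The two non-base points of the triple. -/
def side (e : Bool) : Sylow 3 G := cond e F.b F.a

/-- The parametrisation of the neighbours. -/
def pt (p : ↥(F.T : Subgroup G) × Bool) : Sylow 3 G := (p.1 : G) • F.side p.2

theorem inverts_side (e : Bool) : Inverts (F.side e) F.c := by
  cases e
  · exact F.inverts_a
  · exact F.inverts_b

theorem side_ne (hM : Cfsg.IsM11 G) (e : Bool) : F.side e ≠ F.T := by
  cases e
  · exact F.a_ne hM
  · exact F.b_ne hM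

theorem inverts_pt (p : ↥(F.T : Subgroup G) × Bool) :
    Inverts F.T ((p.1 : G) * F.c * (p.1 : G)⁻¹) ∧
      Inverts (F.pt p) ((p.1 : G) * F.c * (p.1 : G)⁻¹) := by
  refine ⟨?_, (F.inverts_side p.2).smul _⟩
  have := F.hc.smul (p.1 : G)
  rwa [smul_eq_self F.T p.1.2] at this

theorem pt_ne (hM : Cfsg.IsM11 G) (p : ↥(F.T : Subgroup G) × Bool) : F.pt p ≠ F.T := fun h =>
  F.side_ne hM p.2 (smul_left_cancel (p.1 : G) (h.trans (smul_eq_self F.T p.1.2).symm))

theorem pt_injective (hM : Cfsg.IsM11 G) : Function.Injective F.pt := by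
  rintro ⟨τ, e⟩ ⟨σ, d⟩ h
  have h1 := F.inverts_pt (τ, e)
  have h2 := F.inverts_pt (σ, d)
  rw [← h] at h2
  have hc := common_inverter_unique hM (F.pt_ne hM (τ, e)) h1.1 h1.2 h2.1 h2.2
  simp only at hc
  have hcomm : F.c * ((σ : G)⁻¹ * τ) = ((σ : G)⁻¹ * τ) * F.c := by
    calc F.c * ((σ : G)⁻¹ * τ) = (σ : G)⁻¹ * ((σ : G) * F.c * (σ : G)⁻¹) * τ := by group
      _ = ((σ : G)⁻¹ * τ) * F.c := by rw [← hc]; group
  obtain rfl : σ = τ := Subtype.ext (inv_mul_eq_one.1 (F.hc.eq_one_of_commute hM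
    ((F.T : Subgroup G).mul_mem ((F.T : Subgroup G).inv_mem σ.2) τ.2) hcomm))
  have h' : F.side e = F.side d := smul_left_cancel _ h
  cases e <;> cases d <;> first
    | rfl
    | exact absurd h' (F.b_ne_a hM)
    | exact absurd h'.symm (F.b_ne_a hM)

theorem adj_T_pt (hM : Cfsg.IsM11 G) (p : ↥(F.T : Subgroup G) × Bool) : Adj F.T (F.pt p) :=
  ⟨(F.pt_ne hM p).symm, _, F.inverts_pt p⟩

theorem exists_pt (hM : Cfsg.IsM11 G) {U : Sylow 3 G} (hU : Adj F.T U) : ∃ p, F.pt p = U := by
  obtain ⟨hne, x, hx, hx'⟩ := hU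
  obtain ⟨τ, hτ, rfl⟩ := F.hc.exists_conj hM hx
  have h1 : Inverts (τ⁻¹ • U) F.c := by
    have := hx'.smul τ⁻¹
    rwa [show τ⁻¹ * (τ * F.c * τ⁻¹) * τ⁻¹⁻¹ = F.c by group] at this
  rcases F.triple hM h1 with h | h | h
  · exact absurd (by rw [← smul_inv_smul τ U, h, smul_eq_self F.T hτ]) hne.symm
  · exact ⟨(⟨τ, hτ⟩, false), by show τ • F.a = U; rw [← h, smul_inv_smul]⟩
  · exact ⟨(⟨τ, hτ⟩, true), by show τ • F.b = U; rw [← h, smul_inv_smul]⟩

theorem nbrs_T (hM : Cfsg.IsM11 G) [Fintype (F.T : Subgroup G)] :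
    nbrs F.T = Finset.univ.image F.pt := by
  ext U
  rw [mem_nbrs]
  constructor
  · intro h
    obtain ⟨p, rfl⟩ := F.exists_pt hM h
    exact Finset.mem_image_of_mem _ (Finset.mem_univ p)
  · intro h
    obtain ⟨p, -, rfl⟩ := Finset.mem_image.1 h
    exact F.adj_T_pt hM p

theorem smul_pt (hM : Cfsg.IsM11 G) {k : G} (hk : k ∈ F.K) (τ : (F.T : Subgroup G)) (e : Bool)
    (σ : (F.T : Subgroup G)) (h : k * τ * k⁻¹ = σ) : k • F.pt (τ, e) = F.pt (σ, e) := by
  have hside : k • F.side e = F.side e := by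
    cases e
    · exact (F.mem_K.1 hk).2.2
    · exact F.K_smul_b hM hk
  show k • (τ : G) • F.side e = (σ : G) • F.side e
  calc k • (τ : G) • F.side e = (σ : G) • k • F.side e := by
        rw [← mul_smul, ← mul_smul, ← h, inv_mul_cancel_right]
    _ = (σ : G) • F.side e := by rw [hside]

/-- Whether the second point is adjacent to the rest of one side of the neighbourhood. -/
def P (e : Bool) : Prop :=
  ∀ τ : (F.T : Subgroup G), τ ≠ 1 → Adj F.a (F.pt (τ, e))

theorem not_P (hM : Cfsg.IsM11 G) {e : Bool} (h : ¬ F.P e) {τ : (F.T : Subgroup G)} (hτ : τ ≠ 1) :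
    ¬ Adj F.a (F.pt (τ, e)) := by
  intro hA
  refine h fun σ hσ => ?_
  obtain ⟨k, hk, hkt⟩ := F.K_transitive hM τ.2 (fun e => hτ (Subtype.ext e)) σ.2
    fun e => hσ (Subtype.ext e)
  have := (adj_smul k).2 hA
  rwa [(F.mem_K.1 hk).2.2, F.smul_pt hM hk τ e σ hkt] at this

theorem adj_a_pt_one (hM : Cfsg.IsM11 G) (e : Bool) : Adj F.a (F.pt (1, e)) ↔ e = true := by
  show Adj F.a ((1 : G) • F.side e) ↔ _
  rw [one_smul]
  cases e
  · exact ⟨fun h => absurd rfl h.1, fun h => absurd h Bool.false_ne_true⟩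
  · exact ⟨fun _ => rfl, fun _ => ⟨(F.b_ne_a hM).symm, F.c, F.inverts_a, F.inverts_b⟩⟩

theorem adj_a_pt (hM : Cfsg.IsM11 G) (τ : (F.T : Subgroup G)) (e : Bool) :
    Adj F.a (F.pt (τ, e)) ↔ (τ = 1 ∧ e = true) ∨ (τ ≠ 1 ∧ F.P e) := by
  by_cases hτ : τ = 1
  · subst hτ
    simp [F.adj_a_pt_one hM e]
  · refine ⟨fun h => Or.inr ⟨hτ, ?_⟩, fun h => ?_⟩
    · by_contra hP
      exact F.not_P hM hP hτ h
    · rcases h with ⟨h, -⟩ | ⟨-, h⟩
      · exact absurd h hτ
      · exact h τ hτ

theorem adj_b_pt (hM : Cfsg.IsM11 G) (τ : (F.T : Subgroup G)) (e : Bool) :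
    Adj F.b (F.pt (τ, e)) ↔ (τ = 1 ∧ e = false) ∨ (τ ≠ 1 ∧ F.P (!e)) := by
  obtain ⟨s, hs, hsa, hsb⟩ := F.exists_swap hM
  have hsT : s • F.T = F.T := (F.mem_S.1 hs).1
  let σ : (F.T : Subgroup G) :=
    ⟨s⁻¹ * τ * s, (Subgroup.mem_normalizer_iff''.1 hs.1 _).1 τ.2⟩
  have hpt : F.pt (τ, e) = s • F.pt (σ, !e) := by
    show (τ : G) • F.side e = s • (s⁻¹ * τ * s) • F.side (!e)
    rw [← mul_smul, show s * (s⁻¹ * (τ : G) * s) = τ * s by group, mul_smul]
    cases e
    · show _ = (τ : G) • s • F.b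
      rw [hsb]; rfl
    · show _ = (τ : G) • s • F.a
      rw [hsa]; rfl
  have hσ : σ = 1 ↔ τ = 1 := by
    rw [Subtype.ext_iff, Subtype.ext_iff]
    show s⁻¹ * τ * s = 1 ↔ (τ : G) = 1
    constructor
    · intro h
      calc (τ : G) = s * (s⁻¹ * τ * s) * s⁻¹ := by group
        _ = 1 := by rw [h]; group
    · intro h; rw [h]; group
  rw [hpt, ← hsa, adj_smul, F.adj_a_pt hM, hσ, ne_eq, hσ]
  cases e <;> simp

theorem adj_pt_pt (hM : Cfsg.IsM11 G) (σ τ : (F.T : Subgroup G)) (d e : Bool) :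
    Adj (F.pt (σ, d)) (F.pt (τ, e)) ↔
      (σ = τ ∧ d ≠ e) ∨ (σ ≠ τ ∧ F.P (d ^^ e)) := by
  have h : F.pt (τ, e) = (σ : G) • F.pt (σ⁻¹ * τ, e) := by
    show (τ : G) • F.side e = (σ : G) • (((σ⁻¹ * τ : (F.T : Subgroup G))) : G) • F.side e
    rw [← mul_smul]
    congr 1
    simp
  rw [h, show F.pt (σ, d) = (σ : G) • F.side d from rfl, adj_smul]
  cases d
  · show Adj F.a _ ↔ _
    rw [F.adj_a_pt hM, ne_eq, inv_mul_eq_one]
    cases e <;> simp
  · show Adj F.b _ ↔ _
    rw [F.adj_b_pt hM, ne_eq, inv_mul_eq_one]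
    cases e <;> simp

theorem common_a (hM : Cfsg.IsM11 G) :
    common F.T F.a = 1 + (if F.P false then 8 else 0) + (if F.P true then 8 else 0) := by
  have : Fintype (F.T : Subgroup G) := Fintype.ofFinite _
  have h9 : Fintype.card (F.T : Subgroup G) = 9 := by
    rw [← Nat.card_eq_fintype_card]; exact card_three_sylow hM F.T
  rw [common, F.nbrs_T hM, ← Finset.filter_mem_eq_inter, Finset.filter_image,
    Finset.card_image_of_injective _ (F.pt_injective hM)]
  have : (Finset.univ.filter fun p => F.pt p ∈ nbrs F.a) =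
      (Finset.univ.filter fun p : ↥(F.T : Subgroup G) × Bool =>
        (p.1 = 1 ∧ p.2 = true) ∨ (p.1 ≠ 1 ∧ F.P p.2)) :=
    Finset.filter_congr fun p _ => by rw [mem_nbrs]; exact F.adj_a_pt hM p.1 p.2
  rw [this, Finset.card_eq_sum_ones, Finset.sum_filter, Fintype.sum_prod_type_right,
    Fintype.sum_bool]
  simp only [and_true, Bool.false_eq_true, and_false, false_or, ne_eq]
  by_cases h1 : F.P false <;> by_cases h2 : F.P true <;>
    simp [h1, h2, h9, Finset.filter_eq', Finset.filter_ne', Finset.sum_ite, Finset.card_erase_of_mem,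
      Finset.card_univ, em]

end Frame

theorem exists_smul_eq' (U V : Sylow 3 G) : ∃ g : G, g • U = V := MulAction.exists_smul_eq G U V

theorem card_nbrs (hM : Cfsg.IsM11 G) (U : Sylow 3 G) : (nbrs U).card = 18 := by
  obtain ⟨F, rfl⟩ := exists_frame hM U
  have : Fintype (F.T : Subgroup G) := Fintype.ofFinite _
  rw [F.nbrs_T hM, Finset.card_image_of_injective _ (F.pt_injective hM), Finset.card_univ,
    Fintype.card_prod, Fintype.card_bool, ← Nat.card_eq_fintype_card, card_three_sylow hM F.T]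

theorem card_sylow_univ (hM : Cfsg.IsM11 G) : (Finset.univ : Finset (Sylow 3 G)).card = 55 := by
  rw [Finset.card_univ, ← Nat.card_eq_fintype_card, (sylow_three hM (Classical.arbitrary _)).1]

/-- The non-neighbours of a vertex. -/
def far (U : Sylow 3 G) : Finset (Sylow 3 G) :=
  Finset.univ.filter fun V => V ≠ U ∧ ¬ Adj U V

theorem card_far (hM : Cfsg.IsM11 G) (U : Sylow 3 G) : (far U).card = 36 := by
  have h : far U = Finset.univ \ insert U (nbrs U) := by
    ext V; simp [far, mem_nbrs]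
  rw [h, Finset.card_sdiff_of_subset (Finset.subset_univ _), card_sylow_univ hM,
    Finset.card_insert_of_notMem (fun hU => (mem_nbrs.1 hU).1 rfl), card_nbrs hM]

/-- The normaliser of a vertex is transitive on its non-neighbours. -/
theorem far_transitive (hM : Cfsg.IsM11 G) {U V W : Sylow 3 G} (hV : V ∈ far U) (hW : W ∈ far U) :
    ∃ n ∈ sylN U, n • V = W := by
  obtain ⟨hVU, hVA⟩ := (Finset.mem_filter.1 hV).2
  set D := sylN U ⊓ sylN V with hD
  have hD16 : ∀ x ∈ D, x ^ 16 = 1 := by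
    intro x hx
    have h144 : x ^ 144 = 1 := orderOf_dvd_iff_pow_eq_one.1
      ((Subgroup.orderOf_dvd_natCard _ hx.1).trans (dvd_of_eq (sylow_three hM U).2.1))
    have h9 : (x ^ 16) ^ 9 = 1 := by rw [← pow_mul]; exact h144
    exact eq_one_of_mem_sylN hM (mem_of_normalizing U (pow_mem hx.1 16) h9)
      (mem_sylN_iff.1 (pow_mem hx.2 16)) hVU
  have hD4 : Nat.card D ≤ 4 := by
    by_contra hlt
    push Not at hlt
    have hp : IsPGroup 2 D := fun x => ⟨4, Subtype.ext (by
      rw [SubmonoidClass.coe_pow, OneMemClass.coe_one, show 2 ^ 4 = 16 by norm_num]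
      exact hD16 x.1 x.2)⟩
    have : Nontrivial D := Finite.one_lt_card_iff_nontrivial.1 (by omega)
    have := hp.center_nontrivial
    obtain ⟨⟨⟨z, hzD⟩, hzc⟩, hz1⟩ := exists_ne (1 : center D)
    have hz1' : z ≠ 1 := fun e => hz1 (Subtype.ext (Subtype.ext e))
    obtain ⟨i, -, hi⟩ := (Nat.dvd_prime_pow Nat.prime_two).1
      (show orderOf z ∣ 2 ^ 4 from orderOf_dvd_of_pow_eq_one (hD16 z hzD))
    rcases i with _ | i
    · exact hz1' (orderOf_eq_one_iff.1 (by simpa using hi))
    set w := z ^ 2 ^ i with hw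
    have hw2 : orderOf w = 2 := by
      rw [hw, orderOf_pow' _ (by positivity), hi, Nat.gcd_eq_right (pow_dvd_pow 2 (Nat.le_succ i)),
        Nat.pow_div (Nat.le_succ i) (by norm_num)]
      norm_num
    have hwc : ∀ d ∈ D, w * d = d * w := by
      intro d hd
      have hcz : Commute z d := (congrArg Subtype.val (Subgroup.mem_center_iff.1 hzc ⟨d, hd⟩)).symm
      exact hcz.pow_left _
    exact hVA ⟨hVU.symm, w, central_inverts hM inf_le_left hlt hD16 (pow_mem hzD _) hw2 hwc,
      central_inverts hM inf_le_right hlt hD16 (pow_mem hzD _) hw2 hwc⟩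
  have hst : Nat.card (stabilizer (sylN U) V) = Nat.card D :=
    Nat.card_congr ⟨fun g => ⟨g.1.1, g.1.2, mem_sylN_iff.2 g.2⟩,
      fun g => ⟨⟨g.1, g.2.1⟩, mem_sylN_iff.1 g.2.2⟩, fun g => rfl, fun g => rfl⟩
  have hsub : orbit (sylN U) V ⊆ (far U : Set (Sylow 3 G)) := by
    rintro X ⟨⟨n, hn⟩, rfl⟩
    show n • V ∈ (far U : Set (Sylow 3 G))
    rw [Finset.mem_coe, far, Finset.mem_filter]
    have hnU := mem_sylN_iff.1 hn
    refine ⟨Finset.mem_univ _, fun e => hVU (smul_left_cancel n (e.trans hnU.symm)), fun hA => hVA ?_⟩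
    rw [← adj_smul n, hnU]
    exact hA
  have horb : 36 ≤ (orbit (sylN U) V).ncard := by
    have h' := (stabilizer (sylN U) V).card_mul_index
    rw [MulAction.index_stabilizer, hst, (sylow_three hM U).2.1] at h'
    nlinarith
  have heq := Set.eq_of_subset_of_ncard_le hsub
    (by rw [Set.ncard_coe_finset, card_far hM]; exact horb)
  obtain ⟨⟨n, hn⟩, e⟩ := heq.ge hW
  exact ⟨n, hn, e⟩

/-- Counting paths of length two from a vertex. -/
theorem far_common (hM : Cfsg.IsM11 G) (F : Frame G) {V : Sylow 3 G} (hV : V ∈ far F.T) :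
    36 * common F.T V + 18 * common F.T F.a = 306 := by
  have hA : ∀ W ∈ nbrs F.T, common F.T W = common F.T F.a := by
    intro W hW
    have : Fintype (F.T : Subgroup G) := Fintype.ofFinite _
    rw [F.nbrs_T hM] at hW
    obtain ⟨⟨τ, e⟩, -, rfl⟩ := Finset.mem_image.1 hW
    obtain ⟨s, hs, hsa, -⟩ := F.exists_swap hM
    cases e
    · have := common_smul (τ : G) F.T F.a
      rw [smul_eq_self F.T τ.2] at this
      exact this
    · have h1 : F.pt (τ, true) = ((τ : G) * s) • F.a := by rw [mul_smul, hsa]; rfl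
      have h2 : F.T = ((τ : G) * s) • F.T := by
        rw [mul_smul, (F.mem_S.1 hs).1, smul_eq_self F.T τ.2]
      have := common_smul ((τ : G) * s) F.T F.a
      rw [← h2] at this
      rw [h1]
      exact this
  have hfar : ∀ W ∈ far F.T, common F.T W = common F.T V := by
    intro W hW
    obtain ⟨n, hn, rfl⟩ := far_transitive hM hV hW
    conv_lhs => rw [show F.T = n • F.T from (mem_sylN_iff.1 hn).symm]
    exact common_smul _ _ _
  have htot : ∑ W : Sylow 3 G, common F.T W = 18 * 18 := by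
    have h1 : ∀ W, common F.T W = ∑ X ∈ nbrs F.T, if Adj W X then 1 else 0 := by
      intro W
      rw [common, Finset.sum_boole, Nat.cast_id, ← Finset.filter_mem_eq_inter]
      exact congrArg Finset.card (Finset.filter_congr fun X _ => mem_nbrs)
    rw [Finset.sum_congr rfl fun W _ => h1 W, Finset.sum_comm,
      Finset.sum_congr rfl (g := fun _ => 18) fun X _ => by
        rw [Finset.sum_boole, Nat.cast_id, ← card_nbrs hM X, nbrs]
        exact congrArg Finset.card (Finset.filter_congr fun W _ => ⟨Adj.symm, Adj.symm⟩),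
      Finset.sum_const, card_nbrs hM, smul_eq_mul]
  have hsplit : (Finset.univ : Finset (Sylow 3 G)) = insert F.T (nbrs F.T ∪ far F.T) := by
    ext W
    by_cases h : W = F.T <;> by_cases h' : Adj F.T W <;> simp [far, mem_nbrs, h, h']
  have hself : common F.T F.T = 18 := by rw [common, Finset.inter_self, card_nbrs hM]
  rw [hsplit, Finset.sum_insert (by simp [far, mem_nbrs, Adj]),
    Finset.sum_union (Finset.disjoint_left.2 fun W h h' =>
      (Finset.mem_filter.1 h').2.2 (mem_nbrs.1 h)),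
    Finset.sum_congr rfl hA, Finset.sum_congr rfl hfar, Finset.sum_const, Finset.sum_const,
    card_nbrs hM, card_far hM, hself, smul_eq_mul, smul_eq_mul] at htot
  omega

/-- No Sylow graph with one common neighbour on every edge. -/
theorem common_ne_one (hM : Cfsg.IsM11 G) (F : Frame G) : common F.T F.a ≠ 1 := by
  intro h1
  have key : ∀ U V : Sylow 3 G, common U V =
      if U = V then 18 else if Adj U V then 1 else 8 := by
    intro U V
    obtain ⟨g, hg⟩ := exists_smul_eq' U F.T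
    rw [← common_smul g U V, hg]
    by_cases hUV : U = V
    · rw [if_pos hUV, ← hUV, hg, common, Finset.inter_self, card_nbrs hM]
    rw [if_neg hUV]
    have hne : g • V ≠ F.T := fun e => hUV (smul_left_cancel g (hg.trans e.symm))
    have hadj : Adj U V ↔ Adj F.T (g • V) := by rw [← hg, adj_smul]
    by_cases hA : Adj U V
    · rw [if_pos hA]
      obtain ⟨p, hp⟩ := F.exists_pt hM (hadj.1 hA)
      obtain ⟨F', hF'⟩ : ∃ n ∈ sylN F.T, n • F.a = g • V := by
        obtain ⟨s, hs, hsa, -⟩ := F.exists_swap hM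
        rw [← hp]
        obtain ⟨τ, e⟩ := p
        cases e
        · exact ⟨τ, le_normalizer τ.2, rfl⟩
        · exact ⟨(τ : G) * s, (sylN F.T).mul_mem (le_normalizer τ.2) hs.1, by
            rw [mul_smul, hsa]; rfl⟩
      rw [← hF'.2, ← h1]
      conv_lhs => rw [show F.T = F' • F.T from (mem_sylN_iff.1 hF'.1).symm]
      exact common_smul _ _ _
    · rw [if_neg hA]
      have := far_common hM F (V := g • V)
        (Finset.mem_filter.2 ⟨Finset.mem_univ _, hne, fun h => hA (hadj.2 h)⟩)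
      omega
  have : Fact (Nat.Prime 7) := ⟨by norm_num⟩
  let A : Matrix (Sylow 3 G) (Sylow 3 G) (ZMod 7) := Matrix.of fun U V => if Adj U V then 1 else 0
  let J : Matrix (Sylow 3 G) (Sylow 3 G) (ZMod 7) := Matrix.of fun _ _ => 1
  have hJJ : J * J = (55 : ZMod 7) • J := by
    ext U V
    simp only [Matrix.mul_apply, J, Matrix.of_apply, Matrix.smul_apply, mul_one, Finset.sum_const, smul_eq_mul,
      card_sylow_univ hM, nsmul_eq_mul]
    rfl
  have hAJ : A * J = (18 : ZMod 7) • J := by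
    ext U V
    simp only [Matrix.mul_apply, A, J, Matrix.of_apply, Matrix.smul_apply, mul_one, smul_eq_mul]
    rw [Finset.sum_boole, show (Finset.univ.filter fun W => Adj U W) = nbrs U from rfl, card_nbrs hM]
    rfl
  have hAA : A * A = (10 : ZMod 7) • (1 : Matrix (Sylow 3 G) (Sylow 3 G) (ZMod 7))
      + (8 : ZMod 7) • J - (7 : ZMod 7) • A := by
    ext U V
    have h : (A * A) U V = (common U V : ZMod 7) := by
      simp only [Matrix.mul_apply, A, Matrix.of_apply, ite_mul, one_mul, zero_mul, ← ite_and]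
      rw [Finset.sum_boole, common]
      congr 2
      ext W
      simp only [Finset.mem_filter, Finset.mem_univ, true_and, Finset.mem_inter, mem_nbrs]
      exact and_congr_right fun _ => ⟨Adj.symm, Adj.symm⟩
    rw [h, key]
    simp only [Matrix.sub_apply, Matrix.add_apply, Matrix.smul_apply, Matrix.one_apply, A, J, Matrix.of_apply,
      smul_eq_mul, mul_one]
    by_cases hUV : U = V
    · subst hUV
      simp [Adj]
      rfl
    · by_cases hA : Adj U V <;> simp [hUV, hA] <;> rfl
  have h7 : (7 : ZMod 7) = 0 := rfl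
  rw [h7, zero_smul, sub_zero] at hAA
  have htr : Matrix.trace (A ^ 7) = 0 := by
    rw [ZMod.trace_pow_card, Matrix.trace,
      Finset.sum_eq_zero fun U _ => (by simp [A, Adj] : Matrix.diag A U = 0),
      zero_pow (by norm_num)]
  have hA7 : A ^ 7 = (10 ^ 3 : ZMod 7) • A +
      ((18 * (3 * 10 ^ 2 * 8 + 3 * 10 * 8 ^ 2 * 55 + 8 ^ 3 * 55 ^ 2) : ZMod 7)) • J := by
    have h3 : A ^ 7 = A * ((A * A) * ((A * A) * (A * A))) := by
      simp [pow_succ, mul_assoc]
    rw [h3, hAA]
    simp only [mul_add, add_mul, Matrix.smul_mul, Matrix.mul_smul, hJJ, hAJ, one_mul, mul_one,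
      smul_smul, smul_add]
    module
  have hJt : Matrix.trace J = 55 := by
    simp [Matrix.trace, J, card_sylow_univ hM]
  rw [hA7, Matrix.trace_add, Matrix.trace_smul, Matrix.trace_smul, hJt, Matrix.trace,
    Finset.sum_eq_zero fun U _ => (by simp [A, Adj] : Matrix.diag A U = 0)] at htr
  simp only [smul_eq_mul, mul_zero, zero_add] at htr
  have h : ((18 * (3 * 10 ^ 2 * 8 + 3 * 10 * 8 ^ 2 * 55 + 8 ^ 3 * 55 ^ 2) * 55 : ℕ) : ZMod 7) = 0 := by
    push_cast
    exact htr
  rw [ZMod.natCast_eq_zero_iff] at h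
  exact absurd h (by norm_num)

/-- The neighbourhood of a vertex consists of two cliques. -/
theorem Frame.P_iff (hM : Cfsg.IsM11 G) (F : Frame G) : F.P false ∧ ¬ F.P true := by
  have h1 := common_ne_one hM F
  have hca := F.common_a hM
  have : Fintype (F.T : Subgroup G) := Fintype.ofFinite _
  by_cases hf : F.P false <;> by_cases ht : F.P true
  · exfalso
    rw [if_pos hf, if_pos ht] at hca
    have hedge : ∀ X Y Z : Sylow 3 G, Adj X Y → Adj X Z → Y ≠ Z → Adj Y Z := by
      intro X Y Z hXY hXZ hne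
      obtain ⟨g, hg⟩ := exists_smul_eq' X F.T
      rw [← adj_smul g] at hXY hXZ ⊢
      rw [hg] at hXY hXZ
      obtain ⟨⟨σ, d⟩, hp⟩ := F.exists_pt hM hXY
      obtain ⟨⟨τ, e⟩, hq⟩ := F.exists_pt hM hXZ
      rw [← hp, ← hq, F.adj_pt_pt hM]
      by_cases hστ : σ = τ
      · refine Or.inl ⟨hστ, fun hde => hne (smul_left_cancel g ?_)⟩
        rw [← hp, ← hq, hστ, hde]
      · refine Or.inr ⟨hστ, ?_⟩
        cases d <;> cases e <;> assumption
    let R : Setoid (Sylow 3 G) := ⟨fun X Y => X = Y ∨ Adj X Y, fun X => Or.inl rfl,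
      fun h => h.imp Eq.symm Adj.symm, fun {X Y Z} h h' => by
        rcases h with rfl | h
        · exact h'
        rcases h' with rfl | h'
        · exact Or.inr h
        by_cases hXZ : X = Z
        · exact Or.inl hXZ
        · exact Or.inr (hedge Y X Z h.symm h' hXZ)⟩
    have hfib : ∀ q : Quotient R,
        Nat.card {X : Sylow 3 G // Quotient.mk R X = q} = 19 := by
      intro q
      induction q using Quotient.ind with
      | _ X =>
        rw [Nat.card_eq_fintype_card, Fintype.card_subtype]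
        have : (Finset.univ.filter fun Y => Quotient.mk R Y = Quotient.mk R X) =
            insert X (nbrs X) := by
          ext Y
          rw [Finset.mem_filter, Quotient.eq, Finset.mem_insert, mem_nbrs]
          exact ⟨fun h => h.2.imp id Adj.symm, fun h => ⟨Finset.mem_univ _, h.imp id Adj.symm⟩⟩
        rw [this, Finset.card_insert_of_notMem (fun hU => (mem_nbrs.1 hU).1 rfl), card_nbrs hM]
    have : Fintype (Quotient R) := Fintype.ofFinite _
    have h55 : Nat.card (Sylow 3 G) = Fintype.card (Quotient R) * 19 := by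
      rw [← Nat.card_congr (Equiv.sigmaFiberEquiv (Quotient.mk R)), Nat.card_sigma,
        Finset.sum_congr rfl fun q _ => hfib q, Finset.sum_const, smul_eq_mul, Finset.card_univ]
    rw [(sylow_three hM F.T).1] at h55
    omega
  · exact ⟨hf, ht⟩
  · exfalso
    rw [if_neg hf, if_pos ht] at hca
    obtain ⟨t, ht', ht1⟩ := exists_ne_one_sylow hM F.T
    set τ : (F.T : Subgroup G) := ⟨t, ht'⟩
    have hτ : τ ≠ 1 := fun e => ht1 (congrArg Subtype.val e)
    -- two vertices on one side have at least nine common neighbours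
    have hnA : ¬ Adj F.a (F.pt (τ, false)) := F.not_P hM hf hτ
    have hne : F.pt (τ, false) ≠ F.a := by
      intro e
      have h1 : F.pt (1, false) = F.a := one_smul _ _
      have := congrArg Prod.fst (F.pt_injective hM (e.trans h1.symm))
      exact hτ this
    obtain ⟨g, hg⟩ := exists_smul_eq' F.a F.T
    have hmu := far_common hM F (V := g • F.pt (τ, false)) (Finset.mem_filter.2
      ⟨Finset.mem_univ _, fun e => hne (smul_left_cancel g (e.trans hg.symm)),
        fun h => hnA (by rw [← adj_smul g, hg]; exact h)⟩)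
    have h' := common_smul g F.a (F.pt (τ, false))
    rw [hg] at h'
    rw [h', hca] at hmu
    have hle : (Finset.univ.image fun σ : (F.T : Subgroup G) => F.pt (σ, true)).card ≤
        common F.a (F.pt (τ, false)) := by
      refine Finset.card_le_card fun X hX => ?_
      obtain ⟨σ, -, rfl⟩ := Finset.mem_image.1 hX
      rw [Finset.mem_inter, mem_nbrs, mem_nbrs, F.adj_a_pt hM, F.adj_pt_pt hM]
      refine ⟨?_, ?_⟩
      · by_cases h : σ = 1
        · exact Or.inl ⟨h, rfl⟩
        · exact Or.inr ⟨h, ht⟩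
      · by_cases h : τ = σ
        · exact Or.inl ⟨h, Bool.false_ne_true⟩
        · exact Or.inr ⟨h, ht⟩
    rw [Finset.card_image_of_injective _ fun a b e => congrArg Prod.fst (F.pt_injective hM e),
      Finset.card_univ, ← Nat.card_eq_fintype_card, card_three_sylow hM F.T] at hle
    omega
  · exfalso
    rw [if_neg hf, if_neg ht] at hca
    exact h1 hca

theorem Frame.adj_iff (hM : Cfsg.IsM11 G) (F : Frame G) (σ τ : (F.T : Subgroup G)) (d e : Bool) :
    Adj (F.pt (σ, d)) (F.pt (τ, e)) ↔ (σ = τ ∧ d ≠ e) ∨ (σ ≠ τ ∧ d = e) := by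
  rw [F.adj_pt_pt hM]
  obtain ⟨h1, h2⟩ := F.P_iff hM
  cases d <;> cases e <;> simp [h1, h2]

end CfsgLib.Mathieu.Order7920
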