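import Cfsg.Agent.Lib.Mathieu.Order7920.Three220

/-!
Simple groups of order 7920: the Sylow 3-subgroups are self-centralising, elementary and meet
trivially; there is one class of involutions, with centraliser of order 48.
-/

set_option autoImplicit false

namespace CfsgLib.Mathieu.Order7920

open Subgroup MulAction
open scoped Classical

universe u

variable {G : Type u} [Group G] [Finite G]

local instance fact_prime_three_inv : Fact (Nat.Prime 3) := ⟨by norm_num⟩
local instance fact_prime_two_inv : Fact (Nat.Prime 2) := ⟨Nat.prime_two⟩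

variable {T : Sylow 3 G}

theorem sylC_eq (hM : Cfsg.IsM11 G) (T : Sylow 3 G) : sylC T = (T : Subgroup G) :=
  (Subgroup.eq_of_le_of_card_ge (le_sylC hM T) (by
    rw [card_sylC hM T, (sylow_three hM T).2.2, card_three_sylow hM T])).symm

theorem orb_eight (hM : Cfsg.IsM11 G) {t : G} (ht : t ∈ T) (ht1 : t ≠ 1) :
    Nat.card (sylCN T t) = 18 ∧ orbCount T t = 8 := by
  obtain ⟨-, hN, hD⟩ := sylow_three hM T
  have h8 := (orbCount_facts hM T ht ht1).2.2
  rcases orb_cases hM hN ht ht1 with ⟨h, h', -⟩ | ⟨h, h', -⟩ <;> rw [hD] at h h'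
  · omega
  · exact ⟨h, by omega⟩

theorem centralizer_three (hM : Cfsg.IsM11 G) {t : G} (ht : t ∈ T) (ht1 : t ≠ 1) :
    centralizer ({t} : Set G) = sylCN T t ∧ Nat.card (centralizer ({t} : Set G)) = 18 := by
  have h := (fix3_eq_one hM (sylow_three hM T).2.1 ht ht1).2
  exact ⟨h, by rw [h]; exact (orb_eight hM ht ht1).1⟩

theorem mem_sylN_of_commute (hM : Cfsg.IsM11 G) {t x : G} (ht : t ∈ T) (ht1 : t ≠ 1)
    (h : x * t = t * x) : x ∈ sylN T := by
  have hx : x ∈ centralizer ({t} : Set G) := mem_centralizer_singleton_iff.2 h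
  rw [(centralizer_three hM ht ht1).1] at hx
  exact hx.1

theorem orderOf_eq_three (hM : Cfsg.IsM11 G) {t : G} (ht : t ∈ T) (ht1 : t ≠ 1) : orderOf t = 3 :=
  orderOf_three_of_card hM ht ht1 (by
    rw [(centralizer_three hM ht ht1).2, (sylow_three hM T).2.2]; norm_num)

/-- A nontrivial element lies in only one Sylow 3-subgroup. -/
theorem sylow_eq_of_mem (hM : Cfsg.IsM11 G) {T' : Sylow 3 G} {t : G} (ht : t ∈ T) (ht' : t ∈ T')
    (ht1 : t ≠ 1) : T' = T := by
  have h := (fix3_eq_one hM (sylow_three hM T).2.1 ht ht1).1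
  rw [fix3, fixCount, Nat.card_eq_one_iff_unique] at h
  have := h.1
  exact congrArg Subtype.val (Subsingleton.elim
    (⟨T', (smul_eq_iff_mem hM T T' ht).2 ht'⟩ : {R : Sylow 3 G // t • R = R})
    ⟨T, (smul_eq_iff_mem hM T T ht).2 ht⟩)

/-- The nontrivial elements of a Sylow 3-subgroup are conjugate in its normaliser. -/
theorem exists_conj_three (hM : Cfsg.IsM11 G) {t t' : G} (ht : t ∈ T) (ht1 : t ≠ 1) (ht' : t' ∈ T)
    (ht1' : t' ≠ 1) : ∃ n ∈ sylN T, n * t * n⁻¹ = t' := by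
  refine conj_in_normalizer hM T ht ht' ?_
  have hsub : {x : G | x ∈ T ∧ IsConj t x} ⊆ ((T : Subgroup G) : Set G) \ {1} := by
    rintro x ⟨hx, hc⟩
    exact ⟨hx, fun e => ht1 (isConj_one_left.1 ((show x = 1 from e) ▸ hc))⟩
  have hc : (((T : Subgroup G) : Set G) \ {1}).ncard = 8 := by
    rw [Set.ncard_diff_singleton_of_mem (one_mem (T : Subgroup G)), ← Nat.card_coe_set_eq]
    exact congrArg (· - 1) (card_three_sylow hM T)
  have heq := Set.eq_of_subset_of_ncard_le hsub (by
    rw [hc, ← Nat.card_coe_set_eq]; exact (orb_eight hM ht ht1).2.ge)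
  exact (heq.ge ⟨ht', ht1'⟩).2

theorem Inverts.mem_sylN {x : G} (hx : Inverts T x) : x ∈ sylN T := by
  refine Subgroup.mem_normalizer_iff.2 fun y => ⟨fun hy => ?_, fun hy => ?_⟩
  · rw [hx y hy]; exact inv_mem hy
  · have h := hx (x * y * x⁻¹)⁻¹ (inv_mem hy)
    have e : x * (x * y * x⁻¹)⁻¹ * x⁻¹ = x * y * x⁻¹ := by rw [h, inv_inv]
    rw [← mul_left_cancel (mul_right_cancel e)]
    exact inv_mem hy

theorem exists_inverts (hM : Cfsg.IsM11 G) (T : Sylow 3 G) : ∃ c, Inverts T c :=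
  let ⟨c, _, _, hc⟩ := exists_inverter hM T
  ⟨c, hc⟩

/-- The inverting elements form one coset of `T`. -/
theorem inverts_iff (hM : Cfsg.IsM11 G) {c : G} (hc : Inverts T c) (x : G) :
    Inverts T x ↔ c⁻¹ * x ∈ T := by
  constructor
  · intro hx
    have hci : Inverts T c⁻¹ := fun t ht => by
      have h := hc t⁻¹ (inv_mem ht)
      rw [inv_inv] at h
      calc c⁻¹ * t * c⁻¹⁻¹ = c⁻¹ * (c * t⁻¹ * c⁻¹) * c⁻¹⁻¹ := by rw [h]
        _ = t⁻¹ := by group
    have := hci.mul_mem_sylC hx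
    rwa [sylC_eq hM] at this
  · intro h t ht
    have hcomm := comm_three hM T h ht
    calc x * t * x⁻¹ = c * ((c⁻¹ * x) * t * (c⁻¹ * x)⁻¹) * c⁻¹ := by group
      _ = t⁻¹ := by rw [hcomm, mul_inv_cancel_right]; exact hc t ht

theorem Inverts.sq (hM : Cfsg.IsM11 G) {x : G} (hx : Inverts T x) : x * x = 1 := by
  obtain ⟨c, -, hc16, hc⟩ := exists_inverter hM T
  have hcT : c * c ∈ T := by
    have := (show Inverts T c from hc).mul_mem_sylC (show Inverts T c from hc)
    rwa [sylC_eq hM] at this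
  have hc2 : c * c = 1 := pow_eq_of_coprime (pow_nine_of_mem hM T hcT)
    (by rw [← _root_.sq, ← pow_mul, show 2 * 16 = 16 * 2 by norm_num, pow_mul, hc16, one_pow] :
      (c * c) ^ 16 = 1) (by norm_num)
  have ha := (inverts_iff hM hc x).1 hx
  set a := c⁻¹ * x with hadef
  have hx' : x = c * a := by rw [hadef, mul_inv_cancel_left]
  have hci : c⁻¹ = c := inv_eq_of_mul_eq_one_right hc2
  have h := hc a ha
  rw [hci] at h
  rw [hx', ← mul_assoc, h, inv_mul_cancel]

theorem Inverts.orderOf_eq_two (hM : Cfsg.IsM11 G) {x : G} (hx : Inverts T x) : orderOf x = 2 := by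
  refine orderOf_eq_prime (by rw [_root_.sq, hx.sq hM]) fun e => ?_
  exact hx.not_mem_sylC hM (e ▸ one_mem _)

theorem Inverts.exists_conj (hM : Cfsg.IsM11 G) {x y : G} (hx : Inverts T x) (hy : Inverts T y) :
    ∃ a ∈ T, a * x * a⁻¹ = y := by
  have ha := (inverts_iff hM hx y).1 hy
  set a := x⁻¹ * y with hadef
  refine ⟨a ^ 4, pow_mem ha 4, ?_⟩
  have h4 : a ^ 4 ∈ T := pow_mem ha 4
  have h := hx _ h4
  have ha9 := pow_nine_of_mem hM T ha
  calc a ^ 4 * x * (a ^ 4)⁻¹ = a ^ 4 * (x * (a ^ 4)⁻¹ * x⁻¹) * x := by group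
    _ = a ^ 4 * a ^ 4 * x := by rw [← conj_inv, h, inv_inv]
    _ = x * (x⁻¹ * a ^ 8 * x) := by group
    _ = x * (a ^ 8)⁻¹ := by
        rw [show x⁻¹ = x from inv_eq_of_mul_eq_one_right (hx.sq hM)]
        have h8 := hx _ (pow_mem ha 8)
        rw [show x⁻¹ = x from inv_eq_of_mul_eq_one_right (hx.sq hM)] at h8
        rw [h8]
    _ = x * a := by
        congr 1
        exact inv_eq_of_mul_eq_one_right (by rw [← pow_succ]; exact ha9)
    _ = y := by rw [hadef, mul_inv_cancel_left]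

theorem Inverts.isConj (hM : Cfsg.IsM11 G) {x y : G} (hx : Inverts T x) (hy : Inverts T y) :
    IsConj x y :=
  let ⟨a, _, ha⟩ := hx.exists_conj hM hy
  isConj_iff.2 ⟨a, ha⟩

theorem card_inverts (hM : Cfsg.IsM11 G) (T : Sylow 3 G) : Nat.card {x : G | Inverts T x} = 9 := by
  obtain ⟨c, hc⟩ := exists_inverts hM T
  rw [← card_three_sylow hM T]
  exact Nat.card_congr ⟨fun x => ⟨c⁻¹ * x.1, (inverts_iff hM hc x.1).1 x.2⟩,
    fun a => ⟨c * a.1, (inverts_iff hM hc _).2 (by rw [inv_mul_cancel_left]; exact a.2)⟩,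
    fun x => Subtype.ext (mul_inv_cancel_left _ _), fun a => Subtype.ext (inv_mul_cancel_left _ _)⟩

/-- Involutions of a group of order 18 centralising `t` are conjugate. -/
theorem isConj_in_centralizer (hM : Cfsg.IsM11 G) {t x y : G} (ht : t ∈ T) (ht1 : t ≠ 1)
    (hx : orderOf x = 2) (hy : orderOf y = 2) (hxt : x * t = t * x) (hyt : y * t = t * y) :
    IsConj x y := by
  set H := centralizer ({t} : Set G) with hH
  let x' : H := ⟨x, mem_centralizer_singleton_iff.2 hxt⟩
  let y' : H := ⟨y, mem_centralizer_singleton_iff.2 hyt⟩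
  have hcard : ∀ (z : H), orderOf (z : G) = 2 → Nat.card (zpowers z) =
      2 ^ (Nat.card H).factorization 2 := by
    intro z hz
    rw [Nat.card_zpowers, ← orderOf_coe, hz, (centralizer_three hM ht ht1).2]
    rw [show (18 : ℕ) = 2 * 3 ^ 2 by norm_num, Nat.factorization_mul (by norm_num) (by norm_num),
      Nat.Prime.factorization Nat.prime_two, Nat.Prime.factorization_pow Nat.prime_three]
    simp
  let P : Sylow 2 H := Sylow.ofCard (zpowers x') (hcard x' hx)
  let Q : Sylow 2 H := Sylow.ofCard (zpowers y') (hcard y' hy)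
  obtain ⟨g, hg⟩ := MulAction.exists_smul_eq H P Q
  have hmem : g * x' * g⁻¹ ∈ zpowers y' := by
    have : g * x' * g⁻¹ ∈ ((g • P : Sylow 2 H) : Subgroup H) := by
      rw [Sylow.smul_def, Sylow.pointwise_smul_def, Subgroup.pointwise_smul_def]
      exact ⟨x', mem_zpowers x', rfl⟩
    rw [hg] at this
    exact this
  refine isConj_iff.2 ⟨(g : G), ?_⟩
  have hy2 : orderOf y' = 2 := by rw [← orderOf_coe]; exact hy
  rw [mem_zpowers_iff_mem_range_orderOf, hy2, Finset.mem_image] at hmem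
  obtain ⟨i, hi, e⟩ := hmem
  rw [Finset.mem_range] at hi
  interval_cases i
  · exfalso
    rw [pow_zero, eq_comm, conj_eq_one_iff] at e
    have := congrArg Subtype.val e
    simp only [x', OneMemClass.coe_one] at this
    exact (inv_facts hx).2.1 this
  · rw [pow_one] at e
    exact (congrArg Subtype.val e).symm

/-- All involutions commuting with nontrivial elements of Sylow 3-subgroups are conjugate. -/
theorem isConj_of_commute_three (hM : Cfsg.IsM11 G) {t t' x y : G} (ht : t ∈ T) (ht1 : t ≠ 1)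
    (ht' : t' ∈ T) (ht1' : t' ≠ 1) (hx : orderOf x = 2) (hy : orderOf y = 2) (hxt : x * t = t * x)
    (hyt : y * t' = t' * y) : IsConj x y := by
  obtain ⟨n, -, hn⟩ := exists_conj_three hM ht ht1 ht' ht1'
  have hx' : orderOf (n * x * n⁻¹) = 2 := (orderOf_conj_eq hx (isConj_iff.2 ⟨n, rfl⟩)).1
  refine IsConj.trans (isConj_iff.2 ⟨n, rfl⟩) (isConj_in_centralizer hM ht' ht1' hx' hy ?_ hyt)
  rw [← hn, show n * x * n⁻¹ * (n * t * n⁻¹) = n * (x * t) * n⁻¹ by group, hxt]
  group

theorem Inverts.exists_commute (hM : Cfsg.IsM11 G) {c : G} (hc : Inverts T c) :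
    ∃ c' t, IsConj c c' ∧ t ∈ T ∧ t ≠ 1 ∧ c' * t = t * c' := by
  by_cases h3 : 3 ∣ Nat.card (centralizer ({c} : Set G))
  · obtain ⟨⟨y, hy⟩, hyo⟩ := exists_prime_orderOf_dvd_card' (G := centralizer ({c} : Set G)) 3 h3
    rw [orderOf_mk] at hyo
    obtain ⟨T', hT'⟩ := (IsPGroup.of_card (p := 3) (n := 1)
      (by rw [Nat.card_zpowers, hyo, pow_one] : Nat.card (zpowers y) = 3 ^ 1)).exists_le_sylow
    obtain ⟨g, hg⟩ := exists_conj_sylow T' T
    refine ⟨g * c * g⁻¹, g * y * g⁻¹, isConj_iff.2 ⟨g, rfl⟩, (hg y).2 (hT' (mem_zpowers y)),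
      fun e => ?_, ?_⟩
    · rw [conj_eq_one_iff.1 e, orderOf_one] at hyo; omega
    · rw [show g * c * g⁻¹ * (g * y * g⁻¹) = g * (c * y) * g⁻¹ by group,
        ← mem_centralizer_singleton_iff.1 hy]
      group
  · by_contra hno
    push Not at hno
    obtain ⟨-, hN, -⟩ := sylow_three hM T
    have hc2 := hc.orderOf_eq_two hM
    obtain ⟨f, hf, hfeq⟩ := parity_fifty_five hM hN hc2
    have hcount : conjCount (sylN T) c = 9 := by
      rw [← card_inverts hM T, conjCount]
      refine Nat.card_congr (Equiv.subtypeEquivRight fun x => ⟨?_, ?_⟩)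
      · rintro ⟨hxN, hxc⟩
        by_contra hI
        obtain ⟨t, ht, ht1, hxt⟩ := commutes_of_not_inverts hM hxN (orderOf_conj_eq hc2 hxc).2 hI
        exact hno x t hxc ht ht1 hxt
      · exact fun hx => ⟨hx.mem_sylN, hc.isConj hM hx⟩
    rw [hcount] at hfeq
    have hdvd := centralizer_involution_dvd hM hc2
    rw [show 144 = 2 ^ 4 * 3 ^ 2 by norm_num] at hdvd
    have h16 := (Nat.Coprime.dvd_of_dvd_mul_right
      (((Nat.Prime.coprime_iff_not_dvd Nat.prime_three).2 h3).symm.pow_right 2) hdvd)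
    have := Nat.le_of_dvd (by norm_num) h16
    omega

/-- Every involution is conjugate to one inverting `T`. -/
theorem Inverts.isConj_involution (hM : Cfsg.IsM11 G) {c x : G} (hc : Inverts T c)
    (hx : orderOf x = 2) : IsConj c x := by
  obtain ⟨-, hN, -⟩ := sylow_three hM T
  obtain ⟨f, hf, hfeq⟩ := parity_fifty_five hM hN hx
  have hpos : 0 < conjCount (sylN T) x := by
    by_contra h
    rw [show conjCount (sylN T) x = 0 by omega, mul_zero] at hfeq
    omega
  obtain ⟨⟨h, hhN, hxh⟩⟩ := (Nat.card_pos_iff.1 hpos).1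
  refine IsConj.trans ?_ hxh.symm
  by_cases hI : Inverts T h
  · exact hc.isConj hM hI
  obtain ⟨t, ht, ht1, hht⟩ := commutes_of_not_inverts hM hhN (orderOf_conj_eq hx hxh).2 hI
  obtain ⟨c', t', hcc', ht', ht1', hct'⟩ := hc.exists_commute hM
  exact hcc'.trans (isConj_of_commute_three hM ht' ht1' ht ht1
    (orderOf_conj_eq (hc.orderOf_eq_two hM) hcc').1 (orderOf_conj_eq hx hxh).1 hct' hht)

theorem isConj_involution (hM : Cfsg.IsM11 G) {x y : G} (hx : orderOf x = 2) (hy : orderOf y = 2) :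
    IsConj x y := by
  obtain ⟨T⟩ := (inferInstance : Nonempty (Sylow 3 G))
  obtain ⟨c, hc⟩ := exists_inverts hM T
  exact (hc.isConj_involution hM hx).symm.trans (hc.isConj_involution hM hy)

theorem card_centralizer_involution (hM : Cfsg.IsM11 G) {x : G} (hx : orderOf x = 2) :
    Nat.card (centralizer ({x} : Set G)) = 48 := by
  -- an involution central in a Sylow 2-subgroup
  obtain ⟨S⟩ := (inferInstance : Nonempty (Sylow 2 G))
  have hS : Nat.card (S : Subgroup G) = 2 ^ 4 :=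
    CfsgLib.SmallGroups.card_sylow_eq (m := 495) (by rw [hM.2]; norm_num) (by norm_num) S
  have : Nontrivial (S : Subgroup G) := Finite.one_lt_card_iff_nontrivial.1 (by rw [hS]; norm_num)
  have hS2 : IsPGroup 2 (S : Subgroup G) := S.2
  have := hS2.center_nontrivial
  obtain ⟨⟨⟨z, hzS⟩, hzc⟩, hz1⟩ := exists_ne (1 : center (S : Subgroup G))
  obtain ⟨d, ⟨hdS, hdc⟩, hd⟩ : ∃ d : G, (∃ h : d ∈ S, (⟨d, h⟩ : (S : Subgroup G)) ∈
      center (S : Subgroup G)) ∧ orderOf d = 2 := by
    obtain ⟨i, -, hi⟩ := (Nat.dvd_prime_pow Nat.prime_two).1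
      (show orderOf z ∣ 2 ^ 4 by rw [← hS]; exact Subgroup.orderOf_dvd_natCard _ hzS)
    rcases i with _ | i
    · refine absurd ?_ hz1
      exact Subtype.ext (Subtype.ext (orderOf_eq_one_iff.1 (by simpa using hi)))
    refine ⟨z ^ 2 ^ i, ⟨pow_mem hzS _, ?_⟩, ?_⟩
    · exact (show (⟨z, hzS⟩ : (S : Subgroup G)) ^ 2 ^ i ∈ center (S : Subgroup G) from
        pow_mem hzc _)
    · rw [orderOf_pow' _ (by positivity), hi, Nat.gcd_eq_right (pow_dvd_pow 2 (Nat.le_succ i)),
        Nat.pow_div (Nat.le_succ i) (by norm_num)]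
      norm_num
  obtain ⟨g, hg⟩ := isConj_iff.1 (isConj_involution hM hd hx)
  rw [← hg, card_centralizer_conj]
  have h16 : 2 ^ 4 ∣ Nat.card (centralizer ({d} : Set G)) := by
    rw [← hS]
    exact card_dvd_of_le fun y hy => mem_centralizer_singleton_iff.2
      (congrArg Subtype.val (Subgroup.mem_center_iff.1 hdc ⟨y, hy⟩))
  obtain ⟨T⟩ := (inferInstance : Nonempty (Sylow 3 G))
  obtain ⟨c, hc⟩ := exists_inverts hM T
  obtain ⟨c', t, hcc', ht, ht1, hct⟩ := hc.exists_commute hM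
  have hc'2 := (orderOf_conj_eq (hc.orderOf_eq_two hM) hcc').1
  obtain ⟨g', hg'⟩ := isConj_iff.1 (isConj_involution hM hc'2 hd)
  have h3 : 3 ∣ Nat.card (centralizer ({d} : Set G)) := by
    rw [← hg', card_centralizer_conj, ← orderOf_eq_three hM ht ht1]
    exact Subgroup.orderOf_dvd_natCard _ (mem_centralizer_singleton_iff.2 hct.symm)
  have hne : Nat.card (centralizer ({d} : Set G)) ≠ 144 := by
    intro h144
    obtain ⟨Q, hQ⟩ := Sylow.exists_subgroup_card_pow_prime (G := centralizer ({d} : Set G)) 3 (n := 2)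
      (by rw [h144]; norm_num)
    have hQc : Nat.card (Q.map (Subgroup.subtype _)) = 3 ^ 2 := by
      rw [Subgroup.card_map_of_injective (Subgroup.subtype_injective _), hQ]
    obtain ⟨T', hT'⟩ := (IsPGroup.of_card (p := 3) (n := 2) hQc).exists_le_sylow
    have heq := Subgroup.eq_of_le_of_card_ge hT' (by rw [hQc, card_three_sylow hM T']; norm_num)
    have hdC : d ∈ sylC T' := by
      refine mem_centralizer_iff.2 fun y hy => ?_
      rw [← heq] at hy
      exact mem_centralizer_singleton_iff.1 (map_subtype_le Q hy)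
    rw [sylC_eq hM] at hdC
    have := Subgroup.orderOf_dvd_natCard _ hdC
    rw [card_three_sylow hM T', hd] at this
    omega
  obtain ⟨q, hq⟩ := Nat.Coprime.mul_dvd_of_dvd_of_dvd (by norm_num : Nat.Coprime (2 ^ 4) 3) h16 h3
  have hdvd := centralizer_involution_dvd hM hd
  rw [hq] at hdvd hne ⊢
  have := Nat.le_of_dvd (by norm_num) hdvd
  have hq2 : q ≠ 2 := by rintro rfl; norm_num at hdvd
  have hq0 : q ≠ 0 := by rintro rfl; norm_num at hdvd
  omega

end CfsgLib.Mathieu.Order7920
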