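import Cfsg.Agent.Lib.Mathieu.Order7920.Involutions

/-!
Simple groups of order 7920: each involution inverts exactly three Sylow 3-subgroups, and the
structure around such a triple.
-/

set_option autoImplicit false

noncomputable section

namespace CfsgLib.Mathieu.Order7920

open Subgroup MulAction
open scoped Classical

universe u

variable {G : Type u} [Group G] [Finite G]

local instance fact_prime_three_lines : Fact (Nat.Prime 3) := ⟨by norm_num⟩
local instance fact_prime_two_lines : Fact (Nat.Prime 2) := ⟨Nat.prime_two⟩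

variable {T T' : Sylow 3 G}

omit [Finite G] in
theorem mem_smul_sylow {g x : G} : x ∈ g • T ↔ g⁻¹ * x * g ∈ T := by
  show x ∈ ((g • T : Sylow 3 G) : Subgroup G) ↔ _
  rw [Sylow.smul_def, Sylow.pointwise_smul_def, Subgroup.pointwise_smul_def]
  constructor
  · rintro ⟨y, hy, rfl⟩
    show g⁻¹ * (g * y * g⁻¹) * g ∈ T
    rwa [show g⁻¹ * (g * y * g⁻¹) * g = y by group]
  · intro h
    exact ⟨_, h, show g * (g⁻¹ * x * g) * g⁻¹ = x by group⟩

omit [Finite G] in
theorem Inverts.smul {x : G} (hx : Inverts T x) (g : G) : Inverts (g • T) (g * x * g⁻¹) := by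
  intro t ht
  have h := hx _ (mem_smul_sylow.1 ht)
  calc g * x * g⁻¹ * t * (g * x * g⁻¹)⁻¹ = g * (x * (g⁻¹ * t * g) * x⁻¹) * g⁻¹ := by group
    _ = t⁻¹ := by rw [h]; group

omit [Finite G] in
theorem Inverts.of_smul {x g : G} (hx : Inverts (g • T) x) : Inverts T (g⁻¹ * x * g) := by
  have := hx.smul g⁻¹
  rwa [inv_smul_smul, inv_inv] at this

theorem Inverts.smul_self (hM : Cfsg.IsM11 G) {x : G} (hx : Inverts T x) : x • T = T :=
  Sylow.smul_eq_iff_mem_normalizer.2 hx.mem_sylN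

theorem Inverts.eq_one_of_commute (hM : Cfsg.IsM11 G) {x a : G} (hx : Inverts T x) (ha : a ∈ T)
    (h : x * a = a * x) : a = 1 := by
  have h1 := hx a ha
  rw [h, mul_inv_cancel_right] at h1
  have h2 : a ^ 2 = 1 := by rw [_root_.sq]; nth_rewrite 1 [h1]; exact inv_mul_cancel a
  exact pow_eq_of_coprime (pow_nine_of_mem hM T ha) h2 (by norm_num)

/-- Two Sylow 3-subgroups are inverted by at most one common involution. -/
theorem common_inverter_unique (hM : Cfsg.IsM11 G) (hne : T' ≠ T) {x y : G} (hx : Inverts T x)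
    (hx' : Inverts T' x) (hy : Inverts T y) (hy' : Inverts T' y) : x = y := by
  have h1 : x * y ∈ T := by
    have := hx.mul_mem_sylC hy
    rwa [sylC_eq hM] at this
  have h2 : x * y ∈ T' := by
    have := hx'.mul_mem_sylC hy'
    rwa [sylC_eq hM] at this
  by_contra hxy
  refine hne (sylow_eq_of_mem hM h1 h2 fun e => hxy ?_)
  rw [← inv_eq_of_mul_eq_one_right (hy.sq hM)]
  exact eq_inv_of_mul_eq_one_left e

/-- An involution inverts exactly three Sylow 3-subgroups. -/
theorem card_inverted (hM : Cfsg.IsM11 G) {x : G} (hx : orderOf x = 2) :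
    Nat.card {T : Sylow 3 G // Inverts T x} = 3 := by
  have : Fintype G := Fintype.ofFinite G
  have : Fintype (Sylow 3 G) := Fintype.ofFinite _
  have key : ∀ y : G, orderOf y = 2 →
      Nat.card {T : Sylow 3 G // Inverts T y} = Nat.card {T : Sylow 3 G // Inverts T x} := by
    intro y hy
    obtain ⟨g, hg⟩ := isConj_iff.1 (isConj_involution hM hx hy)
    refine (Nat.card_congr (Equiv.subtypeEquiv (MulAction.toPerm g) fun T => ?_)).symm
    show Inverts T x ↔ Inverts (g • T) y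
    rw [← hg]
    refine ⟨fun h => h.smul g, fun h => ?_⟩
    have := h.of_smul
    rwa [show g⁻¹ * (g * x * g⁻¹) * g = x by group] at this
  have h165 : Nat.card {y : G // orderOf y = 2} = 165 := by
    have h := classCard_mul_eq hM x
    rw [card_centralizer_involution hM hx] at h
    have e : classCard x = Nat.card {y : G // orderOf y = 2} :=
      Nat.card_congr (Equiv.subtypeEquivRight fun y =>
        ⟨fun hc => (orderOf_conj_eq hx hc).1, fun hy => isConj_involution hM hx hy⟩)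
    omega
  have h1 : Nat.card (Σ T : Sylow 3 G, {y : G | Inverts T y}) = 55 * 9 := by
    rw [Nat.card_sigma, Finset.sum_congr rfl fun T _ => card_inverts hM T, Finset.sum_const,
      smul_eq_mul, Finset.card_univ, ← Nat.card_eq_fintype_card,
      (sylow_three hM (Classical.arbitrary _)).1]
  have h2 : Nat.card (Σ T : Sylow 3 G, {y : G | Inverts T y}) =
      Nat.card (Σ y : {y : G // orderOf y = 2}, {T : Sylow 3 G // Inverts T y.1}) :=
    Nat.card_congr
      ⟨fun p => ⟨⟨p.2.1, (show Inverts p.1 p.2.1 from p.2.2).orderOf_eq_two hM⟩, p.1, p.2.2⟩,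
        fun p => ⟨p.2.1, p.1.1, p.2.2⟩, fun p => rfl, fun p => rfl⟩
  rw [h1, Nat.card_sigma, Finset.sum_congr rfl fun y _ => key y.1 y.2, Finset.sum_const,
    smul_eq_mul, Finset.card_univ, ← Nat.card_eq_fintype_card, h165] at h2
  omega

/-- A 2-group of order more than four normalising `T` has its central involutions inverting `T`. -/
theorem central_inverts (hM : Cfsg.IsM11 G) {D : Subgroup G} (hDN : D ≤ sylN T)
    (hD : 4 < Nat.card D) (hD16 : ∀ x ∈ D, x ^ 16 = 1) {z : G} (hz : z ∈ D) (hz2 : orderOf z = 2)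
    (hzc : ∀ d ∈ D, z * d = d * z) : Inverts T z := by
  by_contra hI
  obtain ⟨t, ht, ht1, hzt⟩ :=
    commutes_of_not_inverts hM (hDN hz) (inv_facts hz2).1 hI
  have : Fintype G := Fintype.ofFinite G
  -- the fixed subgroup of `z` in `T` has order three
  set F : Subgroup G := (T : Subgroup G) ⊓ centralizer ({z} : Set G) with hFdef
  have hF3 : Nat.card F = 3 := by
    have hd : Nat.card F ∈ Nat.divisors 9 := Nat.mem_divisors.2
      ⟨(card_dvd_of_le inf_le_left).trans (dvd_of_eq (card_three_sylow hM T)), by norm_num⟩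
    rw [show Nat.divisors 9 = {1, 3, 9} by decide] at hd
    simp only [Finset.mem_insert, Finset.mem_singleton] at hd
    rcases hd with h | h | h
    · exfalso
      have htF : t ∈ F := ⟨ht, mem_centralizer_singleton_iff.2 hzt.symm⟩
      rw [Subgroup.eq_bot_of_card_eq F h, mem_bot] at htF
      exact ht1 htF
    · exact h
    · exfalso
      have heq : F = (T : Subgroup G) :=
        Subgroup.eq_of_le_of_card_ge inf_le_left (by rw [h, card_three_sylow hM T])
      have hzT : z ∈ sylC T := mem_centralizer_iff.2 fun y hy =>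
        mem_centralizer_singleton_iff.1 (heq.symm ▸ hy : y ∈ F).2
      rw [sylC_eq hM] at hzT
      exact (inv_facts hz2).2.1 (pow_eq_of_coprime (pow_nine_of_mem hM T hzT)
        (hD16 z hz) (by norm_num))
  have himg : ∀ d ∈ D, d * t * d⁻¹ ∈ ({t, t⁻¹} : Finset G) := by
    intro d hd
    have hF : d * t * d⁻¹ ∈ F := by
      refine ⟨(Subgroup.mem_normalizer_iff.1 (hDN hd) t).1 ht, mem_centralizer_singleton_iff.2 ?_⟩
      have hdz : Commute z d := hzc d hd
      exact ((hdz.mul_right hzt).mul_right hdz.inv_right).eq.symm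
    have hgen := zpowers_eq_of_mem hF3
      (show t ∈ F from ⟨ht, mem_centralizer_singleton_iff.2 hzt.symm⟩) ht1
    rw [hgen, mem_zpowers_iff_mem_range_orderOf, orderOf_eq_three hM ht ht1, Finset.mem_image] at hF
    obtain ⟨i, hi, e⟩ := hF
    rw [Finset.mem_range] at hi
    interval_cases i
    · rw [pow_zero, eq_comm, conj_eq_one_iff] at e
      exact absurd e ht1
    · rw [← e, pow_one]; exact Finset.mem_insert_self _ _
    · rw [← e]
      refine Finset.mem_insert_of_mem (Finset.mem_singleton.2 (eq_inv_of_mul_eq_one_left ?_))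
      rw [← pow_succ]
      exact orderOf_dvd_iff_pow_eq_one.1 (dvd_of_eq (orderOf_eq_three hM ht ht1))
  have hstab : Nat.card (D ⊓ centralizer ({t} : Set G) : Subgroup G) ≤ 2 := by
    have h1 : Nat.card (D ⊓ centralizer ({t} : Set G) : Subgroup G) ∣ 18 := by
      rw [← (centralizer_three hM ht ht1).2]
      exact card_dvd_of_le inf_le_right
    have h2 : IsPGroup 2 (D ⊓ centralizer ({t} : Set G) : Subgroup G) := fun x =>
      ⟨4, Subtype.ext (by
        rw [SubmonoidClass.coe_pow, OneMemClass.coe_one, show 2 ^ 4 = 16 by norm_num]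
        exact hD16 x.1 x.2.1)⟩
    obtain ⟨k, hk⟩ := IsPGroup.iff_card.1 h2
    rw [hk] at h1 ⊢
    rcases k with _ | _ | k
    · norm_num
    · norm_num
    · exfalso
      have : 2 ^ 2 ∣ 18 := (pow_dvd_pow 2 (Nat.le_add_left 2 k)).trans h1
      norm_num at this
  let Df : Finset G := Finset.univ.filter fun d => d ∈ D
  have hDf : Df.card = Nat.card D := by
    rw [Nat.card_eq_fintype_card, ← Fintype.card_subtype]
  have hfib : ∀ b ∈ Df.image fun d => d * t * d⁻¹, (Df.filter fun d => d * t * d⁻¹ = b).card ≤ 2 := by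
    intro b hb
    obtain ⟨d0, hd0, rfl⟩ := Finset.mem_image.1 hb
    have hd0D : d0 ∈ D := (Finset.mem_filter.1 hd0).2
    refine le_trans ?_ hstab
    rw [Nat.card_eq_fintype_card, ← Finset.card_univ]
    refine Finset.card_le_card_of_injOn (fun d => if h : d0⁻¹ * d ∈ D ⊓ centralizer ({t} : Set G)
      then ⟨d0⁻¹ * d, h⟩ else 1) (fun _ _ => Finset.mem_univ _) ?_
    have hmem : ∀ d ∈ Df.filter (fun d => d * t * d⁻¹ = d0 * t * d0⁻¹),
        d0⁻¹ * d ∈ D ⊓ centralizer ({t} : Set G) := by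
      intro d hd
      obtain ⟨hdf, he⟩ := Finset.mem_filter.1 hd
      refine ⟨D.mul_mem (D.inv_mem hd0D) (Finset.mem_filter.1 hdf).2,
        mem_centralizer_singleton_iff.2 ?_⟩
      calc d0⁻¹ * d * t = d0⁻¹ * (d * t * d⁻¹) * d := by group
        _ = t * (d0⁻¹ * d) := by rw [he]; group
    intro a ha b hb e
    simp only [dif_pos (hmem a ha), dif_pos (hmem b hb)] at e
    exact mul_left_cancel (congrArg Subtype.val e)
  have h1 := Finset.card_le_mul_card_image Df 2 hfib
  have h2 : (Df.image fun d => d * t * d⁻¹).card ≤ 2 :=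
    (Finset.card_le_card (show Df.image (fun d => d * t * d⁻¹) ⊆ {t, t⁻¹} from fun b hb => by
      obtain ⟨d, hd, rfl⟩ := Finset.mem_image.1 hb
      exact himg d (Finset.mem_filter.1 hd).2)).trans Finset.card_le_two
  omega

/-- A base point, an inverting involution, and an element of order three moving the point around the
triple of the involution. -/
structure Frame (G : Type u) [Group G] where
  T : Sylow 3 G
  c : G
  y : G
  hc : Inverts T c
  hy : orderOf y = 3
  hyc : y * c = c * y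

theorem exists_frame (hM : Cfsg.IsM11 G) (T : Sylow 3 G) : ∃ F : Frame G, F.T = T := by
  obtain ⟨c, hc⟩ := exists_inverts hM T
  obtain ⟨⟨y, hy⟩, hyo⟩ := exists_prime_orderOf_dvd_card' (G := centralizer ({c} : Set G)) 3
    (by rw [card_centralizer_involution hM (hc.orderOf_eq_two hM)]; norm_num)
  rw [orderOf_mk] at hyo
  exact ⟨⟨T, c, y, hc, hyo, mem_centralizer_singleton_iff.1 hy⟩, rfl⟩

namespace Frame

variable (F : Frame G)

theorem pow_three : F.y ^ 3 = 1 := F.hy ▸ pow_orderOf_eq_one F.y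

/-- The second and third point of the triple. -/
def a : Sylow 3 G := F.y • F.T

/-- The third point of the triple. -/
def b : Sylow 3 G := F.y • F.a

theorem smul_b : F.y • F.b = F.T := by
  rw [b, a, ← mul_smul, ← mul_smul, show F.y * F.y * F.y = F.y ^ 3 by simp [pow_succ, mul_assoc], F.pow_three, one_smul]

theorem inverts_smul {U : Sylow 3 G} (hU : Inverts U F.c) {g : G} (hg : g * F.c = F.c * g) :
    Inverts (g • U) F.c := by
  have := hU.smul g
  rwa [hg, mul_inv_cancel_right] at this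

theorem inverts_a : Inverts F.a F.c := F.inverts_smul F.hc F.hyc

theorem inverts_b : Inverts F.b F.c := F.inverts_smul F.inverts_a F.hyc

theorem y_not_mem (hM : Cfsg.IsM11 G) : F.y ∉ sylN F.T := by
  intro h
  have hyT := mem_of_normalizing F.T h
    (by rw [show 9 = 3 * 3 by norm_num, pow_mul, F.pow_three, one_pow])
  have h1 := F.hc.eq_one_of_commute hM hyT F.hyc.symm
  have := F.hy
  rw [h1, orderOf_one] at this
  omega

theorem a_ne (hM : Cfsg.IsM11 G) : F.a ≠ F.T := fun h =>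
  F.y_not_mem hM (Sylow.smul_eq_iff_mem_normalizer.1 h)

theorem b_ne_a (hM : Cfsg.IsM11 G) : F.b ≠ F.a := fun h =>
  F.a_ne hM (smul_left_cancel F.y (show F.y • F.a = F.y • F.T from h))

theorem b_ne (hM : Cfsg.IsM11 G) : F.b ≠ F.T := fun h => by
  have h' := F.smul_b
  rw [h] at h'
  exact F.a_ne hM h'

theorem triple (hM : Cfsg.IsM11 G) {U : Sylow 3 G} (hU : Inverts U F.c) :
    U = F.T ∨ U = F.a ∨ U = F.b := by
  have : Fintype (Sylow 3 G) := Fintype.ofFinite _
  have hcard : (Finset.univ.filter fun U : Sylow 3 G => Inverts U F.c).card = 3 := by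
    rw [← Fintype.card_subtype, ← Nat.card_eq_fintype_card,
      card_inverted hM (F.hc.orderOf_eq_two hM)]
  have hsub : ({F.T, F.a, F.b} : Finset (Sylow 3 G)) ⊆
      Finset.univ.filter fun U : Sylow 3 G => Inverts U F.c := by
    intro V hV
    simp only [Finset.mem_insert, Finset.mem_singleton] at hV
    rw [Finset.mem_filter]
    rcases hV with rfl | rfl | rfl
    · exact ⟨Finset.mem_univ _, F.hc⟩
    · exact ⟨Finset.mem_univ _, F.inverts_a⟩
    · exact ⟨Finset.mem_univ _, F.inverts_b⟩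
  have h3 : ({F.T, F.a, F.b} : Finset (Sylow 3 G)).card = 3 := by
    rw [Finset.card_insert_of_notMem (by simp [(F.a_ne hM).symm, (F.b_ne hM).symm]),
      Finset.card_pair (F.b_ne_a hM).symm]
  have := (Finset.eq_of_subset_of_card_le hsub (by rw [hcard, h3])).ge
    (Finset.mem_filter.2 ⟨Finset.mem_univ U, hU⟩)
  simpa using this

/-- The stabiliser of the base point and the involution. -/
def S : Subgroup G := sylN F.T ⊓ centralizer ({F.c} : Set G)

/-- The pointwise stabiliser of the triple. -/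
def K : Subgroup G := F.S ⊓ normalizer ((F.a : Subgroup G) : Set G)

theorem mem_S {g : G} : g ∈ F.S ↔ g • F.T = F.T ∧ g * F.c = F.c * g :=
  and_congr Sylow.smul_eq_iff_mem_normalizer.symm mem_centralizer_singleton_iff

theorem mem_K {g : G} : g ∈ F.K ↔ g • F.T = F.T ∧ g * F.c = F.c * g ∧ g • F.a = F.a := by
  show g ∈ F.S ∧ g ∈ normalizer ((F.a : Subgroup G) : Set G) ↔ _
  rw [F.mem_S]
  exact ⟨fun h => ⟨h.1.1, h.1.2, Sylow.smul_eq_iff_mem_normalizer.2 h.2⟩,
    fun h => ⟨⟨h.1, h.2.1⟩, Sylow.smul_eq_iff_mem_normalizer.1 h.2.2⟩⟩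

theorem smul_triple (hM : Cfsg.IsM11 G) {g : G} (hg : g * F.c = F.c * g) (U : Sylow 3 G)
    (hU : Inverts U F.c) : g • U = F.T ∨ g • U = F.a ∨ g • U = F.b :=
  F.triple hM (F.inverts_smul hU hg)

theorem K_smul_b (hM : Cfsg.IsM11 G) {g : G} (hg : g ∈ F.K) : g • F.b = F.b := by
  obtain ⟨h1, h2, h3⟩ := F.mem_K.1 hg
  rcases F.smul_triple hM h2 F.b F.inverts_b with h | h | h
  · exact absurd (smul_left_cancel g (h.trans h1.symm)) (F.b_ne hM)
  · exact absurd (smul_left_cancel g (h.trans h3.symm)) (F.b_ne_a hM)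
  · exact h

theorem c_mem_K (hM : Cfsg.IsM11 G) : F.c ∈ F.K :=
  F.mem_K.2 ⟨F.hc.smul_self hM, rfl, F.inverts_a.smul_self hM⟩

theorem card_S (hM : Cfsg.IsM11 G) : Nat.card F.S = 16 := by
  set C := centralizer ({F.c} : Set G) with hC
  have horb : Nat.card (orbit C F.T) = 3 := by
    have : orbit C F.T = {U : Sylow 3 G | Inverts U F.c} := by
      ext U
      refine ⟨?_, fun hU => ?_⟩
      · rintro ⟨g, rfl⟩
        exact F.inverts_smul F.hc (mem_centralizer_singleton_iff.1 g.2)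
      · rcases F.triple hM hU with rfl | rfl | rfl
        · exact mem_orbit_self _
        · exact ⟨⟨F.y, mem_centralizer_singleton_iff.2 F.hyc⟩, rfl⟩
        · exact ⟨⟨F.y, mem_centralizer_singleton_iff.2 F.hyc⟩ *
            ⟨F.y, mem_centralizer_singleton_iff.2 F.hyc⟩, mul_smul F.y F.y F.T⟩
    rw [this]
    exact card_inverted hM (F.hc.orderOf_eq_two hM)
  have hst : Nat.card (stabilizer C F.T) = Nat.card F.S :=
    Nat.card_congr ⟨fun g => ⟨g.1.1, F.mem_S.2 ⟨g.2, mem_centralizer_singleton_iff.1 g.1.2⟩⟩,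
      fun g => ⟨⟨g.1, g.2.2⟩, (F.mem_S.1 g.2).1⟩, fun g => rfl, fun g => rfl⟩
  have h := MulAction.index_stabilizer C F.T
  have h' := (stabilizer C F.T).card_mul_index
  rw [h, ← Nat.card_coe_set_eq, horb, hst, card_centralizer_involution hM
    (F.hc.orderOf_eq_two hM)] at h'
  omega

theorem pow_sixteen (hM : Cfsg.IsM11 G) {g : G} (hg : g ∈ F.S) : g ^ 16 = 1 :=
  orderOf_dvd_iff_pow_eq_one.1
    ((Subgroup.orderOf_dvd_natCard _ hg).trans (dvd_of_eq (F.card_S hM)))

theorem card_inf_centralizer (hM : Cfsg.IsM11 G) {T : Sylow 3 G} {t : G} (ht : t ∈ T) (ht1 : t ≠ 1)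
    {H : Subgroup G} (hH : H ≤ F.S) :
    Nat.card (H ⊓ centralizer ({t} : Set G) : Subgroup G) ∣ 2 := by
  have h1 : Nat.card (H ⊓ centralizer ({t} : Set G) : Subgroup G) ∣ 16 :=
    (card_dvd_of_le (inf_le_left.trans hH)).trans (dvd_of_eq (F.card_S hM))
  have h2 : Nat.card (H ⊓ centralizer ({t} : Set G) : Subgroup G) ∣ 18 := by
    rw [← (centralizer_three hM ht ht1).2]
    exact card_dvd_of_le inf_le_right
  exact (Nat.dvd_gcd h1 h2).trans (by norm_num)

theorem eq_one_or_c (hM : Cfsg.IsM11 G) {g : G} (hg : g ∈ F.S) (hgy : g * F.y = F.y * g) :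
    g = 1 ∨ g = F.c := by
  obtain ⟨U, hU⟩ := (IsPGroup.of_card (p := 3) (n := 1)
    (by rw [Nat.card_zpowers, F.hy, pow_one] : Nat.card (zpowers F.y) = 3 ^ 1)).exists_le_sylow
  have hy1 : F.y ≠ 1 := fun e => by
    have := F.hy
    rw [e, orderOf_one] at this
    omega
  set H := F.S ⊓ centralizer ({F.y} : Set G) with hHdef
  have hcH : F.c ∈ H :=
    ⟨(F.c_mem_K hM).1, mem_centralizer_singleton_iff.2 F.hyc.symm⟩
  have hle := Nat.le_of_dvd (by norm_num)
    (F.card_inf_centralizer hM (hU (mem_zpowers F.y)) hy1 (le_refl F.S))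
  by_contra hne
  push Not at hne
  have : Fintype H := Fintype.ofFinite _
  rw [Nat.card_eq_fintype_card, ← Finset.card_univ] at hle
  have h3 : 3 ≤ (Finset.univ : Finset H).card := by
    refine le_trans (le_of_eq ?_) (Finset.card_le_card (Finset.subset_univ
      ({1, ⟨F.c, hcH⟩, ⟨g, hg, mem_centralizer_singleton_iff.2 hgy⟩} : Finset H)))
    have hc1 : F.c ≠ 1 := (inv_facts (F.hc.orderOf_eq_two hM)).2.1
    rw [Finset.card_insert_of_notMem, Finset.card_pair]
    · simpa [Subtype.ext_iff] using hne.2.symm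
    · simp [Subtype.ext_iff, hne.1.symm, hc1.symm]
  omega

theorem y_conj_K (hM : Cfsg.IsM11 G) {k : G} (hk : k ∈ F.K) : F.y * k * F.y⁻¹ ∈ F.K := by
  obtain ⟨h1, h2, h3⟩ := F.mem_K.1 hk
  refine F.mem_K.2 ⟨?_, ?_, ?_⟩
  · rw [← F.smul_b, ← mul_smul, inv_mul_cancel_right, mul_smul, F.K_smul_b hM hk]
  · have e : Commute F.y F.c := F.hyc
    exact ((e.mul_left h2).mul_left e.inv_left).eq
  · rw [a, ← mul_smul, inv_mul_cancel_right, mul_smul, h1]

theorem exists_swap (hM : Cfsg.IsM11 G) : ∃ s ∈ F.S, s • F.a = F.b ∧ s • F.b = F.a := by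
  obtain ⟨s, hs, hsa⟩ : ∃ s ∈ F.S, s • F.a = F.b := by
    by_contra hno
    push Not at hno
    have hfix : ∀ s ∈ F.S, s ∈ F.K := fun s hs => by
      obtain ⟨h1, h2⟩ := F.mem_S.1 hs
      rcases F.smul_triple hM h2 F.a F.inverts_a with h | h | h
      · exact absurd (smul_left_cancel s (h.trans h1.symm)) (F.a_ne hM)
      · exact F.mem_K.2 ⟨h1, h2, h⟩
      · exact absurd h (hno s hs)
    have hKS : F.K = F.S := le_antisymm inf_le_left hfix
    have hQ : IsPGroup 3 (zpowers F.y) :=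
      IsPGroup.of_card (n := 1) (by rw [Nat.card_zpowers, F.hy, pow_one])
    have hmod := card_modEq_conj hQ (F.S : Set G) fun k hk x hx => by
      rw [SetLike.mem_coe] at hx ⊢
      rw [← hKS] at hx ⊢
      rw [mem_zpowers_iff_mem_range_orderOf, Finset.mem_image] at hk
      obtain ⟨i, -, rfl⟩ := hk
      have hmem : ∀ n : ℕ, F.y ^ n * x * (F.y ^ n)⁻¹ ∈ F.K := by
        intro n
        induction n with
        | zero => simpa using hx
        | succ n ih =>
          have := F.y_conj_K hM ih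
          rwa [pow_succ', mul_inv_rev, show F.y * F.y ^ n * x * ((F.y ^ n)⁻¹ * F.y⁻¹) =
            F.y * (F.y ^ n * x * (F.y ^ n)⁻¹) * F.y⁻¹ by group]
      exact hmem i
    have hset : {s : G | s ∈ (F.S : Set G) ∧ ∀ k ∈ zpowers F.y, k * s = s * k} = {1, F.c} := by
      ext s
      constructor
      · rintro ⟨hsS, hk⟩
        exact (F.eq_one_or_c hM hsS (hk _ (mem_zpowers _)).symm).imp id Set.mem_singleton_iff.2
      · rintro (rfl | rfl)
        · exact ⟨one_mem _, fun k _ => by simp⟩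
        · refine ⟨(F.c_mem_K hM).1, ?_⟩
          rintro _ ⟨i, rfl⟩
          exact Commute.zpow_left F.hyc i
    rw [hset] at hmod
    have h16 : Nat.card (F.S : Set G) = 16 := F.card_S hM
    have h2 : Nat.card ({1, F.c} : Set G) = 2 := by
      rw [Nat.card_coe_set_eq, Set.ncard_pair (inv_facts (F.hc.orderOf_eq_two hM)).2.1.symm]
    rw [h16, h2] at hmod
    exact absurd hmod (by decide)
  refine ⟨s, hs, hsa, ?_⟩
  obtain ⟨h1, h2⟩ := F.mem_S.1 hs
  rcases F.smul_triple hM h2 F.b F.inverts_b with h | h | h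
  · exact absurd (smul_left_cancel s (h.trans h1.symm)) (F.b_ne hM)
  · exact h
  · exact absurd (smul_left_cancel s (h.trans hsa.symm)) (F.b_ne_a hM)

theorem card_K (hM : Cfsg.IsM11 G) : Nat.card F.K = 8 := by
  obtain ⟨s, hs, hsa, -⟩ := F.exists_swap hM
  have horb : orbit F.S F.a = {F.a, F.b} := by
    ext U
    constructor
    · rintro ⟨⟨g, hg⟩, rfl⟩
      obtain ⟨h1, h2⟩ := F.mem_S.1 hg
      rcases F.smul_triple hM h2 F.a F.inverts_a with h | h | h
      · exact absurd (smul_left_cancel g (h.trans h1.symm)) (F.a_ne hM)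
      · exact Or.inl h
      · exact Or.inr h
    · rintro (rfl | rfl)
      · exact mem_orbit_self _
      · exact ⟨⟨s, hs⟩, hsa⟩
  have hst : Nat.card (stabilizer F.S F.a) = Nat.card F.K :=
    Nat.card_congr ⟨fun g => ⟨g.1.1, g.1.2, Sylow.smul_eq_iff_mem_normalizer.1 g.2⟩,
      fun g => ⟨⟨g.1, g.2.1⟩, (F.mem_K.1 g.2).2.2⟩, fun g => rfl, fun g => rfl⟩
  have h' := (stabilizer F.S F.a).card_mul_index
  rw [MulAction.index_stabilizer, horb, Set.ncard_pair (F.b_ne_a hM).symm, hst, F.card_S hM] at h'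
  omega

/-- Commuting non-central involutions of `S` agree up to the central one. -/
theorem eq_or_eq_mul (hM : Cfsg.IsM11 G) {r r' : G} (hr : r ∈ F.S) (hr' : r' ∈ F.S) (h2 : r * r = 1)
    (hr1 : r ≠ 1) (hrc : r ≠ F.c) (hr'1 : r' ≠ 1) (h : r * r' = r' * r) : r' = r ∨ r' = r * F.c ∨ r' = F.c := by
  have hnI : ¬ Inverts F.T r := fun hI => by
    have ha := (inverts_iff hM F.hc r).1 hI
    have hcomm : Commute F.c (F.c⁻¹ * r) :=
      ((Commute.refl F.c).inv_right).mul_right (mem_centralizer_singleton_iff.1 hr.2).symm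
    exact hrc (inv_mul_eq_one.1 (F.hc.eq_one_of_commute hM ha hcomm)).symm
  obtain ⟨t, ht, ht1, hrt⟩ := commutes_of_not_inverts hM hr.1 h2 hnI
  have ho := orderOf_eq_three hM ht ht1
  -- only one nontrivial element of `S` commutes with `t`
  have huniq : ∀ g ∈ F.S, g * t = t * g → g = 1 ∨ g = r := by
    intro g hg hgt
    by_contra hne
    push Not at hne
    set H := F.S ⊓ centralizer ({t} : Set G) with hHdef
    have hle := Nat.le_of_dvd (by norm_num) (F.card_inf_centralizer hM ht ht1 (le_refl F.S))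
    have : Fintype H := Fintype.ofFinite _
    rw [Nat.card_eq_fintype_card, ← Finset.card_univ] at hle
    have h3 : 3 ≤ (Finset.univ : Finset H).card := by
      refine le_trans (le_of_eq ?_) (Finset.card_le_card (Finset.subset_univ
        ({1, ⟨r, hr, mem_centralizer_singleton_iff.2 hrt⟩,
          ⟨g, hg, mem_centralizer_singleton_iff.2 hgt⟩} : Finset H)))
      rw [Finset.card_insert_of_notMem, Finset.card_pair]
      · simpa [Subtype.ext_iff] using hne.2.symm
      · simp [Subtype.ext_iff, hne.1.symm, hr1.symm]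
    omega
  have hF : r' * t * r'⁻¹ ∈ (F.T : Subgroup G) ⊓ centralizer ({r} : Set G) := by
    refine ⟨(Subgroup.mem_normalizer_iff.1 hr'.1 t).1 ht, mem_centralizer_singleton_iff.2 ?_⟩
    have hrr' : Commute r r' := h
    exact ((hrr'.mul_right hrt).mul_right hrr'.inv_right).eq.symm
  have hF3 : Nat.card ((F.T : Subgroup G) ⊓ centralizer ({r} : Set G) : Subgroup G) = 3 := by
    have hd : Nat.card ((F.T : Subgroup G) ⊓ centralizer ({r} : Set G) : Subgroup G) ∈
        Nat.divisors 9 := Nat.mem_divisors.2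
      ⟨(card_dvd_of_le inf_le_left).trans (dvd_of_eq (card_three_sylow hM F.T)), by norm_num⟩
    rw [show Nat.divisors 9 = {1, 3, 9} by decide] at hd
    simp only [Finset.mem_insert, Finset.mem_singleton] at hd
    rcases hd with hd | hd | hd
    · exfalso
      have htF : t ∈ (F.T : Subgroup G) ⊓ centralizer ({r} : Set G) :=
        ⟨ht, mem_centralizer_singleton_iff.2 hrt.symm⟩
      rw [Subgroup.eq_bot_of_card_eq _ hd, mem_bot] at htF
      exact ht1 htF
    · exact hd
    · exfalso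
      have heq := Subgroup.eq_of_le_of_card_ge
        (inf_le_left : (F.T : Subgroup G) ⊓ centralizer ({r} : Set G) ≤ F.T)
        (by rw [hd, card_three_sylow hM F.T])
      have hrT : r ∈ sylC F.T := mem_centralizer_iff.2 fun x hx =>
        mem_centralizer_singleton_iff.1 (heq.symm ▸ hx :
          x ∈ (F.T : Subgroup G) ⊓ centralizer ({r} : Set G)).2
      rw [sylC_eq hM] at hrT
      exact hr1 (pow_eq_of_coprime (pow_nine_of_mem hM F.T hrT) (F.pow_sixteen hM hr) (by norm_num))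
  rw [zpowers_eq_of_mem hF3
    (show t ∈ (F.T : Subgroup G) ⊓ centralizer ({r} : Set G) from
      ⟨ht, mem_centralizer_singleton_iff.2 hrt.symm⟩) ht1,
    mem_zpowers_iff_mem_range_orderOf, ho, Finset.mem_image] at hF
  obtain ⟨i, hi, e⟩ := hF
  rw [Finset.mem_range] at hi
  interval_cases i
  · rw [pow_zero, eq_comm, conj_eq_one_iff] at e
    exact absurd e ht1
  · rw [pow_one] at e
    rcases huniq r' hr' (mul_inv_eq_iff_eq_mul.1 e.symm) with h' | h'
    · exact absurd h' hr'1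
    · exact Or.inl h'
  · have hci : F.c * F.c = 1 := F.hc.sq hM
    have ht2 : t ^ 2 = t⁻¹ := eq_inv_of_mul_eq_one_left
      (by rw [← pow_succ]; exact orderOf_dvd_iff_pow_eq_one.1 (dvd_of_eq ho))
    have hrc' : r' * F.c * t * (r' * F.c)⁻¹ = t := by
      calc r' * F.c * t * (r' * F.c)⁻¹ = r' * (F.c * t * F.c⁻¹) * r'⁻¹ := by group
        _ = (r' * t * r'⁻¹)⁻¹ := by rw [F.hc t ht]; group
        _ = t := by rw [← e, ht2, inv_inv]
    rcases huniq (r' * F.c) (F.S.mul_mem hr' (F.c_mem_K hM).1) (mul_inv_eq_iff_eq_mul.1 hrc') with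
      h' | h'
    · refine Or.inr (Or.inr ?_)
      rw [← inv_eq_of_mul_eq_one_right hci]
      exact eq_inv_of_mul_eq_one_left h'
    · refine Or.inr (Or.inl ?_)
      rw [← h', mul_assoc, hci, mul_one]

theorem K_involution (hM : Cfsg.IsM11 G) {r : G} (hr : r ∈ F.K) (h2 : r * r = 1) (hr1 : r ≠ 1) :
    r = F.c := by
  by_contra hrc
  have hyr : ∀ x ∈ F.K, x * x = 1 → x ≠ 1 → x ≠ F.c →
      (F.y * x * F.y⁻¹ ≠ x ∧ F.y * x * F.y⁻¹ ≠ x * F.c ∧ F.y * x * F.y⁻¹ ≠ F.c ∧
        F.y * x * F.y⁻¹ ≠ 1 ∧ F.y * x * F.y⁻¹ * (F.y * x * F.y⁻¹) = 1) := by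
    intro x hx hx2 hx1 hxc
    have h1 : F.y * x * F.y⁻¹ ≠ x := fun e =>
      (F.eq_one_or_c hM hx.1 (mul_inv_eq_iff_eq_mul.1 e).symm).elim hx1 hxc
    refine ⟨h1, fun e => h1 ?_, fun e => hxc ?_, fun e => hx1 (conj_eq_one_iff.1 e), ?_⟩
    · have e2 : F.y * (F.y * x * F.y⁻¹) * F.y⁻¹ = x := by
        rw [e]
        calc F.y * (x * F.c) * F.y⁻¹ = (F.y * x * F.y⁻¹) * (F.y * F.c * F.y⁻¹) := by group
          _ = x * F.c * F.c := by rw [e, F.hyc, mul_inv_cancel_right]
          _ = x := by rw [mul_assoc, F.hc.sq hM, mul_one]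
      calc F.y * x * F.y⁻¹ = F.y * (F.y * (F.y * x * F.y⁻¹) * F.y⁻¹) * F.y⁻¹ := by rw [e2]
        _ = F.y ^ 3 * x * (F.y ^ 3)⁻¹ := by simp [pow_succ, mul_assoc]
        _ = x := by rw [F.pow_three]; group
    · have : F.y * x * F.y⁻¹ = F.y * F.c * F.y⁻¹ := by rw [e, F.hyc, mul_inv_cancel_right]
      exact mul_left_cancel (mul_right_cancel this)
    · rw [show F.y * x * F.y⁻¹ * (F.y * x * F.y⁻¹) = F.y * (x * x) * F.y⁻¹ by group, hx2]
      group
  obtain ⟨r2, hr2⟩ : ∃ r2, r2 = F.y * r * F.y⁻¹ := ⟨_, rfl⟩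
  obtain ⟨r3, hr3⟩ : ∃ r3, r3 = F.y * r2 * F.y⁻¹ := ⟨_, rfl⟩
  have hr2K : r2 ∈ F.K := hr2 ▸ F.y_conj_K hM hr
  have hr3K : r3 ∈ F.K := hr3 ▸ F.y_conj_K hM hr2K
  obtain ⟨a1, a2, a3, a4, a5⟩ := hyr r hr h2 hr1 hrc
  rw [← hr2] at a1 a2 a3 a4 a5
  obtain ⟨b1, b2, b3, b4, b5⟩ := hyr r2 hr2K a5 a4 a3
  rw [← hr3] at b1 b2 b3 b4 b5
  obtain ⟨c1, c2, c3, c4, -⟩ := hyr r3 hr3K b5 b4 b3
  have hback : F.y * r3 * F.y⁻¹ = r := by
    rw [hr3, hr2]
    calc _ = F.y ^ 3 * r * (F.y ^ 3)⁻¹ := by simp [pow_succ, mul_assoc]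
      _ = r := by rw [F.pow_three]; group
  rw [hback] at c1 c2
  have : Fintype G := Fintype.ofFinite G
  have hcc : F.c * F.c = 1 := F.hc.sq hM
  have hcomm : ∀ x ∈ F.K, x * F.c = F.c * x := fun x hx => (F.mem_K.1 hx).2.1
  have hsq : ∀ x ∈ F.K, x * x = 1 → x * F.c * (x * F.c) = 1 := fun x hx hx2 => by
    rw [mul_assoc, ← mul_assoc F.c, ← hcomm x hx, mul_assoc x F.c F.c, hcc, mul_one, hx2]
  have hcancel : ∀ x y : G, x = y * F.c → y = x * F.c := fun x y e => by
    rw [e, mul_assoc, hcc, mul_one]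
  have hcc' : ∀ x, x ≠ F.c → x * F.c ≠ 1 := fun x hx e => hx (by
    rw [← inv_eq_of_mul_eq_one_right hcc]; exact eq_inv_of_mul_eq_one_left e)
  have hcm : ∀ x, x ≠ 1 → x * F.c ≠ F.c := fun x hx e => hx (mul_eq_right.1 e)
  have hci : ∀ x, x * F.c ≠ x := fun x e =>
    (inv_facts (F.hc.orderOf_eq_two hM)).2.1 (mul_eq_left.1 e)
  let L : Finset G := {1, F.c, r, r * F.c, r2, r2 * F.c, r3, r3 * F.c}
  have hL : L.card = 8 := by
    have hnd : ([1, F.c, r, r * F.c, r2, r2 * F.c, r3, r3 * F.c] : List G).Nodup := by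
      have hc1 : (1 : G) ≠ F.c := (inv_facts (F.hc.orderOf_eq_two hM)).2.1.symm
      have m : ∀ x y : G, x ≠ y → x * F.c ≠ y * F.c := fun x y h e => h (mul_right_cancel e)
      simp only [List.nodup_cons, List.mem_cons, List.not_mem_nil, or_false, not_or,
        List.nodup_nil, and_true, not_false_eq_true]
      exact ⟨⟨hc1, hr1.symm, (hcc' r hrc).symm, a4.symm, (hcc' r2 a3).symm, b4.symm,
        (hcc' r3 b3).symm⟩,
        ⟨fun e => hrc e.symm, (hcm r hr1).symm, a3.symm, (hcm r2 a4).symm, b3.symm,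
          (hcm r3 b4).symm⟩,
        ⟨(hci r).symm, a1.symm, fun e => a2 (hcancel r r2 e), fun e => c1 e,
          fun e => c2 e⟩,
        ⟨a2.symm, (m r r2 a1.symm), fun e => c2 (hcancel r3 r e.symm), m r r3 c1⟩,
        ⟨(hci r2).symm, b1.symm, fun e => b2 (hcancel r2 r3 e)⟩,
        ⟨b2.symm, m r2 r3 b1.symm⟩, (hci r3).symm⟩
    rw [show L = [1, F.c, r, r * F.c, r2, r2 * F.c, r3, r3 * F.c].toFinset by ext; simp [L],
      List.toFinset_card_of_nodup hnd]
    rfl
  have hLK : L ⊆ Finset.univ.filter fun x => x ∈ F.K ∧ x * x = 1 := by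
    intro x hx
    simp only [L, Finset.mem_insert, Finset.mem_singleton] at hx
    refine Finset.mem_filter.2 ⟨Finset.mem_univ _, ?_⟩
    have hcK := F.c_mem_K hM
    rcases hx with rfl | rfl | rfl | rfl | rfl | rfl | rfl | rfl
    · exact ⟨one_mem _, mul_one _⟩
    · exact ⟨hcK, hcc⟩
    · exact ⟨hr, h2⟩
    · exact ⟨F.K.mul_mem hr hcK, hsq r hr h2⟩
    · exact ⟨hr2K, a5⟩
    · exact ⟨F.K.mul_mem hr2K hcK, hsq r2 hr2K a5⟩
    · exact ⟨hr3K, b5⟩
    · exact ⟨F.K.mul_mem hr3K hcK, hsq r3 hr3K b5⟩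
  have hall : ∀ x ∈ F.K, x * x = 1 := by
    intro x hx
    have hsub : (Finset.univ.filter fun x => x ∈ F.K ∧ x * x = 1) ⊆
        Finset.univ.filter fun x => x ∈ F.K := fun y hy =>
      Finset.mem_filter.2 ⟨Finset.mem_univ _, (Finset.mem_filter.1 hy).2.1⟩
    have hKc : (Finset.univ.filter fun x => x ∈ F.K).card = 8 := by
      rw [← Fintype.card_subtype, ← Nat.card_eq_fintype_card]; exact F.card_K hM
    have heq := Finset.eq_of_subset_of_card_le hsub
      (by rw [hKc, ← hL]; exact Finset.card_le_card hLK)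
    exact (Finset.mem_filter.1 (heq.ge (Finset.mem_filter.2 ⟨Finset.mem_univ _, hx⟩))).2.2
  have hab : r * r2 = r2 * r := by
    calc r * r2 = r⁻¹ * r2⁻¹ := by
          rw [inv_eq_of_mul_eq_one_right h2, inv_eq_of_mul_eq_one_right a5]
      _ = (r2 * r)⁻¹ := (mul_inv_rev _ _).symm
      _ = r2 * r := inv_eq_of_mul_eq_one_right (hall _ (F.K.mul_mem hr2K hr))
  rcases F.eq_or_eq_mul hM hr.1 hr2K.1 h2 hr1 hrc a4 hab with e | e | e
  · exact a1 e
  · exact a2 e
  · exact a3 e

/-- The pointwise stabiliser of the triple acts regularly on the nontrivial elements of `T`. -/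
theorem K_free (hM : Cfsg.IsM11 G) {k t : G} (hk : k ∈ F.K) (ht : t ∈ F.T) (ht1 : t ≠ 1)
    (h : k * t = t * k) : k = 1 := by
  by_contra hk1
  have hd := F.card_inf_centralizer hM ht ht1 (inf_le_left : F.K ≤ F.S)
  have hmem : k ∈ F.K ⊓ centralizer ({t} : Set G) := ⟨hk, mem_centralizer_singleton_iff.2 h⟩
  have h2 : k * k = 1 := by
    rw [← _root_.sq]
    exact orderOf_dvd_iff_pow_eq_one.1 ((Subgroup.orderOf_dvd_natCard _ hmem).trans hd)
  rw [F.K_involution hM hk h2 hk1] at h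
  exact ht1 (F.hc.eq_one_of_commute hM ht h)

theorem K_transitive (hM : Cfsg.IsM11 G) {t t' : G} (ht : t ∈ F.T) (ht1 : t ≠ 1) (ht' : t' ∈ F.T)
    (ht1' : t' ≠ 1) : ∃ k ∈ F.K, k * t * k⁻¹ = t' := by
  have : Fintype F.K := Fintype.ofFinite _
  let f : F.K → {x : G // x ∈ F.T ∧ x ≠ 1} := fun k => ⟨k.1 * t * k.1⁻¹,
    (Subgroup.mem_normalizer_iff.1 k.2.1.1 t).1 ht, fun e => ht1 (conj_eq_one_iff.1 e)⟩
  have hinj : Function.Injective f := by
    intro k l e
    have e' : k.1 * t * k.1⁻¹ = l.1 * t * l.1⁻¹ := congrArg Subtype.val e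
    have h1 : (l.1⁻¹ * k.1) * t = t * (l.1⁻¹ * k.1) := by
      calc (l.1⁻¹ * k.1) * t = l.1⁻¹ * (k.1 * t * k.1⁻¹) * k.1 := by group
        _ = t * (l.1⁻¹ * k.1) := by rw [e']; group
    exact Subtype.ext (inv_mul_eq_one.1
      (F.K_free hM (F.K.mul_mem (F.K.inv_mem l.2) k.2) ht ht1 h1)).symm
  have hcard : Nat.card {x : G // x ∈ F.T ∧ x ≠ 1} = 8 := by
    have : Nat.card {x : G // x ∈ F.T ∧ x ≠ 1} = (((F.T : Subgroup G) : Set G) \ {1}).ncard :=
      Nat.card_coe_set_eq _
    rw [this, Set.ncard_diff_singleton_of_mem (one_mem (F.T : Subgroup G)), ← Nat.card_coe_set_eq]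
    exact congrArg (· - 1) (card_three_sylow hM F.T)
  have hbij : Function.Bijective f :=
    (Nat.bijective_iff_injective_and_card f).2 ⟨hinj, by rw [F.card_K hM, hcard]⟩
  obtain ⟨k, hk⟩ := hbij.2 ⟨t', ht', ht1'⟩
  exact ⟨k.1, k.2, congrArg Subtype.val hk⟩

end Frame

end CfsgLib.Mathieu.Order7920
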