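import Cfsg.Agent.Lib.Mathieu.Order7920.Five

/-!
Simple groups of order 7920: the involutions that are squares form one class, with centraliser of
order 16 or 48.
-/

set_option autoImplicit false

namespace CfsgLib.Mathieu.Order7920

open Subgroup MulAction
open scoped Classical

universe u

variable {G : Type u} [Group G] [Finite G]

local instance fact_prime_five'' : Fact (Nat.Prime 5) := ⟨by norm_num⟩

/-- An involution that is a square. -/
def IsSquareInv (v : G) : Prop := orderOf v = 2 ∧ ∃ g : G, g ^ 2 = v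

omit [Finite G] in
theorem inv_facts {w : G} (hw : orderOf w = 2) : w * w = 1 ∧ w ≠ 1 ∧ w⁻¹ = w := by
  have h : w * w = 1 := by rw [← sq, ← hw]; exact pow_orderOf_eq_one w
  exact ⟨h, fun e => by rw [e, orderOf_one] at hw; omega, inv_eq_of_mul_eq_one_right h⟩

theorem not_dvd_centralizer_involution (hM : Cfsg.IsM11 G) {w : G} (hw : orderOf w = 2) :
    ¬ 5 ∣ Nat.card (centralizer ({w} : Set G)) ∧ ¬ 11 ∣ Nat.card (centralizer ({w} : Set G)) := by
  have key : ∀ a : G, (centralizer ({a} : Set G) = zpowers a) → w * a = a * w → orderOf w ∣ orderOf a :=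
    fun a ha h => by
      have hmem : w ∈ centralizer ({a} : Set G) := mem_centralizer_singleton_iff.2 h
      rw [ha] at hmem
      have := Subgroup.orderOf_dvd_natCard _ hmem
      rwa [Nat.card_zpowers] at this
  constructor
  · intro h
    obtain ⟨⟨a, ha⟩, hao⟩ := exists_prime_orderOf_dvd_card' 5 h
    rw [orderOf_mk] at hao
    have := key a (centralizer_orderOf_five hM hao) (mem_centralizer_singleton_iff.1 ha).symm
    rw [hw, hao] at this
    omega
  · intro h
    have : Fact (Nat.Prime 11) := ⟨by norm_num⟩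
    obtain ⟨⟨a, ha⟩, hao⟩ := exists_prime_orderOf_dvd_card' 11 h
    rw [orderOf_mk] at hao
    have := key a (centralizer_orderOf_eleven hM hao) (mem_centralizer_singleton_iff.1 ha).symm
    rw [hw, hao] at this
    omega

theorem centralizer_involution_dvd (hM : Cfsg.IsM11 G) {w : G} (hw : orderOf w = 2) :
    Nat.card (centralizer ({w} : Set G)) ∣ 144 :=
  pow_fiveEleven_card hM _ (not_dvd_centralizer_involution hM hw).1
    (not_dvd_centralizer_involution hM hw).2

/-- An involution normalising a subgroup of order five inverts it. -/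
theorem invert_of_normalizing (hM : Cfsg.IsM11 G) {w b : G} (hw : orderOf w = 2) (hb : orderOf b = 5)
    (h : w * b * w⁻¹ ∈ zpowers b) : w * b * w⁻¹ = b⁻¹ := by
  obtain ⟨h2, -, hwi⟩ := inv_facts hw
  have hb5 : b ^ 5 = 1 := by rw [← hb]; exact pow_orderOf_eq_one b
  rw [mem_zpowers_iff_mem_range_orderOf, hb, Finset.mem_image] at h
  obtain ⟨i, hi, he⟩ := h
  have h3 : b ^ (i * i) = b := by
    calc b ^ (i * i) = (b ^ i) ^ i := pow_mul b i i
      _ = (w * b * w⁻¹) ^ i := by rw [he]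
      _ = w * b ^ i * w⁻¹ := conj_pow
      _ = w * (w * b * w⁻¹) * w⁻¹ := by rw [he]
      _ = (w * w) * b * (w * w)⁻¹ := by group
      _ = b := by rw [h2]; group
  conv_rhs at h3 => rw [← pow_one b]
  rw [pow_eq_pow_iff_modEq, hb] at h3
  rw [Finset.mem_range] at hi
  interval_cases i
  · exact absurd h3 (by decide)
  · exfalso
    rw [pow_one] at he
    have hmem : w ∈ centralizer ({b} : Set G) :=
      mem_centralizer_singleton_iff.2 (mul_inv_eq_iff_eq_mul.1 he.symm)
    rw [centralizer_orderOf_five hM hb] at hmem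
    have := Subgroup.orderOf_dvd_natCard _ hmem
    rw [hw, Nat.card_zpowers, hb] at this
    omega
  · exact absurd h3 (by decide)
  · exact absurd h3 (by decide)
  · rw [← he, eq_comm, inv_eq_iff_mul_eq_one, ← pow_succ', hb5]

/-- The conjugates of an involution inverting `b`: `b ^ j * w * b ^ (-j)`. -/
theorem exists_conj_of_invert (hM : Cfsg.IsM11 G) {w w' b : G} (hw : orderOf w = 2)
    (hb : orderOf b = 5) (h : w * b * w⁻¹ = b⁻¹) (h' : w' * b * w'⁻¹ = b⁻¹) :
    ∃ j : ℕ, w' = w * b ^ j ∧ IsConj w w' := by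
  obtain ⟨h2, -, hwi⟩ := inv_facts hw
  have hwb : w * b⁻¹ * w⁻¹ = b := by rw [← conj_inv, h, inv_inv]
  have hmem : w * w' ∈ centralizer ({b} : Set G) := by
    refine mem_centralizer_singleton_iff.2 (mul_inv_eq_iff_eq_mul.1 ?_)
    calc w * w' * b * (w * w')⁻¹ = w * (w' * b * w'⁻¹) * w⁻¹ := by group
      _ = b := by rw [h', hwb]
  rw [centralizer_orderOf_five hM hb, mem_zpowers_iff_mem_range_orderOf, hb, Finset.mem_image] at hmem
  obtain ⟨j, -, hj⟩ := hmem
  have hj' : w' = w * b ^ j := by rw [hj, ← mul_assoc, h2, one_mul]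
  refine ⟨j, hj', ?_⟩
  -- conjugate `w` by `b ^ k` with `2 k = -j`
  refine isConj_iff.2 ⟨b ^ (2 * j), ?_⟩
  have hswap : b ^ (2 * j) * w = w * (b ^ (2 * j))⁻¹ := by
    have h1 : w * b ^ (2 * j) * w⁻¹ = (b ^ (2 * j))⁻¹ := by rw [← conj_pow, h, inv_pow]
    calc b ^ (2 * j) * w = (w * w) * b ^ (2 * j) * w := by rw [h2, one_mul]
      _ = w * (w * b ^ (2 * j) * w⁻¹) := by rw [hwi]; group
      _ = w * (b ^ (2 * j))⁻¹ := by rw [h1]
  rw [hswap, hj', mul_assoc]
  congr 1
  have hb5 : b ^ 5 = 1 := by rw [← hb]; exact pow_orderOf_eq_one b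
  rw [← mul_inv_rev, inv_eq_iff_mul_eq_one, ← pow_add, ← pow_add,
    show 2 * j + 2 * j + j = 5 * j by ring, pow_mul, hb5, one_pow]

theorem isConj_of_normalizing (hM : Cfsg.IsM11 G) {w w' : G} (hw : orderOf w = 2)
    (hw' : orderOf w' = 2) {R R' : Sylow 5 G} (h : w • R = R) (h' : w' • R' = R') : IsConj w w' := by
  obtain ⟨g, rfl⟩ := MulAction.exists_smul_eq G R R'
  refine IsConj.trans ?_ (isConj_iff.2 ⟨g, show g * (g⁻¹ * w' * g) * g⁻¹ = w' by group⟩)
  have hfix : (g⁻¹ * w' * g) • R = R := by rw [mul_smul, mul_smul, h', inv_smul_smul]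
  have ho : orderOf (g⁻¹ * w' * g) = 2 := by
    rw [← hw', show g⁻¹ * w' * g = MulAut.conj g⁻¹ w' by simp, MulEquiv.orderOf_eq]
  obtain ⟨b, hb, hbo, hgen⟩ := exists_ne_one (card_sylow_five_eq hM R)
  have key : ∀ x : G, orderOf x = 2 → x • R = R → x * b * x⁻¹ = b⁻¹ := fun x hx hxR => by
    refine invert_of_normalizing hM hx hbo ?_
    rw [← hgen]
    exact (Subgroup.mem_normalizer_iff.1 (Sylow.smul_eq_iff_mem_normalizer.1 hxR) b).1 hb
  exact (exists_conj_of_invert hM hw hbo (key w hw h) (key _ ho hfix)).choose_spec.2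

theorem conjCount_normalizer_five (hM : Cfsg.IsM11 G) {w : G} (hw : orderOf w = 2) {R : Sylow 5 G}
    (hR : w • R = R) : conjCount (normalizer ((R : Subgroup G) : Set G)) w = 5 := by
  obtain ⟨h2, hw1, hwi⟩ := inv_facts hw
  obtain ⟨b, hb, hbo, hgen⟩ := exists_ne_one (card_sylow_five_eq hM R)
  have key : ∀ x : G, orderOf x = 2 → x ∈ normalizer ((R : Subgroup G) : Set G) →
      x * b * x⁻¹ = b⁻¹ := fun x hx hxR => by
    refine invert_of_normalizing hM hx hbo ?_
    rw [← hgen]
    exact (Subgroup.mem_normalizer_iff.1 hxR b).1 hb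
  have hwN := Sylow.smul_eq_iff_mem_normalizer.1 hR
  have hrange : ∀ k : (R : Subgroup G), w * (k : G) ∈ normalizer ((R : Subgroup G) : Set G) ∧
      IsConj w (w * (k : G)) := by
    intro k
    refine ⟨mul_mem hwN (le_normalizer k.2), ?_⟩
    have h' : w * (k : G) * b * (w * (k : G))⁻¹ = b⁻¹ := by
      have hk : (k : G) * b * (k : G)⁻¹ = b := by
        obtain ⟨i, hi⟩ := (hgen ▸ k.2 : (k : G) ∈ zpowers b)
        simp only at hi
        rw [← hi]
        group
      calc w * (k : G) * b * (w * (k : G))⁻¹ = w * ((k : G) * b * (k : G)⁻¹) * w⁻¹ := by group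
        _ = b⁻¹ := by rw [hk, key w hw hwN]
    exact (exists_conj_of_invert hM hw hbo (key w hw hwN) h').choose_spec.2
  refine ((Nat.card_eq_of_bijective (fun k : (R : Subgroup G) =>
    (⟨w * (k : G), hrange k⟩ : {h : G // h ∈ normalizer ((R : Subgroup G) : Set G) ∧ IsConj w h}))
    ⟨?_, ?_⟩).symm).trans (card_sylow_five_eq hM R)
  · exact fun k k' e => Subtype.ext (mul_left_cancel (congrArg Subtype.val e))
  · rintro ⟨x, hx, hc⟩
    have hxo : orderOf x = 2 := by
      obtain ⟨g, rfl⟩ := isConj_iff.1 hc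
      rw [← MulAut.conj_apply, MulEquiv.orderOf_eq, hw]
    obtain ⟨j, hj, -⟩ := exists_conj_of_invert hM hw hbo (key w hw hwN) (key x hxo hx)
    exact ⟨⟨b ^ j, pow_mem hb j⟩, Subtype.ext hj.symm⟩

theorem centralizer_normalizing (hM : Cfsg.IsM11 G) {w : G} (hw : orderOf w = 2) {R : Sylow 5 G}
    (hR : w • R = R) :
    fixCount (G ⧸ normalizer ((R : Subgroup G) : Set G)) w * 4 =
        Nat.card (centralizer ({w} : Set G)) ∧
      (Nat.card (centralizer ({w} : Set G)) = 16 ∨ Nat.card (centralizer ({w} : Set G)) = 48) := by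
  have := hM.1
  obtain ⟨h2, hw1, hwi⟩ := inv_facts hw
  have hfix := fix_mul_card (normalizer ((R : Subgroup G) : Set G)) w
  rw [normalizer_five hM R, conjCount_normalizer_five hM hw hR] at hfix
  have hf4 : fixCount (G ⧸ normalizer ((R : Subgroup G) : Set G)) w * 4 =
      Nat.card (centralizer ({w} : Set G)) := by omega
  refine ⟨hf4, ?_⟩
  have hX : Nat.card (G ⧸ normalizer ((R : Subgroup G) : Set G)) = 396 :=
    R.card_eq_index_normalizer.symm.trans (sylow_five hM)
  have ⟨hdvd, hle⟩ := card_sub_fixCount (X := G ⧸ normalizer ((R : Subgroup G) : Set G))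
    (noncomm hM) (show w ^ 2 = 1 by rw [sq, h2])
  rw [hX] at hdvd hle
  set f := fixCount (G ⧸ normalizer ((R : Subgroup G) : Set G)) w with hfdef
  set C := Nat.card (centralizer ({w} : Set G)) with hCdef
  have h16 : 16 ∣ C := by omega
  have hC144 := centralizer_involution_dvd hM hw
  obtain ⟨m, hm⟩ := h16
  have hm9 : m ∈ Nat.divisors 9 := by
    rw [← hCdef, hm, show 144 = 16 * 9 by norm_num] at hC144
    exact Nat.mem_divisors.2 ⟨Nat.dvd_of_mul_dvd_mul_left (by norm_num) hC144, by norm_num⟩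
  rw [show Nat.divisors 9 = {1, 3, 9} by decide] at hm9
  simp only [Finset.mem_insert, Finset.mem_singleton] at hm9
  rcases hm9 with rfl | rfl | rfl
  · exact Or.inl hm
  · exact Or.inr hm
  exfalso
  -- `w * b` is a conjugate of `w` for each of the `|C(w)|` elements `b` of order 5 inverted by `w`
  obtain ⟨b, hb, hbo, hgen⟩ := exists_ne_one (card_sylow_five_eq hM R)
  let N := normalizer ((R : Subgroup G) : Set G)
  have hinv : ∀ q : {q : G ⧸ N // w • q = q}, ∀ i : Fin 4,
      orderOf (q.1.out * b ^ (i.1 + 1) * q.1.out⁻¹) = 5 ∧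
        w * (q.1.out * b ^ (i.1 + 1) * q.1.out⁻¹) * w⁻¹ =
          (q.1.out * b ^ (i.1 + 1) * q.1.out⁻¹)⁻¹ := by
    intro q i
    have hbi : orderOf (b ^ (i.1 + 1)) = 5 := by
      rw [orderOf_pow' b (by omega), hbo]
      have : Nat.gcd 5 (i.1 + 1) = 1 := (Nat.Prime.coprime_iff_not_dvd (by norm_num)).2
        (Nat.not_dvd_of_pos_of_lt (by omega) (by have := i.2; omega))
      rw [this, Nat.div_one]
    refine ⟨by rw [← MulAut.conj_apply, MulEquiv.orderOf_eq, hbi], ?_⟩
    have hq : q.1.out⁻¹ * w * q.1.out ∈ N := by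
      refine (mk_fixed_iff N w q.1.out).1 ?_
      rw [QuotientGroup.out_eq']
      exact q.2
    have ho : orderOf (q.1.out⁻¹ * w * q.1.out) = 2 := by
      rw [← hw, show q.1.out⁻¹ * w * q.1.out = MulAut.conj q.1.out⁻¹ w by simp, MulEquiv.orderOf_eq]
    have hmem : (q.1.out⁻¹ * w * q.1.out) * b ^ (i.1 + 1) * (q.1.out⁻¹ * w * q.1.out)⁻¹ ∈
        zpowers (b ^ (i.1 + 1)) := by
      rw [show zpowers (b ^ (i.1 + 1)) = (R : Subgroup G) from
        (zpowers_eq_of_mem (card_sylow_five_eq hM R) (pow_mem hb _)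
          fun e => by rw [e, orderOf_one] at hbi; omega).symm]
      exact (Subgroup.mem_normalizer_iff.1 hq _).1 (pow_mem hb _)
    have h := invert_of_normalizing hM ho hbi hmem
    calc w * (q.1.out * b ^ (i.1 + 1) * q.1.out⁻¹) * w⁻¹
        = q.1.out * ((q.1.out⁻¹ * w * q.1.out) * b ^ (i.1 + 1) * (q.1.out⁻¹ * w * q.1.out)⁻¹) *
            q.1.out⁻¹ := by group
      _ = (q.1.out * b ^ (i.1 + 1) * q.1.out⁻¹)⁻¹ := by rw [h, conj_inv]
  have hmem : ∀ q : {q : G ⧸ N // w • q = q}, ∀ i : Fin 4,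
      w * (q.1.out * b ^ (i.1 + 1) * q.1.out⁻¹) ∈ {x : G | IsConj w x} := by
    intro q i
    obtain ⟨hbo', hbi'⟩ := hinv q i
    set b' := q.1.out * b ^ (i.1 + 1) * q.1.out⁻¹
    have h' : w * b' * b' * (w * b')⁻¹ = b'⁻¹ := by
      calc w * b' * b' * (w * b')⁻¹ = w * b' * w⁻¹ := by group
        _ = b'⁻¹ := hbi'
    exact (exists_conj_of_invert hM hw hbo' hbi' h').choose_spec.2
  let φ : {q : G ⧸ N // w • q = q} × Fin 4 → {x : G | IsConj w x} := fun p =>
    ⟨_, hmem p.1 p.2⟩
  have hφ : Function.Injective φ := by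
    rintro ⟨q, i⟩ ⟨q', i'⟩ e
    have he : q.1.out * b ^ (i.1 + 1) * q.1.out⁻¹ = q'.1.out * b ^ (i'.1 + 1) * q'.1.out⁻¹ :=
      mul_left_cancel (congrArg Subtype.val e)
    have hne : b ^ (i.1 + 1) ≠ 1 := fun h => by
      have := orderOf_dvd_of_pow_eq_one h
      have h4 := i.2
      rw [hbo] at this
      have := Nat.le_of_dvd (by omega) this
      omega
    have hgR : q'.1.out⁻¹ * q.1.out ∈ N := by
      set g := q'.1.out⁻¹ * q.1.out with hg
      have hmem : g * b ^ (i.1 + 1) * g⁻¹ ∈ (R : Subgroup G) := by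
        have : g * b ^ (i.1 + 1) * g⁻¹ = b ^ (i'.1 + 1) := by
          calc g * b ^ (i.1 + 1) * g⁻¹ =
              q'.1.out⁻¹ * (q.1.out * b ^ (i.1 + 1) * q.1.out⁻¹) * q'.1.out := by rw [hg]; group
            _ = b ^ (i'.1 + 1) := by rw [he]; group
        rw [this]; exact pow_mem hb _
      have hgenb := zpowers_eq_of_mem (card_sylow_five_eq hM R) (pow_mem hb (i.1 + 1)) hne
      refine Sylow.smul_eq_iff_mem_normalizer.1 (Sylow.ext (Subgroup.eq_of_le_of_card_ge ?_ ?_))
      · intro x hx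
        rw [Sylow.smul_def, Sylow.pointwise_smul_def, Subgroup.pointwise_smul_def] at hx
        obtain ⟨r, hr, rfl⟩ := hx
        rw [SetLike.mem_coe, hgenb] at hr
        obtain ⟨j, rfl⟩ := hr
        show g * (b ^ (i.1 + 1)) ^ j * g⁻¹ ∈ (R : Subgroup G)
        rw [← conj_zpow]
        exact zpow_mem hmem j
      · rw [card_sylow_five_eq hM R, card_sylow_five_eq hM (_ : Sylow 5 G)]
    obtain rfl : q = q' := by
      refine Subtype.ext ?_
      rw [← QuotientGroup.out_eq' q.1, ← QuotientGroup.out_eq' q'.1, eq_comm]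
      exact QuotientGroup.eq.2 hgR
    refine Prod.ext rfl (Fin.ext ?_)
    have he' : b ^ (i.1 + 1) = b ^ (i'.1 + 1) := mul_left_cancel (mul_right_cancel he)
    rw [pow_eq_pow_iff_modEq, hbo] at he'
    have h1 := i.2
    have h2' := i'.2
    have he'' : (i.1 + 1) % 5 = (i'.1 + 1) % 5 := he'
    show i.1 = i'.1
    omega
  have hle := Nat.card_le_card_of_injective φ hφ
  rw [Nat.card_prod, Nat.card_eq_fintype_card (α := Fin 4), Fintype.card_fin] at hle
  have hle' : f * 4 ≤ Nat.card {x : G | IsConj w x} := hle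
  have hclass : Nat.card {x : G | IsConj w x} * C = 7920 := by
    rw [← hM.2, hCdef]
    let ψ : G → {x : G | IsConj w x} := fun g => ⟨g * w * g⁻¹, isConj_iff.2 ⟨g, rfl⟩⟩
    have : Fintype {x : G | IsConj w x} := Fintype.ofFinite _
    rw [← Nat.card_congr (Equiv.sigmaFiberEquiv ψ), Nat.card_sigma,
      Finset.sum_congr rfl (g := fun _ => Nat.card (centralizer ({w} : Set G))), Finset.sum_const,
      smul_eq_mul, Finset.card_univ, Nat.card_eq_fintype_card]
    rintro ⟨x, hx⟩ -
    obtain ⟨g0, hg0⟩ := isConj_iff.1 hx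
    refine Nat.card_congr ⟨fun g => ⟨g0⁻¹ * g.1, ?_⟩, fun h => ⟨g0 * h.1, Subtype.ext ?_⟩,
      fun g => Subtype.ext (mul_inv_cancel_left _ _), fun h => Subtype.ext (inv_mul_cancel_left _ _)⟩
    · refine mem_centralizer_singleton_iff.2 ?_
      have he : g.1 * w * g.1⁻¹ = g0 * w * g0⁻¹ := (congrArg Subtype.val g.2).trans hg0.symm
      calc g0⁻¹ * g.1 * w = g0⁻¹ * (g.1 * w * g.1⁻¹) * g.1 := by group
        _ = w * (g0⁻¹ * g.1) := by rw [he]; group
    · show g0 * h.1 * w * (g0 * h.1)⁻¹ = x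
      have hh : h.1 * w = w * h.1 := mem_centralizer_singleton_iff.1 h.2
      rw [← hg0, mul_assoc g0, hh]
      group
  rw [hf4, hm] at hle'
  rw [hm] at hclass
  omega

theorem IsSquareInv.exists_normalizing (hM : Cfsg.IsM11 G) {v : G} (hv : IsSquareInv v) :
    ∃ R : Sylow 5 G, v • R = R := by
  have := hM.1
  obtain ⟨hvo, g, hg⟩ := hv
  obtain ⟨h2, -, -⟩ := inv_facts hvo
  by_contra hall
  push Not at hall
  have h0 : fixCount (Sylow 5 G) (g ^ 2) = 0 := by
    rw [fixCount, Nat.card_eq_zero]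
    exact Or.inl ⟨fun R => hall R.1 (hg ▸ R.2)⟩
  have h4 : g ^ 4 = 1 := by rw [show 4 = 2 * 2 by norm_num, pow_mul, hg, sq, h2]
  have h := eight_dvd_of_square_fixedPointFree (X := Sylow 5 G) (noncomm hM) h4 h0
  rw [sylow_five hM] at h
  omega

theorem IsSquareInv.isConj (hM : Cfsg.IsM11 G) {v v' : G} (hv : IsSquareInv v)
    (hv' : IsSquareInv v') : IsConj v v' := by
  obtain ⟨R, hR⟩ := hv.exists_normalizing hM
  obtain ⟨R', hR'⟩ := hv'.exists_normalizing hM
  exact isConj_of_normalizing hM hv.1 hv'.1 hR hR'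

theorem IsSquareInv.card_centralizer (hM : Cfsg.IsM11 G) {v : G} (hv : IsSquareInv v) :
    Nat.card (centralizer ({v} : Set G)) = 16 ∨ Nat.card (centralizer ({v} : Set G)) = 48 := by
  obtain ⟨R, hR⟩ := hv.exists_normalizing hM
  exact (centralizer_normalizing hM hv.1 hR).2

theorem exists_isSquareInv (hM : Cfsg.IsM11 G) : ∃ v : G, IsSquareInv v := by
  have : Fact (Nat.Prime 2) := ⟨by norm_num⟩
  obtain ⟨R⟩ := (inferInstance : Nonempty (Sylow 5 G))
  obtain ⟨b, hb, hbo, hgen⟩ := exists_ne_one (card_sylow_five_eq hM R)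
  obtain ⟨W, hW⟩ := Sylow.exists_subgroup_card_pow_prime
    (G := normalizer ((R : Subgroup G) : Set G)) 2 (n := 2) (by rw [normalizer_five hM R]; norm_num)
  by_contra hall
  push Not at hall
  have hsq : ∀ x : W, x ≠ 1 → orderOf (((x : normalizer ((R : Subgroup G) : Set G))) : G) = 2 := by
    intro x hx
    have h1 : orderOf x ∣ 4 := (orderOf_dvd_natCard x).trans (dvd_of_eq hW)
    have hmem : orderOf x ∈ Nat.divisors 4 := Nat.mem_divisors.2 ⟨h1, by norm_num⟩
    rw [show Nat.divisors 4 = {1, 2, 4} by decide] at hmem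
    simp only [Finset.mem_insert, Finset.mem_singleton] at hmem
    rcases hmem with h | h | h
    · exact absurd (orderOf_eq_one_iff.1 h) hx
    · rw [orderOf_coe, orderOf_coe, h]
    · exfalso
      refine hall (((x : normalizer ((R : Subgroup G) : Set G)) : G) ^ 2) ⟨?_, _, rfl⟩
      rw [orderOf_pow' _ (by norm_num), orderOf_coe, orderOf_coe, h]
      norm_num
  have key : ∀ x : W, x ≠ 1 →
      ((x : normalizer ((R : Subgroup G) : Set G)) : G) * b *
        (((x : normalizer ((R : Subgroup G) : Set G)) : G))⁻¹ = b⁻¹ := fun x hx => by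
    refine invert_of_normalizing hM (hsq x hx) hbo ?_
    rw [← hgen]
    exact (Subgroup.mem_normalizer_iff.1 (x : normalizer ((R : Subgroup G) : Set G)).2 b).1 hb
  have : Fintype W := Fintype.ofFinite _
  obtain ⟨x, hx⟩ := Fintype.exists_ne_of_one_lt_card (by rw [← Nat.card_eq_fintype_card, hW]; norm_num)
    (1 : W)
  obtain ⟨y, hy, hyx⟩ : ∃ y : W, y ≠ 1 ∧ y ≠ x := by
    by_contra h
    push Not at h
    have hsub : (Finset.univ : Finset W) ⊆ {1, x} := fun z _ => by
      by_cases hz : z = 1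
      · simp [hz]
      · simp [h z hz]
    have := Finset.card_le_card hsub
    rw [Finset.card_univ, ← Nat.card_eq_fintype_card, hW] at this
    have := Finset.card_le_two (a := (1 : W)) (b := x)
    omega
  obtain ⟨j, hj, -⟩ := exists_conj_of_invert hM (hsq x hx) hbo (key x hx) (key y hy)
  have hmem : (((x⁻¹ * y : W) : normalizer ((R : Subgroup G) : Set G)) : G) ∈ (R : Subgroup G) := by
    push_cast
    rw [hj, inv_mul_cancel_left]
    exact pow_mem hb j
  have h1 := Subgroup.orderOf_dvd_natCard _ hmem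
  rw [card_sylow_five_eq hM R, orderOf_coe, orderOf_coe] at h1
  have h2 : orderOf (x⁻¹ * y) ∣ 4 := (_root_.orderOf_dvd_natCard _).trans (dvd_of_eq hW)
  have h3 := Nat.eq_one_of_dvd_coprimes (by norm_num : Nat.Coprime 5 4) h1 h2
  rw [orderOf_eq_one_iff, inv_mul_eq_one] at h3
  exact hyx h3.symm

end CfsgLib.Mathieu.Order7920
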