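import Cfsg.Agent.Lib.Mathieu.Order7920.Cliques
import Cfsg.Agent.Lib.Mathieu.SteinerAut

/-!
A simple group of order 7920 preserves a Steiner system S(4,5,11): the fixed point of the four-group
of double transpositions completes each four-set to a block.
-/

set_option autoImplicit false

noncomputable section

namespace CfsgLib.Mathieu.Order7920

open MulAction
open scoped Classical

universe u v

variable {G : Type u} [Group G] [Finite G] {X : Type v} [MulAction G X] [Fintype X]

/-- A sharply 4-transitive action on eleven points. -/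
structure SharpAction (G : Type u) (X : Type v) [Group G] [MulAction G X] [Fintype X] : Prop where
  hM : Cfsg.IsM11 G
  card : Fintype.card X = 11
  trans : IsMultiplyPretransitive G X 4
  sharp : ∀ x : Fin 4 ↪ X, stabilizer G x = ⊥

/-- An embedding of four distinct points. -/
def emb4 {a b c d : X} (h : [a, b, c, d].Nodup) : Fin 4 ↪ X :=
  ⟨[a, b, c, d].get, h.injective_get⟩

/-- The completion of a four-set: fixed by every element acting as a double transposition. -/
def Common (G : Type u) [Group G] [MulAction G X] (F : Finset X) (e : X) : Prop :=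
  e ∉ F ∧ ∀ g : G, (∀ x ∈ F, g • x ∈ F ∧ g • g • x = x ∧ g • x ≠ x) → g • e = e

omit [Finite G] [Fintype X] in
theorem Common.smul {F : Finset X} {e : X} (h : Common G F e) (k : G) :
    Common G (F.image (k • ·)) (k • e) := by
  refine ⟨fun hm => ?_, fun g hg => ?_⟩
  · obtain ⟨x, hx, hxe⟩ := Finset.mem_image.1 hm
    exact h.1 (smul_left_cancel k hxe ▸ hx)
  · have := h.2 (k⁻¹ * g * k) fun x hx => by
      obtain ⟨h1, h2, h3⟩ := hg (k • x) (Finset.mem_image_of_mem _ hx)
      obtain ⟨y, hy, hye⟩ := Finset.mem_image.1 h1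
      have e1 : (k⁻¹ * g * k) • x = y := by
        rw [mul_smul, mul_smul, ← show k • y = g • k • x from hye, inv_smul_smul]
      refine ⟨e1 ▸ hy, ?_, fun e => h3 ?_⟩
      · rw [← mul_smul, show k⁻¹ * g * k * (k⁻¹ * g * k) = k⁻¹ * (g * g) * k by group, mul_smul,
          mul_smul, mul_smul, h2, inv_smul_smul]
      · rw [e1] at e
        rw [← show k • y = g • k • x from hye, e]
    rw [mul_smul, mul_smul, inv_smul_eq_iff] at this
    exact this

namespace SharpAction

variable (A : SharpAction G X)

include A

theorem eq_one {a b c d : X} (h : [a, b, c, d].Nodup) {g : G} (ha : g • a = a) (hb : g • b = b)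
    (hc : g • c = c) (hd : g • d = d) : g = 1 := by
  have hmem : g ∈ stabilizer G (emb4 h) := by
    rw [mem_stabilizer_iff]
    ext i
    show g • [a, b, c, d].get i = [a, b, c, d].get i
    fin_cases i <;> assumption
  rwa [A.sharp, Subgroup.mem_bot] at hmem

theorem eq_of_four {a b c d : X} (h : [a, b, c, d].Nodup) {g g' : G} (ha : g • a = g' • a)
    (hb : g • b = g' • b) (hc : g • c = g' • c) (hd : g • d = g' • d) : g = g' := by
  have := A.eq_one h (g := g'⁻¹ * g) (by rw [mul_smul, ha, inv_smul_smul])
    (by rw [mul_smul, hb, inv_smul_smul]) (by rw [mul_smul, hc, inv_smul_smul])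
    (by rw [mul_smul, hd, inv_smul_smul])
  exact (inv_mul_eq_one.1 this).symm

theorem exists_map {a b c d a' b' c' d' : X} (h : [a, b, c, d].Nodup) (h' : [a', b', c', d'].Nodup) :
    ∃ g : G, g • a = a' ∧ g • b = b' ∧ g • c = c' ∧ g • d = d' := by
  obtain ⟨g, hg⟩ := A.trans.exists_smul_eq (emb4 h) (emb4 h')
  have key : ∀ i, g • [a, b, c, d].get i = [a', b', c', d'].get i := fun i =>
    congrArg (fun e : Fin 4 ↪ X => e i) hg
  exact ⟨g, key ⟨0, by simp⟩, key ⟨1, by simp⟩, key ⟨2, by simp⟩, key ⟨3, by simp⟩⟩

/-- The fixed points of an element. -/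
theorem fix_le_three {g : G} (hg : g ≠ 1) :
    (Finset.univ.filter fun x : X => g • x = x).card ≤ 3 := by
  by_contra h
  push Not at h
  obtain ⟨s, hs, hs4⟩ := Finset.exists_subset_card_eq (n := 4) (s := Finset.univ.filter fun x : X => g • x = x) (by omega)
  obtain ⟨a, b, c, d, hab, hac, had, hbc, hbd, hcd, rfl⟩ := Finset.card_eq_four.1 hs4
  refine hg (A.eq_one (a := a) (b := b) (c := c) (d := d) (by simp [*]) ?_ ?_ ?_ ?_) <;>
    exact (Finset.mem_filter.1 (hs (by simp))).2

theorem fix_involution {z : G} (hz : orderOf z = 2) :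
    (Finset.univ.filter fun x : X => z • x = x).card = 3 := by
  have := A.hM.1
  have hz2 : z ^ 2 = 1 := by rw [← hz]; exact pow_orderOf_eq_one z
  obtain ⟨h4, hle⟩ := card_sub_fixCount (X := X) (noncomm A.hM) hz2
  have h3 := A.fix_le_three (g := z) (inv_facts hz).2.1
  have hf : fixCount X z = (Finset.univ.filter fun x : X => z • x = x).card := by
    rw [fixCount, Nat.card_eq_fintype_card, Fintype.card_subtype]
  rw [hf, Nat.card_eq_fintype_card, A.card] at h4
  omega

theorem exists_map_three {s s' : Finset X} (hs : s.card = 3) (hs' : s'.card = 3) :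
    ∃ g : G, s.image (g • ·) = s' := by
  obtain ⟨a, b, c, hab, hac, hbc, rfl⟩ := Finset.card_eq_three.1 hs
  obtain ⟨a', b', c', hab', hac', hbc', rfl⟩ := Finset.card_eq_three.1 hs'
  have hout : ∀ x y z : X, ∃ d, d ≠ x ∧ d ≠ y ∧ d ≠ z := by
    intro x y z
    have : ({x, y, z} : Finset X).card < (Finset.univ : Finset X).card :=
      lt_of_le_of_lt Finset.card_le_three (by rw [Finset.card_univ, A.card]; norm_num)
    obtain ⟨d, -, hd⟩ := Finset.exists_mem_notMem_of_card_lt_card this
    simp only [Finset.mem_insert, Finset.mem_singleton, not_or] at hd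
    exact ⟨d, hd⟩
  obtain ⟨d, hda, hdb, hdc⟩ := hout a b c
  obtain ⟨d', hda', hdb', hdc'⟩ := hout a' b' c'
  obtain ⟨g, h1, h2, h3, -⟩ := A.exists_map (a := a) (b := b) (c := c) (d := d) (a' := a') (b' := b')
    (c' := c') (d' := d') (by simp [hab, hac, hbc, hda.symm, hdb.symm, hdc.symm])
    (by simp [hab', hac', hbc', hda'.symm, hdb'.symm, hdc'.symm])
  exact ⟨g, by simp [h1, h2, h3]⟩

/-- Only one involution fixes a given triple. -/
theorem involution_unique {z w : G} (hz : orderOf z = 2) (hw : orderOf w = 2)
    (h : ∀ x : X, z • x = x → w • x = x) : z = w := by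
  have : Fintype G := Fintype.ofFinite G
  let S : Finset G := Finset.univ.filter fun g => orderOf g = 2
  let f : G → Finset X := fun g => Finset.univ.filter fun x => g • x = x
  have hS : S.card = 165 := by
    have hc := classCard_mul_eq A.hM z
    rw [card_centralizer_involution A.hM hz] at hc
    have e : classCard z = S.card := by
      rw [classCard, ← Fintype.card_subtype, ← Nat.card_eq_fintype_card]
      exact Nat.card_congr (Equiv.subtypeEquivRight fun y =>
        ⟨fun hc => (orderOf_conj_eq hz hc).1, fun hy => isConj_involution A.hM hz hy⟩)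
    omega
  have himg : S.image f = (Finset.univ : Finset X).powersetCard 3 := by
    refine Finset.Subset.antisymm (fun s hs => ?_) (fun s hs => ?_)
    · obtain ⟨g, hg, rfl⟩ := Finset.mem_image.1 hs
      exact Finset.mem_powersetCard.2
        ⟨Finset.subset_univ _, A.fix_involution (Finset.mem_filter.1 hg).2⟩
    · obtain ⟨g, hg⟩ := A.exists_map_three (A.fix_involution hz) (Finset.mem_powersetCard.1 hs).2
      refine Finset.mem_image.2 ⟨g * z * g⁻¹, Finset.mem_filter.2 ⟨Finset.mem_univ _,
        (orderOf_conj_eq hz (isConj_iff.2 ⟨g, rfl⟩)).1⟩, ?_⟩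
      rw [← hg]
      ext x
      simp only [f, Finset.mem_filter, Finset.mem_univ, true_and, Finset.mem_image]
      constructor
      · intro hx
        exact ⟨g⁻¹ • x, by rw [eq_inv_smul_iff, ← mul_smul, ← mul_smul, hx], smul_inv_smul g x⟩
      · rintro ⟨y, hy, rfl⟩
        rw [← mul_smul, inv_mul_cancel_right, mul_smul, hy]
  have hinj : Set.InjOn f S := Finset.injOn_of_card_image_eq (by
    rw [himg, Finset.card_powersetCard, Finset.card_univ, A.card, hS]; rfl)
  refine hinj (by simp [S, hz]) (by simp [S, hw]) ?_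
  refine Finset.eq_of_subset_of_card_le (fun x hx => ?_)
    (by rw [A.fix_involution hz, A.fix_involution hw])
  exact Finset.mem_filter.2 ⟨Finset.mem_univ _, h x (Finset.mem_filter.1 hx).2⟩

theorem exists_common {F : Finset X} (hF : F.card = 4) : ∃! e, Common G F e := by
  obtain ⟨a, b, c, d, hab, hac, had, hbc, hbd, hcd, rfl⟩ := Finset.card_eq_four.1 hF
  have h0 : [a, b, c, d].Nodup := by simp [*]
  obtain ⟨z, za, zb, zc, zd⟩ := A.exists_map h0 (a' := b) (b' := a) (c' := d) (d' := c)
    (by simp [hab.symm, hac, had, hbc, hbd, hcd.symm])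
  obtain ⟨w, wa, wb, wc, wd⟩ := A.exists_map h0 (a' := c) (b' := d) (c' := a) (d' := b)
    (by simp [hab, hac.symm, had.symm, hbc.symm, hbd.symm, hcd])
  have hz2 : z * z = 1 := A.eq_one h0 (by simp [mul_smul, za, zb]) (by simp [mul_smul, za, zb])
    (by simp [mul_smul, zc, zd]) (by simp [mul_smul, zc, zd])
  have hw2 : w * w = 1 := A.eq_one h0 (by simp [mul_smul, wa, wc]) (by simp [mul_smul, wb, wd])
    (by simp [mul_smul, wa, wc]) (by simp [mul_smul, wb, wd])
  have hzw : z * w = w * z := A.eq_of_four h0 (by simp [mul_smul, za, zb, zc, zd, wa, wb, wc, wd])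
    (by simp [mul_smul, za, zb, zc, zd, wa, wb, wc, wd])
    (by simp [mul_smul, za, zb, zc, zd, wa, wb, wc, wd])
    (by simp [mul_smul, za, zb, zc, zd, wa, wb, wc, wd])
  have hzo : orderOf z = 2 := orderOf_eq_prime (by rw [_root_.sq, hz2]) fun e => hab (by
    rw [e, one_smul] at za; exact za)
  have hwo : orderOf w = 2 := orderOf_eq_prime (by rw [_root_.sq, hw2]) fun e => hac (by
    rw [e, one_smul] at wa; exact wa)
  -- the fixed points of `z` are permuted by `w`
  set P := Finset.univ.filter fun x : X => z • x = x with hP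
  have hP3 : P.card = 3 := A.fix_involution hzo
  have hwP : ∀ x ∈ P, w • x ∈ P := fun x hx => by
    refine Finset.mem_filter.2 ⟨Finset.mem_univ _, ?_⟩
    rw [← mul_smul, hzw, mul_smul, (Finset.mem_filter.1 hx).2]
  have hww : ∀ x : X, w • w • x = x := fun x => by rw [← mul_smul, hw2, one_smul]
  obtain ⟨p, q, r, hpq, hpr, hqr, hPeq⟩ := Finset.card_eq_three.1 hP3
  obtain ⟨e, heP, hew⟩ : ∃ e ∈ P, w • e = e := by
    have hp : p ∈ P := by rw [hPeq]; simp
    have hq : q ∈ P := by rw [hPeq]; simp
    have hr : r ∈ P := by rw [hPeq]; simp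
    by_contra h
    push Not at h
    have hcases : ∀ x ∈ P, w • x = p ∨ w • x = q ∨ w • x = r := fun x hx => by
      have := hwP x hx; rw [hPeq] at this; simpa using this
    rcases hcases p hp with e1 | e1 | e1
    · exact h p hp e1
    · rcases hcases r hr with e2 | e2 | e2
      · have := hww r; rw [e2, e1] at this; exact hqr this
      · have := hww r; rw [e2, ← e1, hww] at this; exact hpr this
      · exact h r hr e2
    · rcases hcases q hq with e2 | e2 | e2
      · have := hww q; rw [e2, e1] at this; exact hqr this.symm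
      · exact h q hq e2
      · have := hww q; rw [e2, ← e1, hww] at this; exact hpq this
  have hze : z • e = e := (Finset.mem_filter.1 heP).2
  have hnot : ∀ x, z • x = x → x ∉ ({a, b, c, d} : Finset X) := by
    intro x hx hm
    simp only [Finset.mem_insert, Finset.mem_singleton] at hm
    rcases hm with rfl | rfl | rfl | rfl
    · exact hab (za.symm.trans hx).symm
    · exact hab (zb.symm.trans hx)
    · exact hcd (zc.symm.trans hx).symm
    · exact hcd (zd.symm.trans hx)
  have hzF : ∀ x ∈ ({a, b, c, d} : Finset X),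
      z • x ∈ ({a, b, c, d} : Finset X) ∧ z • z • x = x ∧ z • x ≠ x := by
    intro x hx
    refine ⟨?_, by rw [← mul_smul, hz2, one_smul], fun h => hnot x h hx⟩
    simp only [Finset.mem_insert, Finset.mem_singleton] at hx ⊢
    rcases hx with rfl | rfl | rfl | rfl <;> simp [za, zb, zc, zd]
  have hwF : ∀ x ∈ ({a, b, c, d} : Finset X),
      w • x ∈ ({a, b, c, d} : Finset X) ∧ w • w • x = x ∧ w • x ≠ x := by
    intro x hx
    refine ⟨?_, hww x, fun h => ?_⟩ <;>
      simp only [Finset.mem_insert, Finset.mem_singleton] at hx ⊢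
    · rcases hx with rfl | rfl | rfl | rfl <;> simp [wa, wb, wc, wd]
    · rcases hx with rfl | rfl | rfl | rfl
      · exact hac (wa.symm.trans h).symm
      · exact hbd (wb.symm.trans h).symm
      · exact hac (wc.symm.trans h)
      · exact hbd (wd.symm.trans h)
  refine ⟨e, ⟨hnot e hze, fun g hg => ?_⟩, fun e' he' => ?_⟩
  · -- a double transposition of the four points is `z`, `w` or `z w`
    obtain ⟨ga, gga, gan⟩ := hg a (by simp)
    obtain ⟨gb, -, gbn⟩ := hg b (by simp)
    obtain ⟨gc, -, gcn⟩ := hg c (by simp)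
    obtain ⟨gd, -, gdn⟩ := hg d (by simp)
    simp only [Finset.mem_insert, Finset.mem_singleton] at ga gb gc gd
    have inj : ∀ x y : X, x ≠ y → g • x ≠ g • y := fun x y h e => h (smul_left_cancel g e)
    have nab := inj _ _ hab
    have nac := inj _ _ hac
    have nad := inj _ _ had
    have nbc := inj _ _ hbc
    have nbd := inj _ _ hbd
    have ncd := inj _ _ hcd
    rcases ga with h | h | h | h
    · exact absurd h gan
    · -- `z`
      have gb' : g • b = a := by rw [h] at gga; exact gga
      have gc' : g • c = d := by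
        rcases gc with h' | h' | h' | h'
        · exact absurd (gb'.trans h'.symm) nbc
        · exact absurd (h.trans h'.symm) nac
        · exact absurd h' gcn
        · exact h'
      have gd' : g • d = c := by
        rcases gd with h' | h' | h' | h'
        · exact absurd (gb'.trans h'.symm) nbd
        · exact absurd (h.trans h'.symm) nad
        · exact h'
        · exact absurd h' gdn
      rw [A.eq_of_four h0 (g := g) (g' := z) (h.trans za.symm) (gb'.trans zb.symm) (gc'.trans zc.symm)
        (gd'.trans zd.symm), hze]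
    · have gc' : g • c = a := by rw [h] at gga; exact gga
      have gb' : g • b = d := by
        rcases gb with h' | h' | h' | h'
        · exact absurd (h'.trans gc'.symm) nbc
        · exact absurd h' gbn
        · exact absurd (h.trans h'.symm) nab
        · exact h'
      have gd' : g • d = b := by
        rcases gd with h' | h' | h' | h'
        · exact absurd (gc'.trans h'.symm) ncd
        · exact h'
        · exact absurd (h.trans h'.symm) nad
        · exact absurd h' gdn
      rw [A.eq_of_four h0 (g := g) (g' := w) (h.trans wa.symm) (gb'.trans wb.symm) (gc'.trans wc.symm)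
        (gd'.trans wd.symm), hew]
    · have gd' : g • d = a := by rw [h] at gga; exact gga
      have gb' : g • b = c := by
        rcases gb with h' | h' | h' | h'
        · exact absurd (h'.trans gd'.symm) nbd
        · exact absurd h' gbn
        · exact h'
        · exact absurd (h.trans h'.symm) nab
      have gc' : g • c = b := by
        rcases gc with h' | h' | h' | h'
        · exact absurd (h'.trans gd'.symm) ncd
        · exact h'
        · exact absurd h' gcn
        · exact absurd (h.trans h'.symm) nac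
      rw [A.eq_of_four h0 (g := g) (g' := z * w) (by rw [h, mul_smul, wa, zc])
        (by rw [gb', mul_smul, wb, zd]) (by rw [gc', mul_smul, wc, za])
        (by rw [gd', mul_smul, wd, zb]), mul_smul, hew, hze]
  · by_contra hne
    have hz' := he'.2 z hzF
    have hw' := he'.2 w hwF
    -- then `w` fixes all three fixed points of `z`
    have hall : ∀ x : X, z • x = x → w • x = x := by
      intro x hx
      by_contra hxw
      have hxe : x ≠ e := fun h => hxw (h ▸ hew)
      have hxe' : x ≠ e' := fun h => hxw (h ▸ hw')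
      have hwxe : w • x ≠ e := fun h => hxe (smul_left_cancel w (h.trans hew.symm))
      have hwxe' : w • x ≠ e' := fun h => hxe' (smul_left_cancel w (h.trans hw'.symm))
      have hsub : ({e, e', x, w • x} : Finset X) ⊆ P := by
        have hxP : x ∈ P := Finset.mem_filter.2 ⟨Finset.mem_univ _, hx⟩
        intro y hy
        simp only [Finset.mem_insert, Finset.mem_singleton] at hy
        rcases hy with rfl | rfl | rfl | rfl
        · exact heP
        · exact Finset.mem_filter.2 ⟨Finset.mem_univ _, hz'⟩
        · exact hxP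
        · exact hwP x hxP
      have hc : ({e, e', x, w • x} : Finset X).card = 4 :=
        Finset.card_eq_four.2 ⟨e, e', x, w • x, Ne.symm hne, hxe.symm, hwxe.symm, hxe'.symm,
          hwxe'.symm, Ne.symm hxw, rfl⟩
      have := Finset.card_le_card hsub
      omega
    have := A.involution_unique hzo hwo hall
    exact hbc (za.symm.trans (by rw [this, wa]))

theorem common_exchange {F : Finset X} {e x : X} (hF : F.card = 4) (he : Common G F e)
    (hx : x ∈ F) : Common G (insert e (F.erase x)) x := by
  have h3 : (F.erase x).card = 3 := by rw [Finset.card_erase_of_mem hx, hF]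
  obtain ⟨a, b, c, hab, hac, hbc, hFx⟩ := Finset.card_eq_three.1 h3
  have hmem : ∀ y ∈ ({a, b, c} : Finset X), y ≠ x ∧ y ∈ F := fun y hy =>
    Finset.mem_erase.1 (hFx ▸ hy)
  obtain ⟨hax, haF⟩ := hmem a (by simp)
  obtain ⟨hbx, hbF⟩ := hmem b (by simp)
  obtain ⟨hcx, hcF⟩ := hmem c (by simp)
  have hFeq : F = insert x {a, b, c} := by rw [← hFx, Finset.insert_erase hx]
  have h0 : [a, b, c, x].Nodup := by simp [*]
  -- the involution fixing the triple
  obtain ⟨z0, hz0⟩ := exists_prime_orderOf_dvd_card' (G := G) 2 (hp := ⟨Nat.prime_two⟩)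
    (by rw [A.hM.2]; norm_num)
  obtain ⟨g, hg⟩ := A.exists_map_three (A.fix_involution hz0) h3
  set z := g * z0 * g⁻¹ with hzdef
  have hzo : orderOf z = 2 := (orderOf_conj_eq hz0 (isConj_iff.2 ⟨g, rfl⟩)).1
  have hzfix : ∀ y, z • y = y ↔ y ∈ ({a, b, c} : Finset X) := by
    intro y
    rw [← hFx, ← hg, Finset.mem_image]
    constructor
    · intro hy
      refine ⟨g⁻¹ • y, Finset.mem_filter.2 ⟨Finset.mem_univ _, ?_⟩, smul_inv_smul g y⟩
      rw [eq_inv_smul_iff, ← mul_smul, ← mul_smul, ← hzdef, hy]
    · rintro ⟨v, hv, rfl⟩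
      rw [hzdef, ← mul_smul, inv_mul_cancel_right, mul_smul, (Finset.mem_filter.1 hv).2]
  obtain ⟨r, ra, rb, rc, rx⟩ := A.exists_map h0 (a' := b) (b' := c) (c' := a) (d' := x)
    (by simp [hbc, hab.symm, hac.symm, hbx, hcx, hax])
  have hr1 : r ≠ 1 := fun h => hab (by rw [h, one_smul] at ra; exact ra)
  have hr3 : r ^ 3 = 1 := A.eq_one h0 (by simp [pow_succ, mul_smul, ra, rb, rc])
    (by simp [pow_succ, mul_smul, ra, rb, rc]) (by simp [pow_succ, mul_smul, ra, rb, rc])
    (by simp [pow_succ, mul_smul, rx])
  have hrF : F.image (r • ·) = F := by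
    refine Finset.eq_of_subset_of_card_le (fun y hy => ?_)
      (by rw [Finset.card_image_of_injective _ (MulAction.injective r)])
    obtain ⟨v, hv, rfl⟩ := Finset.mem_image.1 hy
    rw [hFeq] at hv ⊢
    simp only [Finset.mem_insert, Finset.mem_singleton] at hv ⊢
    rcases hv with rfl | rfl | rfl | rfl <;> simp [ra, rb, rc, rx]
  have hre : r • e = e := by
    have := he.smul r
    rw [hrF] at this
    exact (A.exists_common hF).unique this he
  have hcomm : r * z = z * r := by
    have : r * z * r⁻¹ = z := by
      refine A.involution_unique ((orderOf_conj_eq hzo (isConj_iff.2 ⟨r, rfl⟩)).1) hzo fun y hy => ?_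
      rw [mul_smul, mul_smul, ← eq_inv_smul_iff, hzfix] at hy
      rw [hzfix]
      have e1 : r • r⁻¹ • y = y := smul_inv_smul r y
      simp only [Finset.mem_insert, Finset.mem_singleton] at hy ⊢
      rcases hy with h | h | h <;> rw [h] at e1
      · exact Or.inr (Or.inl (e1.symm.trans ra))
      · exact Or.inr (Or.inr (e1.symm.trans rb))
      · exact Or.inl (e1.symm.trans rc)
    exact mul_inv_eq_iff_eq_mul.1 this
  -- `r` fixes exactly `x` and `e`
  set P := Finset.univ.filter fun y : X => r • y = y with hP
  have hPle : P.card ≤ 3 := A.fix_le_three hr1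
  have hmod : 11 % 3 = P.card % 3 := by
    have : Fact (Nat.Prime 3) := ⟨by norm_num⟩
    have hp : IsPGroup 3 (Subgroup.zpowers r) := IsPGroup.of_card (n := 1) (by
      rw [Nat.card_zpowers, orderOf_eq_prime hr3 hr1, pow_one])
    have h : Nat.card X % 3 = Nat.card (fixedPoints (Subgroup.zpowers r) X) % 3 :=
      fixCount_modEq hp
    rw [Nat.card_eq_fintype_card, A.card] at h
    rw [h]
    congr 1
    rw [Nat.card_eq_fintype_card, ← Set.toFinset_card]
    refine congrArg Finset.card (Finset.ext fun y => ?_)
    rw [Set.mem_toFinset, mem_fixedPoints_zpowers, hP, Finset.mem_filter]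
    exact ⟨fun h => ⟨Finset.mem_univ y, h⟩, fun h => h.2⟩
  have hxe : x ≠ e := fun h => he.1 (h ▸ hx)
  have hsub : ({x, e} : Finset X) ⊆ P := by
    intro y hy
    simp only [Finset.mem_insert, Finset.mem_singleton] at hy
    rcases hy with rfl | rfl <;> simp [P, rx, hre]
  have hPeq : ({x, e} : Finset X) = P :=
    Finset.eq_of_subset_of_card_le hsub (by rw [Finset.card_pair hxe]; omega)
  have hzx : z • x = e := by
    have : z • x ∈ P := Finset.mem_filter.2 ⟨Finset.mem_univ _, by
      rw [← mul_smul, hcomm, mul_smul, rx]⟩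
    rw [← hPeq, Finset.mem_insert, Finset.mem_singleton] at this
    refine this.resolve_left fun h => ?_
    have := (hzfix x).1 h
    exact (hmem x this).1 rfl
  have hz2 : z * z = 1 := (inv_facts hzo).1
  have hze : z • e = x := by rw [← hzx, ← mul_smul, hz2, one_smul]
  have := he.smul z
  rw [hze] at this
  convert this using 1
  rw [hFeq, Finset.erase_insert (fun h => (hmem x h).1 rfl), Finset.image_insert, hzx]
  congr 1
  rw [Finset.image_congr (g := id) fun y hy => (hzfix y).2 hy, Finset.image_id]

/-- The blocks. -/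
def blocks (_A : SharpAction G X) : Set (Finset X) :=
  {B | ∃ F e, F.card = 4 ∧ Common G F e ∧ insert e F = B}

theorem isSteiner : Cfsg.IsSteinerSystem 4 5 A.blocks := by
  refine ⟨?_, fun s hs => ?_⟩
  · rintro B ⟨F, e, hF, he, rfl⟩
    rw [Finset.card_insert_of_notMem he.1, hF]
  obtain ⟨e, he, huniq⟩ := A.exists_common hs
  refine ⟨insert e s, ⟨⟨s, e, hs, he, rfl⟩, Finset.subset_insert _ _⟩, ?_⟩
  rintro B ⟨⟨F, e', hF, he', rfl⟩, hsub⟩
  by_cases hes : e' ∈ s
  · -- `s` is an exchanged four-set
    obtain ⟨x, hxF, hxs⟩ : ∃ x ∈ F, x ∉ s := by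
      by_contra h
      push Not at h
      have h' : insert e' F ⊆ s := Finset.insert_subset hes h
      have := Finset.card_le_card h'
      rw [Finset.card_insert_of_notMem he'.1, hF, hs] at this
      omega
    have hse : s = insert e' (F.erase x) := by
      refine Finset.eq_of_subset_of_card_le (fun y hy => ?_) ?_
      · rcases Finset.mem_insert.1 (hsub hy) with rfl | h
        · exact Finset.mem_insert_self _ _
        · exact Finset.mem_insert_of_mem (Finset.mem_erase.2 ⟨fun e => hxs (e ▸ hy), h⟩)
      · rw [Finset.card_insert_of_notMem (fun h => he'.1 (Finset.mem_of_mem_erase h)),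
          Finset.card_erase_of_mem hxF, hF, hs]
    have hxc := A.common_exchange hF he' hxF
    rw [← hse] at hxc
    rw [← huniq x hxc, hse, Finset.insert_comm, Finset.insert_erase hxF]
  · have : s = F := Finset.eq_of_subset_of_card_le (fun y hy =>
      (Finset.mem_insert.1 (hsub hy)).resolve_left fun h => hes (h ▸ hy)) (by rw [hF, hs])
    subst this
    rw [huniq e' he']

theorem exists_mulEquiv : ∃ B : Set (Finset X), Cfsg.IsSteinerSystem 4 5 B ∧
    Nonempty (G ≃* Cfsg.setSystemAut B) := by
  refine ⟨A.blocks, A.isSteiner, ?_⟩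
  have hmem : ∀ g : G, MulAction.toPermHom G X g ∈ Cfsg.setSystemAut A.blocks := fun g => by
    apply mem_setSystemAut_of_forall
    rintro _ ⟨F, e, hF, he, rfl⟩
    refine ⟨F.image (g • ·), g • e, ?_, he.smul g, ?_⟩
    · rw [Finset.card_image_of_injective _ (MulAction.injective g), hF]
    · ext y
      simp
  let φ : G →* Cfsg.setSystemAut A.blocks := (MulAction.toPermHom G X).codRestrict _ hmem
  have hinj : Function.Injective φ := by
    refine (injective_iff_map_eq_one φ).2 fun g hg => ?_
    have h : ∀ x : X, g • x = x := fun x =>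
      congrArg (fun p : Cfsg.setSystemAut A.blocks => (p : Equiv.Perm X) x) hg
    obtain ⟨s, -, hs⟩ := Finset.exists_subset_card_eq (n := 4) (s := (Finset.univ : Finset X))
      (by rw [Finset.card_univ, A.card]; norm_num)
    obtain ⟨a, b, c, d, hab, hac, had, hbc, hbd, hcd, -⟩ := Finset.card_eq_four.1 hs
    exact A.eq_one (a := a) (b := b) (c := c) (d := d) (by simp [*]) (h a) (h b) (h c) (h d)
  refine ⟨MulEquiv.ofBijective φ ((Nat.bijective_iff_injective_and_card φ).2 ⟨hinj, ?_⟩)⟩
  rw [(steinerAut_eleven A.card A.isSteiner).2.1, A.hM.2]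

end SharpAction

/-- Simple groups of order 7920 are isomorphic to each other. -/
theorem nonempty_mulEquiv {H : Type v} [Group H] [Finite H] (hG : Cfsg.IsM11 G)
    (hH : Cfsg.IsM11 H) : Nonempty (G ≃* H) := by
  obtain ⟨X, iX, fX, hX, hX4, hXs⟩ := exists_sharply_four hG
  obtain ⟨Y, iY, fY, hY, hY4, hYs⟩ := exists_sharply_four hH
  obtain ⟨B, hB, ⟨e⟩⟩ := (SharpAction.mk hG hX hX4 hXs).exists_mulEquiv
  obtain ⟨C, hC, ⟨f⟩⟩ := (SharpAction.mk hH hY hY4 hYs).exists_mulEquiv
  obtain ⟨e'⟩ := nonempty_mulEquiv_of_iso (Aut11.iso hX hB)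
  obtain ⟨f'⟩ := nonempty_mulEquiv_of_iso (Aut11.iso hY hC)
  exact ⟨(e.trans e').trans (f.trans f').symm⟩

end CfsgLib.Mathieu.Order7920
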