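import Cfsg.Agent.Lib.Mathieu.Order7920.ThreeSplit

/-!
Simple groups of order 7920 with 55 Sylow 3-subgroups: these are self-centralising and intersect
trivially.
-/

set_option autoImplicit false

namespace CfsgLib.Mathieu.Order7920

open Subgroup MulAction
open scoped Classical

universe u

variable {G : Type u} [Group G] [Finite G]

local instance fact_prime_three_55 : Fact (Nat.Prime 3) := ⟨by norm_num⟩

variable {T : Sylow 3 G}

/-- The Sylow 3-subgroups intersect trivially. -/
theorem fix3_eq_one (hM : Cfsg.IsM11 G) (hN : Nat.card (sylN T) = 144) {t : G} (ht : t ∈ T)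
    (ht1 : t ≠ 1) : fix3 t = 1 ∧ centralizer ({t} : Set G) = sylCN T t := by
  obtain ⟨hmul, hf⟩ := fix3_mul hM T ht ht1
  have key : fix3 t = 1 := by
    refine hf.resolve_right fun h4 => ?_
    have h72 := Nat.le_of_dvd (by norm_num) (centralizer_dvd_seventyTwo hM T ht ht1)
    rw [← hmul, h4] at h72
    obtain ⟨horb, hO2, hO8⟩ := orbCount_facts hM T ht ht1
    rw [hN] at horb
    have hO : orbCount T t = 8 := by nlinarith
    have : Fintype (T : Subgroup G) := Fintype.ofFinite _
    obtain ⟨Ys, hYs, hYc, hcov, hsum, hcong⟩ := exists_reps hM T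
    obtain ⟨y, hy, hyt⟩ := hcov t ht ht1
    have hOy : orbCount T y = orbCount T t :=
      Nat.card_congr (Equiv.subtypeEquivRight fun x => and_congr_right fun _ =>
        ⟨fun h => hyt.symm.trans h, fun h => hyt.trans h⟩)
    obtain ⟨c, hc⟩ := isConj_iff.1 hyt
    have hfy : fix3 y = fix3 t := by rw [fix3, fix3, ← hc, fixCount_conj]
    have hYeq : Ys = {y} := by
      refine Finset.eq_singleton_iff_unique_mem.2 ⟨hy, fun z hz => ?_⟩
      by_contra hne
      have h2 := (orbCount_facts hM T (hYs z hz).1 (hYs z hz).2).2.1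
      have hle := Finset.sum_le_sum_of_subset (f := fun w => orbCount T w)
        (show ({y, z} : Finset G) ⊆ Ys by
          intro w hw
          rcases Finset.mem_insert.1 hw with rfl | hw
          · exact hy
          · rw [Finset.mem_singleton.1 hw]; exact hz)
      rw [Finset.sum_pair (Ne.symm hne), hsum, hOy, hO] at hle
      omega
    rw [hYeq, Finset.sum_singleton, hOy, hO, hfy, h4] at hcong
    have hmul' := CfsgLib.SmallGroups.card_sylow_mul_card_normalizer T
    have hN' : Nat.card (normalizer ((T : Subgroup G) : Set G)) = 144 := hN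
    rw [hN', hM.2] at hmul'
    omega
  refine ⟨key, ?_⟩
  rw [key, one_mul] at hmul
  exact (Subgroup.eq_of_le_of_card_ge inf_le_right hmul.ge).symm

theorem orb_cases (hM : Cfsg.IsM11 G) (hN : Nat.card (sylN T) = 144) {t : G} (ht : t ∈ T)
    (ht1 : t ≠ 1) :
    (Nat.card (sylCN T t) = 9 * sylD T ∧ sylD T * orbCount T t = 16 ∧
        classCard t * twoCount t = 880) ∨
      (Nat.card (sylCN T t) = 2 * (9 * sylD T) ∧ sylD T * orbCount T t = 8 ∧
        classCard t * twoCount t = 1760) := by
  obtain ⟨horb, -, -⟩ := orbCount_facts hM T ht ht1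
  rw [hN] at horb
  rcases contribution hM T ht ht1 with ⟨h, h'⟩ | ⟨h, h'⟩
  · exact Or.inl ⟨h, by rw [h] at horb; linarith, h'⟩
  · exact Or.inr ⟨h, by rw [h] at horb; linarith, h'⟩

/-- An involution commuting with `t` is `T`-centralising when `C(t) = C(T)`. -/
theorem mem_sylC_of_commute (hM : Cfsg.IsM11 G) (hN : Nat.card (sylN T) = 144) {t x : G} (ht : t ∈ T)
    (ht1 : t ≠ 1) (hCN : Nat.card (sylCN T t) = 9 * sylD T) (h : x * t = t * x) : x ∈ sylC T := by
  have heq : sylC T = sylCN T t :=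
    Subgroup.eq_of_le_of_card_ge (sylC_le_CN T ht) (by rw [hCN, card_sylC hM T])
  rw [heq, ← (fix3_eq_one hM hN ht ht1).2]
  exact mem_centralizer_singleton_iff.2 h

theorem sylD_ne_eight (hM : Cfsg.IsM11 G) (hN : Nat.card (sylN T) = 144) : sylD T ≠ 8 := by
  intro hD
  obtain ⟨v, hv⟩ := exists_isSquareInv hM
  have : Fintype (T : Subgroup G) := Fintype.ofFinite _
  obtain ⟨Ys, hYs, hYc, -, hsum, -⟩ := exists_reps hM T
  have hall : ∀ t ∈ T, t ≠ 1 → Nat.card (sylCN T t) = 9 * sylD T ∧ orbCount T t = 2 ∧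
      classCard t * twoCount t = 880 := by
    intro t ht ht1
    have h2 := (orbCount_facts hM T ht ht1).2.1
    rcases orb_cases hM hN ht ht1 with ⟨h, h', h''⟩ | ⟨h, h', h''⟩ <;> rw [hD] at h'
    · exact ⟨h, by omega, h''⟩
    · omega
  have hb := budget_reps' hM T hv hYs hYc
  rw [Finset.sum_congr rfl (g := fun _ => 880) fun y hy => (hall y (hYs y hy).1 (hYs y hy).2).2.2,
    Finset.sum_const, smul_eq_mul] at hb
  rw [Finset.sum_congr rfl (g := fun _ => 2) fun y hy => (hall y (hYs y hy).1 (hYs y hy).2).2.1,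
    Finset.sum_const, smul_eq_mul] at hsum
  rcases classCard_square hM hv with ⟨-, h⟩ | ⟨h48, -⟩
  · omega
  obtain ⟨v', t, hv', ht, ht1, -, hcomm⟩ := exists_commuting hM T h48
  exact hv.not_mem_sylC hM T hv' (mem_sylC_of_commute hM hN ht ht1 (hall t ht ht1).1 hcomm)

theorem orbCount_sum_lower (hM : Cfsg.IsM11 G) (hN : Nat.card (sylN T) = 144) (hD : sylD T = 4)
    {Ys : Finset G} (hYs : ∀ y ∈ Ys, y ∈ T ∧ y ≠ 1) (hsum : ∑ y ∈ Ys, orbCount T y = 8)
    {y : G} (hy : y ∈ Ys) (hy2 : orbCount T y = 2) :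
    4400 ≤ ∑ y ∈ Ys, classCard y * twoCount y := by
  have hlin : ∀ z ∈ Ys, classCard z * twoCount z + 440 * orbCount T z = 2640 := by
    intro z hz
    rcases orb_cases hM hN (hYs z hz).1 (hYs z hz).2 with ⟨-, h', h''⟩ | ⟨-, h', h''⟩ <;>
      rw [hD] at h' <;> omega
  have htot : ∑ z ∈ Ys, (classCard z * twoCount z + 440 * orbCount T z) = Ys.card * 2640 := by
    rw [Finset.sum_congr rfl hlin, Finset.sum_const, smul_eq_mul]
  rw [Finset.sum_add_distrib, ← Finset.mul_sum, hsum] at htot
  have hcard : 3 ≤ Ys.card := by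
    by_contra hlt
    have hle : ∑ z ∈ Ys.erase y, orbCount T z ≤ (Ys.erase y).card • 4 := by
      refine Finset.sum_le_card_nsmul _ _ _ fun z hz => ?_
      have hz' := Finset.mem_of_mem_erase hz
      rcases orb_cases hM hN (hYs z hz').1 (hYs z hz').2 with ⟨-, h', -⟩ | ⟨-, h', -⟩ <;>
        rw [hD] at h' <;> omega
    rw [Finset.card_erase_of_mem hy, smul_eq_mul] at hle
    have := Finset.add_sum_erase _ (fun z => orbCount T z) hy
    rw [hy2, hsum] at this
    omega
  omega

theorem countA_central (hM : Cfsg.IsM11 G) (hN : Nat.card (sylN T) = 144) {d : G}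
    (hdC : d ∈ sylC T) (hd : orderOf d = 2) (hd144 : Nat.card (centralizer ({d} : Set G)) = 144)
    (hdN : centralizer ({d} : Set G) = sylN T) : countA T d = 1 := by
  have hset : {h : G | h ∈ sylC T ∧ IsConj d h} = {d} := by
    refine Set.eq_singleton_iff_unique_mem.2 ⟨⟨hdC, IsConj.refl d⟩, ?_⟩
    rintro e ⟨heC, hc⟩
    obtain ⟨g, hg⟩ := isConj_iff.1 hc
    set H := centralizer ({e} : Set G) with hHdef
    have hHc : Nat.card H = 144 := by
      rw [hHdef, ← hg, card_centralizer_conj, hd144]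
    have hTH : (T : Subgroup G) ≤ H := fun x hx =>
      mem_centralizer_singleton_iff.2 (commute_sylC heC hx).symm
    set M := normalizer ((T.subtype hTH : Subgroup H) : Set H) with hMdef
    have hMN : ∀ x : H, x ∈ M → (x : G) ∈ sylN T := by
      intro x hx
      refine Subgroup.mem_normalizer_iff.2 fun y => ⟨fun hy => ?_, fun hy => ?_⟩
      · exact (Subgroup.mem_normalizer_iff.1 hx ⟨y, hTH hy⟩).1 hy
      · have hyH : y ∈ H := by
          have := H.mul_mem (H.mul_mem (H.inv_mem x.2) (hTH hy)) x.2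
          simpa [mul_assoc] using this
        exact (Subgroup.mem_normalizer_iff.1 hx ⟨y, hyH⟩).2 hy
    have hmul := CfsgLib.SmallGroups.card_sylow_mul_card_normalizer (T.subtype hTH)
    have hT9 : Nat.card ((T.subtype hTH : Sylow 3 H) : Subgroup H) = 9 :=
      (Nat.card_congr (subgroupOfEquivOfLe hTH).toEquiv).trans (card_three_sylow hM T)
    have he2 : orderOf e = 2 := by rw [← hg, ← MulAut.conj_apply, MulEquiv.orderOf_eq, hd]
    have heM : (⟨e, mem_centralizer_singleton_iff.2 rfl⟩ : H) ∈ M :=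
      Subgroup.mem_normalizer_iff.2 fun y =>
        Subgroup.mem_normalizer_iff.1 (centralizer_le_normalizer _ heC) y.1
    obtain ⟨q, hq⟩ := (dvd_of_eq hT9.symm).trans (card_dvd_of_le (le_normalizer
      (H := ((T.subtype hTH : Sylow 3 H) : Subgroup H))))
    have h2 : 2 ∣ Nat.card M := by
      have := Subgroup.orderOf_dvd_natCard _ heM
      rwa [orderOf_mk, he2] at this
    have hq' : Nat.card M = 9 * q := hq
    rw [show normalizer ((T.subtype hTH : Subgroup H) : Set H) = M from rfl, hHc, hq'] at hmul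
    have hmod : Nat.card (Sylow 3 H) % 3 = 1 := card_sylow_modEq_one 3 H
    have h16 : Nat.card (Sylow 3 H) * q = 16 := by linarith
    have hn : Nat.card (Sylow 3 H) ∈ Nat.divisors 16 :=
      Nat.mem_divisors.2 ⟨Dvd.intro q h16, by norm_num⟩
    rw [show Nat.divisors 16 = {1, 2, 4, 8, 16} by decide +kernel] at hn
    simp only [Finset.mem_insert, Finset.mem_singleton] at hn
    have hne4 : Nat.card (Sylow 3 H) ≠ 4 := by
      intro h4
      -- two elements of `T` move a second Sylow subgroup of `C(e)` alike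
      obtain ⟨Q, hQ⟩ : ∃ Q : Sylow 3 H, Q ≠ T.subtype hTH := by
        by_contra hall
        push Not at hall
        have : Subsingleton (Sylow 3 H) := ⟨fun A B => (hall A).trans (hall B).symm⟩
        have := Nat.card_of_subsingleton (T.subtype hTH)
        omega
      have : Fintype (Sylow 3 H) := Fintype.ofFinite _
      have : Fintype (T : Subgroup G) := Fintype.ofFinite _
      obtain ⟨a, b, hab, heq⟩ := Fintype.exists_ne_map_eq_of_card_lt
        (fun t : (T : Subgroup G) => (⟨t.1, hTH t.2⟩ : H) • Q) (by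
          rw [← Nat.card_eq_fintype_card, ← Nat.card_eq_fintype_card, h4, card_three_sylow hM T]
          norm_num)
      have hu : (⟨(b : G)⁻¹ * a, H.mul_mem (H.inv_mem (hTH b.2)) (hTH a.2)⟩ : H) • Q = Q := by
        have : (⟨b.1, hTH b.2⟩ : H)⁻¹ • (⟨a.1, hTH a.2⟩ : H) • Q = Q := by
          rw [inv_smul_eq_iff]; exact heq
        rw [← mul_smul] at this
        exact this
      set u := (b : G)⁻¹ * a with hudef
      have huT : u ∈ T := (T : Subgroup G).mul_mem ((T : Subgroup G).inv_mem b.2) a.2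
      have hu1 : u ≠ 1 := fun h => hab (Subtype.ext (inv_mul_eq_one.1 h).symm)
      obtain ⟨Q', hQ'⟩ := (Q.2.map H.subtype).exists_le_sylow
      have hQc : Nat.card (Q : Subgroup H) = 9 := by
        simpa using CfsgLib.SmallGroups.card_sylow_eq (G := H) (p := 3) (a := 2) (m := 16)
          (by rw [hHc]; norm_num) (by norm_num) Q
      have hQ'eq : (Q : Subgroup H).map H.subtype = (Q' : Subgroup G) :=
        Subgroup.eq_of_le_of_card_ge hQ' (by
          rw [Subgroup.card_map_of_injective H.subtype_injective, hQc, card_three_sylow hM Q'])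
      have huQ' : u • Q' = Q' := by
        refine Sylow.smul_eq_iff_mem_normalizer.2 (Subgroup.mem_normalizer_iff.2 fun y => ?_)
        rw [← hQ'eq]
        have hnorm := Sylow.smul_eq_iff_mem_normalizer.1 hu
        constructor
        · rintro ⟨z, hz, rfl⟩
          exact ⟨_, (Subgroup.mem_normalizer_iff.1 hnorm z).1 hz, by simp [hudef]⟩
        · rintro ⟨z, hz, hzy⟩
          simp only [Subgroup.coe_subtype] at hzy
          have huH : u ∈ H := hTH huT
          refine ⟨(⟨u, huH⟩ : H)⁻¹ * z * ⟨u, huH⟩, (Subgroup.mem_normalizer_iff''.1 hnorm z).1 hz, ?_⟩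
          show u⁻¹ * (z : G) * u = y
          rw [hzy]; group
      have hTfix : u • T = T := Sylow.smul_eq_iff_mem_normalizer.2 (le_normalizer huT)
      have hne : Q' ≠ T := by
        intro e'
        refine hQ (Sylow.ext (Subgroup.eq_of_le_of_card_ge ?_ ?_))
        · intro z hz
          show (z : G) ∈ (T : Subgroup G)
          rw [← e', ← hQ'eq]
          exact ⟨z, hz, rfl⟩
        · rw [hQc, hT9]
      have h2' : 2 ≤ fix3 u := by
        have hp := Nat.card_le_card_of_injective
          (fun c : Bool => (cond c ⟨T, hTfix⟩ ⟨Q', huQ'⟩ : {R : Sylow 3 G // u • R = R}))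
          (by
            intro c c' h
            have h' := congrArg Subtype.val h
            cases c <;> cases c' <;> first
              | rfl
              | exact absurd h' hne
              | exact absurd h'.symm hne)
        simpa [fix3, fixCount] using hp
      have := (fix3_eq_one hM hN huT hu1).1
      omega
    have hn1 : Nat.card (Sylow 3 H) = 1 := by
      rcases hn with h | h | h | h | h <;> first
        | exact h
        | omega
        | exact absurd h hne4
        | (exfalso; rw [h] at h16; omega)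
    rw [hn1, one_mul] at h16
    have hMtop : M = ⊤ := Subgroup.eq_top_of_card_eq M (by rw [hq', hHc, h16])
    have hHN : H = sylN T := Subgroup.eq_of_le_of_card_ge
      (fun x hx => hMN ⟨x, hx⟩ (hMtop ▸ mem_top _)) (by rw [hN, hHc])
    have hgN : g ∈ sylN T := by
      refine Sylow.smul_eq_iff_mem_normalizer.1 (Sylow.ext (Subgroup.eq_of_le_of_card_ge ?_ ?_))
      · intro x hx
        rw [Sylow.smul_def, Sylow.pointwise_smul_def, Subgroup.pointwise_smul_def] at hx
        obtain ⟨t, ht, rfl⟩ := hx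
        show g * t * g⁻¹ ∈ (T : Subgroup G)
        refine mem_of_normalizing T ?_
          (by rw [conj_pow, pow_nine_of_mem hM T ht, mul_one, mul_inv_cancel])
        have htd : t * d = d * t := (commute_sylC hdC ht).symm
        rw [← hHN, hHdef, mem_centralizer_singleton_iff, ← hg]
        calc g * t * g⁻¹ * (g * d * g⁻¹) = g * (t * d) * g⁻¹ := by group
          _ = g * d * g⁻¹ * (g * t * g⁻¹) := by rw [htd]; group
      · rw [card_three_sylow hM T, card_three_sylow hM (_ : Sylow 3 G)]
    rw [← hdN] at hgN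
    rw [← hg, mem_centralizer_singleton_iff.1 hgN, mul_inv_cancel_right]
  rw [countA, hset]
  simp

theorem not_conj_of_centralizer (hM : Cfsg.IsM11 G) {v d : G} (hv : IsSquareInv v)
    (hd : Nat.card (centralizer ({d} : Set G)) = 144) : ¬ IsConj v d := by
  intro h
  obtain ⟨c, hc⟩ := isConj_iff.1 h
  rw [← hc, card_centralizer_conj] at hd
  rcases hv.card_centralizer hM with h' | h' <;> omega

theorem countA_square (hM : Cfsg.IsM11 G) {v : G} (hv : IsSquareInv v) : countA T v = 0 := by
  rw [countA, Nat.card_eq_zero]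
  exact Or.inl ⟨fun h => hv.not_mem_sylC hM T h.2.2 h.2.1⟩

theorem orderOf_conj_eq {x h : G} (hx : orderOf x = 2) (hc : IsConj x h) :
    orderOf h = 2 ∧ h * h = 1 := by
  obtain ⟨c, rfl⟩ := isConj_iff.1 hc
  have h2 : orderOf (c * x * c⁻¹) = 2 := by rw [← MulAut.conj_apply, MulEquiv.orderOf_eq, hx]
  exact ⟨h2, (inv_facts h2).1⟩

theorem countR_eq_zero (hM : Cfsg.IsM11 G) {x : G} (hx : orderOf x = 2)
    (h : ∀ t ∈ T, t ≠ 1 → ∀ y, IsConj x y → y * t = t * y → y ∈ sylC T) : countR T x = 0 := by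
  rw [countR, Nat.card_eq_zero]
  refine Or.inl ⟨fun y => ?_⟩
  obtain ⟨t, ht, ht1, hyt⟩ := commutes_of_not_inverts hM y.2.1 (orderOf_conj_eq hx y.2.2.2.2).2 y.2.2.2.1
  exact y.2.2.1 (h t ht ht1 y.1 y.2.2.2.2 hyt)

/-- An element commuting with a nontrivial element of `T` outside `C(T)` is counted by `countR`. -/
theorem countR_pos (hM : Cfsg.IsM11 G) (hN : Nat.card (sylN T) = 144) {x y t : G}
    (hc : IsConj x y) (ht : t ∈ T) (ht1 : t ≠ 1) (hyt : y * t = t * y) (hy : y ∉ sylC T) :
    0 < countR T x := by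
  have hyN : y ∈ sylN T := by
    have hmem : y ∈ centralizer ({t} : Set G) := mem_centralizer_singleton_iff.2 hyt
    rw [(fix3_eq_one hM hN ht ht1).2] at hmem
    exact hmem.1
  refine Nat.card_pos_iff.2 ⟨⟨⟨y, hyN, hy, fun hI => ?_, hc⟩⟩, inferInstance⟩
  have h2 : t⁻¹ = t := by rw [← hI t ht, hyt, mul_inv_cancel_right]
  have h3 : t ^ 2 = 1 := by rw [sq]; nth_rewrite 1 [← h2]; exact inv_mul_cancel t
  exact ht1 (pow_eq_of_coprime (pow_nine_of_mem hM T ht) h3 (by norm_num))

theorem sylD_ne_four (hM : Cfsg.IsM11 G) (hN : Nat.card (sylN T) = 144) : sylD T ≠ 4 := by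
  intro hD
  obtain ⟨v, hv⟩ := exists_isSquareInv hM
  obtain ⟨P, -⟩ := exists_split T hN
  obtain ⟨d, hd, hdC, hd144, hdN⟩ := exists_central_involution hM hN (by rw [hD]; norm_num)
  have hvd := not_conj_of_centralizer hM hv hd144
  have : Fintype (T : Subgroup G) := Fintype.ofFinite _
  obtain ⟨Ys, hYs, hYc, hcov, hsum, -⟩ := exists_reps hM T
  by_cases h2 : ∃ y ∈ Ys, orbCount T y = 2
  · obtain ⟨y, hy, hy2⟩ := h2
    have := orbCount_sum_lower hM hN hD hYs hsum hy hy2
    have hb := budget_reps hM T hv hYs hYc hd hvd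
    have h55 := classCard_ge hM hd
    rcases classCard_square hM hv with ⟨-, h⟩ | ⟨-, h⟩ <;> omega
  push Not at h2
  have hall : ∀ t ∈ T, t ≠ 1 → Nat.card (sylCN T t) = 9 * sylD T := by
    intro t ht ht1
    rcases orb_cases hM hN ht ht1 with ⟨h, -⟩ | ⟨-, h', -⟩
    · exact h
    · obtain ⟨y, hy, hyt⟩ := hcov t ht ht1
      exfalso
      refine h2 y hy ?_
      rw [hD] at h'
      have hOy : orbCount T y = orbCount T t :=
        Nat.card_congr (Equiv.subtypeEquivRight fun x => and_congr_right fun _ =>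
          ⟨fun h => hyt.symm.trans h, fun h => hyt.trans h⟩)
      omega
  have hR : ∀ x : G, orderOf x = 2 → countR T x = 0 := fun x hx =>
    countR_eq_zero hM hx fun t ht ht1 y _ hyt => mem_sylC_of_commute hM hN ht ht1 (hall t ht ht1) hyt
  have hv16 : Nat.card (centralizer ({v} : Set G)) = 16 := by
    refine (hv.card_centralizer hM).resolve_right fun h48 => ?_
    obtain ⟨v', t, hv', ht, ht1, -, hcomm⟩ := exists_commuting hM T h48
    exact hv.not_mem_sylC hM T hv' (mem_sylC_of_commute hM hN ht ht1 (hall t ht ht1) hcomm)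
  obtain ⟨f, hf, hfeq⟩ := parity_fifty_five hM hN hv.1
  rw [hv16, conjCount_eq P hM hv.1, countA_square hM hv, hR v hv.1] at hfeq
  obtain ⟨g, hg, hgeq⟩ := parity_fifty_five hM hN hd
  rw [hd144, conjCount_eq P hM hd, countA_central hM hN hdC hd hd144 hdN, hR d hd] at hgeq
  have := countK_add_le P hM hvd
  omega

/-- Involutions outside `C(T)` commuting with some element of `T`: at most 24 for `|C(T)| = 18`. -/
theorem countR_sum_le (hM : Cfsg.IsM11 G) (hN : Nat.card (sylN T) = 144) (hD : sylD T = 2)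
    (Xs : Finset G) (hX : ∀ x ∈ Xs, orderOf x = 2)
    (hXc : ∀ x ∈ Xs, ∀ y ∈ Xs, IsConj x y → x = y) : ∑ x ∈ Xs, countR T x ≤ 24 := by
  have : Fintype G := Fintype.ofFinite G
  let Tn : Finset G := Finset.univ.filter fun t => t ∈ T ∧ t ≠ 1
  let R : G → Finset G := fun x => Finset.univ.filter fun h =>
    h ∈ sylN T ∧ h ∉ sylC T ∧ ¬ Inverts T h ∧ IsConj x h
  let U : Finset G := Xs.biUnion R
  have hUcard : U.card = ∑ x ∈ Xs, countR T x := by
    rw [Finset.card_biUnion]
    · refine Finset.sum_congr rfl fun x _ => ?_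
      show (Finset.univ.filter _).card = _
      rw [← Fintype.card_subtype, ← Nat.card_eq_fintype_card]
      rfl
    · intro x hx y hy hne
      rw [Function.onFun, Finset.disjoint_left]
      intro g hg hg'
      exact hne (hXc x hx y hy ((Finset.mem_filter.1 hg).2.2.2.2.trans
        (Finset.mem_filter.1 hg').2.2.2.2.symm))
  have hTn : Tn.card = 8 := by
    have h1 : Tn = (Finset.univ.filter fun t => t ∈ T).erase 1 := by
      ext t; simp [Tn, and_comm]
    have h9 : (Finset.univ.filter fun t => t ∈ T).card = 9 := by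
      rw [← Fintype.card_subtype, ← Nat.card_eq_fintype_card]
      exact card_three_sylow hM T
    rw [h1, Finset.card_erase_of_mem (by simp [one_mem]), h9]
  have hdc := Finset.sum_card_bipartiteAbove_eq_sum_card_bipartiteBelow
    (r := fun (t x : G) => x * t = t * x) (s := Tn) (t := U)
  simp only [Finset.bipartiteAbove, Finset.bipartiteBelow] at hdc
  have hlow : ∀ x ∈ U, 2 ≤ (Tn.filter fun t => x * t = t * x).card := by
    intro x hx
    obtain ⟨x0, hx0, hxR⟩ := Finset.mem_biUnion.1 hx
    obtain ⟨hxN, hxC, hxI, hxc⟩ := (Finset.mem_filter.1 hxR).2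
    obtain ⟨t, ht, ht1, hxt⟩ := commutes_of_not_inverts hM hxN (orderOf_conj_eq (hX x0 hx0) hxc).2 hxI
    have hne : t ≠ t⁻¹ := fun e => ht1 (pow_eq_of_coprime (pow_nine_of_mem hM T ht)
      (show t ^ 2 = 1 by rw [sq]; nth_rewrite 2 [e]; exact mul_inv_cancel t) (by norm_num))
    rw [← Finset.card_pair hne]
    refine Finset.card_le_card fun y hy => ?_
    rw [Finset.mem_insert, Finset.mem_singleton] at hy
    rcases hy with rfl | rfl
    · exact Finset.mem_filter.2 ⟨Finset.mem_filter.2 ⟨Finset.mem_univ _, ht, ht1⟩, hxt⟩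
    · exact Finset.mem_filter.2 ⟨Finset.mem_filter.2 ⟨Finset.mem_univ _,
        (T : Subgroup G).inv_mem ht, inv_ne_one.2 ht1⟩, (show Commute x t from hxt).inv_right⟩
  have hup : ∀ t ∈ Tn, (U.filter fun x => x * t = t * x).card ≤ 6 := by
    intro t ht
    obtain ⟨htT, ht1⟩ := (Finset.mem_filter.1 ht).2
    have hcl := classCard_mul_eq hM t
    rw [(fix3_eq_one hM hN htT ht1).2] at hcl
    have h8 : twoCount t ≤ 8 := by
      rcases contribution hM T htT ht1 with ⟨h, h'⟩ | ⟨h, h'⟩ <;> rw [h, hD] at hcl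
      · have e : classCard t = 440 := by omega
        rw [e] at h'; omega
      · have e : classCard t = 220 := by omega
        rw [e] at h'; omega
    let K : Finset G := Finset.univ.filter fun x => x ∈ sylC T ∧ x ^ 16 = 1
    let A : Finset G := Finset.univ.filter fun x => x * t = t * x ∧ x ^ 16 = 1
    have hK : K.card = 2 := by
      show (Finset.univ.filter _).card = _
      rw [← Fintype.card_subtype, ← Nat.card_eq_fintype_card]
      exact hD
    have hA : A.card = twoCount t := by
      show (Finset.univ.filter _).card = _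
      rw [← Fintype.card_subtype, ← Nat.card_eq_fintype_card]
      rfl
    have hsub : (U.filter fun x => x * t = t * x) ⊆ A \ K := by
      intro x hx
      obtain ⟨hxU, hxt⟩ := Finset.mem_filter.1 hx
      obtain ⟨x0, hx0, hxR⟩ := Finset.mem_biUnion.1 hxU
      obtain ⟨hxN, hxC, hxI, hxc⟩ := (Finset.mem_filter.1 hxR).2
      have h16 : x ^ 16 = 1 := by
        rw [show 16 = 2 * 8 by norm_num, pow_mul, sq, (orderOf_conj_eq (hX x0 hx0) hxc).2, one_pow]
      exact Finset.mem_sdiff.2 ⟨Finset.mem_filter.2 ⟨Finset.mem_univ _, hxt, h16⟩,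
        fun h => hxC (Finset.mem_filter.1 h).2.1⟩
    have hKA : K ⊆ A := fun x hx => by
      obtain ⟨hxC, h16⟩ := (Finset.mem_filter.1 hx).2
      exact Finset.mem_filter.2 ⟨Finset.mem_univ _, commute_sylC hxC htT, h16⟩
    have := Finset.card_le_card hsub
    rw [Finset.card_sdiff_of_subset hKA, hK, hA] at this
    omega
  have h1 := Finset.sum_le_card_nsmul _ _ _ hup
  have h2 := Finset.card_nsmul_le_sum _ _ _ hlow
  rw [hdc, hTn, smul_eq_mul] at h1
  rw [smul_eq_mul] at h2
  omega

theorem sylD_ne_two (hM : Cfsg.IsM11 G) (hN : Nat.card (sylN T) = 144) : sylD T ≠ 2 := by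
  intro hD
  have : Fintype G := Fintype.ofFinite G
  obtain ⟨v, hv⟩ := exists_isSquareInv hM
  obtain ⟨P, -⟩ := exists_split T hN
  obtain ⟨d, hd, hdC, hd144, hdN⟩ := exists_central_involution hM hN (by rw [hD])
  have hvd := not_conj_of_centralizer hM hv hd144
  have hO : ∀ t ∈ T, t ≠ 1 → 3 ≤ orbCount T t := fun t ht ht1 => by
    rcases orb_cases hM hN ht ht1 with ⟨-, h', -⟩ | ⟨-, h', -⟩ <;> rw [hD] at h' <;> omega
  -- the only involution of `C(T)` is `d`
  have honly : ∀ x ∈ sylC T, orderOf x = 2 → x = d := by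
    intro x hx hx2
    by_contra hne
    have hsub : ({1, d, x} : Set G) ⊆ {y : G | y ∈ sylC T ∧ y ^ 16 = 1} := by
      rintro y (rfl | rfl | rfl)
      · exact ⟨one_mem _, one_pow _⟩
      · exact ⟨hdC, orderOf_dvd_iff_pow_eq_one.1 (hd ▸ (by norm_num))⟩
      · exact ⟨hx, orderOf_dvd_iff_pow_eq_one.1 (hx2 ▸ (by norm_num))⟩
    have h1d : (1 : G) ≠ d := fun e => by rw [← e, orderOf_one] at hd; omega
    have h1x : (1 : G) ≠ x := fun e => by rw [← e, orderOf_one] at hx2; omega
    have hle := Set.ncard_le_ncard hsub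
    rw [Set.ncard_eq_three.2 ⟨1, d, x, h1d, h1x, Ne.symm hne, rfl⟩, ← Nat.card_coe_set_eq] at hle
    have hD' : Nat.card {y : G | y ∈ sylC T ∧ y ^ 16 = 1} = 2 := hD
    omega
  obtain ⟨f, hf, hfeq⟩ := parity_fifty_five hM hN hv.1
  rw [conjCount_eq P hM hv.1, countA_square hM hv] at hfeq
  have hev := countR_even hM hN v hO hv.1
  have hk := countK_add_le P hM hvd
  rw [hD] at hk
  -- `|C(v)| = 48`
  have hv48 : Nat.card (centralizer ({v} : Set G)) = 48 := by
    refine (hv.card_centralizer hM).resolve_left fun h16 => ?_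
    have hR0 : countR T v = 0 := by
      refine countR_eq_zero hM hv.1 fun t ht ht1 y hc hyt => ?_
      exfalso
      obtain ⟨c, hc⟩ := isConj_iff.1 hc
      have hd' : orderOf t ∣ Nat.card (centralizer ({y} : Set G)) :=
        Subgroup.orderOf_dvd_natCard _ (mem_centralizer_singleton_iff.2 hyt.symm)
      rw [← hc, card_centralizer_conj, h16] at hd'
      exact ht1 (orderOf_eq_one_iff.1 (Nat.eq_one_of_dvd_coprimes (by norm_num : Nat.Coprime 16 9)
        hd' (orderOf_dvd_of_pow_eq_one (pow_nine_of_mem hM T ht))))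
    rw [h16, hR0] at hfeq
    omega
  rw [hv48] at hfeq
  obtain ⟨v', t', hv', ht', ht'1, -, hv't'⟩ := exists_commuting hM T hv48
  have hRv := countR_pos hM hN hv' ht' ht'1 hv't' (hv.not_mem_sylC hM T hv')
  obtain ⟨g, hg, hgeq⟩ := parity_fifty_five hM hN hd
  rw [hd144, conjCount_eq P hM hd, countA_central hM hN hdC hd hd144 hdN] at hgeq
  have hdev := countR_even hM hN d hO hd
  have hkv : countK P v = 1 := by omega
  have hkd : countK P d = 0 := by omega
  have hRd : 2 ≤ countR T d := by omega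
  have hRv12 : 12 ≤ countR T v := by omega
  -- the third class of involutions
  obtain ⟨hsub, ⟨⟨s, hsS, hsI, hsc⟩⟩⟩ := Nat.card_eq_one_iff_unique.1 hkv
  have hs2 := (orderOf_conj_eq hv.1 hsc)
  have hdS : d ∈ P.S := P.mem_of_sylC hM hdC (orderOf_dvd_iff_pow_eq_one.1 (hd ▸ (by norm_num)))
  have hdd := (inv_facts hd).1
  have hds : Commute d s := by
    have hsN := P.le hsS
    rw [← hdN] at hsN
    exact (mem_centralizer_singleton_iff.1 hsN).symm
  have hscentral : ∀ k ∈ P.S, k * s = s * k := by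
    intro k hk
    have hmem : k * s * k⁻¹ ∈ {h : G | h ∈ P.S ∧ Inverts T h ∧ IsConj v h} := by
      refine ⟨P.S.mul_mem (P.S.mul_mem hk hsS) (P.S.inv_mem hk), fun t ht => ?_,
        hsc.trans (isConj_iff.2 ⟨k, rfl⟩)⟩
      have hkt : k⁻¹ * t * k ∈ T := (Subgroup.mem_normalizer_iff''.1 (P.le hk) t).1 ht
      calc k * s * k⁻¹ * t * (k * s * k⁻¹)⁻¹ = k * (s * (k⁻¹ * t * k) * s⁻¹) * k⁻¹ := by group
        _ = t⁻¹ := by rw [hsI _ hkt]; group
    have heq : (⟨_, hmem⟩ : {h : G | h ∈ P.S ∧ Inverts T h ∧ IsConj v h}) = ⟨s, hsS, hsI, hsc⟩ :=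
      Subsingleton.elim _ _
    exact mul_inv_eq_iff_eq_mul.1 (congrArg Subtype.val heq)
  set u := d * s with hudef
  have hsne : s ≠ 1 := (inv_facts hs2.1).2.1
  have hu1 : u ≠ 1 := by
    intro e
    have hds' : d = s := by
      calc d = d * (s * s) := by rw [hs2.2, mul_one]
        _ = u * s := by rw [hudef, mul_assoc]
        _ = s := by rw [e, one_mul]
    exact hsI.not_mem_sylC hM (hds' ▸ hdC)
  have hu2 : orderOf u = 2 := orderOf_eq_prime (by
    rw [sq, hudef, hds.symm.mul_mul_mul_comm, hdd, hs2.2, one_mul]) hu1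
  have huS : u ∈ P.S := P.S.mul_mem hdS hsS
  have huI : Inverts T u := hsI.mul_sylC hdC
  have hcentralu : ∀ k ∈ P.S, k * u = u * k := fun k hk => by
    have h1 : Commute k d := by
      have hkN := P.le hk
      rw [← hdN] at hkN
      exact mem_centralizer_singleton_iff.1 hkN
    exact (h1.mul_right (hscentral k hk)).eq
  have hvu : ¬ IsConj v u := by
    intro h
    have heq : (⟨u, huS, huI, h⟩ : {h : G | h ∈ P.S ∧ Inverts T h ∧ IsConj v h}) =
        ⟨s, hsS, hsI, hsc⟩ := Subsingleton.elim _ _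
    have hds' : d * s = 1 * s := by rw [one_mul]; exact congrArg Subtype.val heq
    rw [mul_right_cancel hds', orderOf_one] at hd
    omega
  have hdu : ¬ IsConj d u := fun h => by
    have h1 : 0 < countK P d := Nat.card_pos_iff.2 ⟨⟨⟨u, huS, huI, h⟩⟩, inferInstance⟩
    omega
  have hAu : countA T u = 0 := by
    rw [countA, Nat.card_eq_zero]
    exact Or.inl ⟨fun h => hdu ((honly h.1 h.2.1 (orderOf_conj_eq hu2 h.2.2).1) ▸ h.2.2).symm⟩
  have hku : countK P u = 1 := by
    have h1 : 0 < countK P u := Nat.card_pos_iff.2 ⟨⟨⟨u, huS, huI, IsConj.refl u⟩⟩, inferInstance⟩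
    have := countK_add_le P hM hvu
    rw [hD] at this
    omega
  have h16u : 16 ∣ Nat.card (centralizer ({u} : Set G)) := by
    rw [← P.card_S]
    exact card_dvd_of_le fun k hk => mem_centralizer_singleton_iff.2 (hcentralu k hk)
  obtain ⟨m, hm⟩ := h16u
  have hm9 : m ∈ Nat.divisors 9 := by
    have h144 := centralizer_involution_dvd hM hu2
    rw [hm, show 144 = 16 * 9 by norm_num] at h144
    exact Nat.mem_divisors.2 ⟨Nat.dvd_of_mul_dvd_mul_left (by norm_num) h144, by norm_num⟩
  rw [show Nat.divisors 9 = {1, 3, 9} by decide] at hm9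
  simp only [Finset.mem_insert, Finset.mem_singleton] at hm9
  obtain ⟨j, hj, hjeq⟩ := parity_fifty_five hM hN hu2
  rw [hm, conjCount_eq P hM hu2, hAu, hku] at hjeq
  have huev := countR_even hM hN u hO hu2
  have htot := countR_sum_le hM hN hD {v, d, u} (by
      intro x hx
      simp only [Finset.mem_insert, Finset.mem_singleton] at hx
      rcases hx with rfl | rfl | rfl
      · exact hv.1
      · exact hd
      · exact hu2) (by
      intro x hx y hy hxy
      simp only [Finset.mem_insert, Finset.mem_singleton] at hx hy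
      rcases hx with rfl | rfl | rfl <;> rcases hy with rfl | rfl | rfl <;> first
        | rfl | exact absurd hxy hvd | exact absurd hxy.symm hvd | exact absurd hxy hvu
        | exact absurd hxy.symm hvu | exact absurd hxy hdu | exact absurd hxy.symm hdu)
  have hvd' : v ≠ d := fun e => hvd (e ▸ IsConj.refl v)
  have hvu' : v ≠ u := fun e => hvu (e ▸ IsConj.refl v)
  have hdu' : d ≠ u := fun e => hdu (e ▸ IsConj.refl d)
  rw [Finset.sum_insert (by simp [hvd', hvu']), Finset.sum_pair hdu'] at htot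
  rcases hm9 with rfl | rfl | rfl
  · have hR0 : countR T u = 0 := by
      refine countR_eq_zero hM hu2 fun t ht ht1 y hc hyt => ?_
      exfalso
      obtain ⟨c, hc⟩ := isConj_iff.1 hc
      have hd' : orderOf t ∣ Nat.card (centralizer ({y} : Set G)) :=
        Subgroup.orderOf_dvd_natCard _ (mem_centralizer_singleton_iff.2 hyt.symm)
      rw [← hc, card_centralizer_conj, hm] at hd'
      exact ht1 (orderOf_eq_one_iff.1 (Nat.eq_one_of_dvd_coprimes (by norm_num : Nat.Coprime (16 * 1) 9)
        hd' (orderOf_dvd_of_pow_eq_one (pow_nine_of_mem hM T ht))))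
    rw [hR0] at hjeq
    omega
  · obtain ⟨u', t, hu', ht, ht1, -, hut⟩ := exists_commuting hM T (v := u) (by rw [hm])
    have hu'C : u' ∉ sylC T := fun h => by
      have h1 : 0 < countA T u := Nat.card_pos_iff.2 ⟨⟨⟨u', h, hu'⟩⟩, inferInstance⟩
      omega
    have hRu := countR_pos hM hN hu' ht ht1 hut hu'C
    omega
  · -- then `u` centralises a Sylow 3-subgroup
    have : Fact (Nat.Prime 3) := ⟨by norm_num⟩
    obtain ⟨Q, hQ⟩ := Sylow.exists_subgroup_card_pow_prime (G := centralizer ({u} : Set G)) 3 (n := 2)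
      (by rw [hm]; norm_num)
    obtain ⟨T', hT'⟩ := (IsPGroup.of_card (p := 3) (n := 2)
      (by rw [Subgroup.card_map_of_injective (Subgroup.subtype_injective _), hQ] :
        Nat.card (Q.map (Subgroup.subtype _)) = 3 ^ 2)).exists_le_sylow
    have heq : Q.map (Subgroup.subtype _) = (T' : Subgroup G) := Subgroup.eq_of_le_of_card_ge hT' (by
      rw [Subgroup.card_map_of_injective (Subgroup.subtype_injective _), hQ, card_three_sylow hM T']
      norm_num)
    obtain ⟨g, hg⟩ := exists_conj_sylow T' T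
    have hmem : g * u * g⁻¹ ∈ sylC T := by
      refine mem_centralizer_iff.2 fun y hy => ?_
      have hy' : g⁻¹ * y * g ∈ (T' : Subgroup G) :=
        (hg _).1 (by rw [show g * (g⁻¹ * y * g) * g⁻¹ = y by group]; exact hy)
      rw [← heq] at hy'
      have hh := mem_centralizer_singleton_iff.1 (map_subtype_le Q hy')
      calc y * (g * u * g⁻¹) = g * ((g⁻¹ * y * g) * u) * g⁻¹ := by group
        _ = g * u * g⁻¹ * y := by rw [hh]; group
    have h1 : 0 < countA T u :=
      Nat.card_pos_iff.2 ⟨⟨⟨_, hmem, isConj_iff.2 ⟨g, rfl⟩⟩⟩, inferInstance⟩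
    omega

theorem sylD_eq_one (hM : Cfsg.IsM11 G) (hN : Nat.card (sylN T) = 144) : sylD T = 1 := by
  obtain ⟨t, ht, ht1⟩ := exists_ne_one_sylow hM T
  obtain ⟨-, hO2, hO8⟩ := orbCount_facts hM T ht ht1
  have h8 := sylD_ne_eight hM hN
  have h4 := sylD_ne_four hM hN
  have h2 := sylD_ne_two hM hN
  obtain ⟨hmul, h16⟩ := card_sylImage hM T
  rw [card_sylC hM T, hN] at hmul
  have hdvd : sylD T ∣ 2 ^ 4 := Dvd.intro_left (Nat.card (sylImage T)) (by linarith)
  obtain ⟨k, hk, hk'⟩ := (Nat.dvd_prime_pow Nat.prime_two).1 hdvd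
  rcases orb_cases hM hN ht ht1 with ⟨-, h', -⟩ | ⟨-, h', -⟩ <;>
    interval_cases k <;> norm_num at hk' <;> rw [hk'] at h' h8 h4 h2 ⊢ <;> omega

end CfsgLib.Mathieu.Order7920
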