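import Cfsg.Agent.Lib.Mathieu.Order7920.Budget

/-!
Simple groups of order 7920: basic facts about a Sylow 3-subgroup and its normaliser.
-/

set_option autoImplicit false

namespace CfsgLib.Mathieu.Order7920

open Subgroup MulAction
open scoped Classical

universe u

variable {G : Type u} [Group G] [Finite G]

local instance fact_prime_three''' : Fact (Nat.Prime 3) := ⟨by norm_num⟩

/-- The normaliser of a Sylow subgroup. -/
noncomputable abbrev sylN (T : Sylow 3 G) : Subgroup G := normalizer ((T : Subgroup G) : Set G)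

/-- The centraliser of a Sylow subgroup. -/
noncomputable abbrev sylC (T : Sylow 3 G) : Subgroup G := centralizer ((T : Subgroup G) : Set G)

/-- The part of the normaliser centralising an element. -/
noncomputable abbrev sylCN (T : Sylow 3 G) (t : G) : Subgroup G := sylN T ⊓ centralizer ({t} : Set G)

theorem card_three_sylow (hM : Cfsg.IsM11 G) (T : Sylow 3 G) : Nat.card (T : Subgroup G) = 9 := by
  simpa using CfsgLib.SmallGroups.card_sylow_eq (p := 3) (a := 2) (m := 880)
    (by rw [hM.2]; norm_num) (by norm_num) T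

theorem comm_three (hM : Cfsg.IsM11 G) (T : Sylow 3 G) {x y : G} (hx : x ∈ T) (hy : y ∈ T) :
    x * y = y * x :=
  congrArg Subtype.val (IsPGroup.commutative_of_card_eq_prime_sq (p := 3)
    (by rw [card_three_sylow hM T]; norm_num) (⟨x, hx⟩ : (T : Subgroup G)) ⟨y, hy⟩)

theorem le_sylC (hM : Cfsg.IsM11 G) (T : Sylow 3 G) : (T : Subgroup G) ≤ sylC T := fun _ hx =>
  mem_centralizer_iff.2 fun _ hy => comm_three hM T hy hx

theorem pow_nine_of_mem (hM : Cfsg.IsM11 G) (T : Sylow 3 G) {x : G} (hx : x ∈ T) : x ^ 9 = 1 := by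
  have := Subgroup.orderOf_dvd_natCard _ (show x ∈ (T : Subgroup G) from hx)
  rw [card_three_sylow hM T] at this
  exact orderOf_dvd_iff_pow_eq_one.1 this

/-- Elements of 3-power order in the normaliser lie in the Sylow subgroup. -/
theorem mem_of_normalizing (T : Sylow 3 G) {x : G} (hx : x ∈ sylN T) (h9 : x ^ 9 = 1) : x ∈ T := by
  have hp : IsPGroup 3 (zpowers x) := by
    refine IsPGroup.of_card (n := padicValNat 3 (Nat.card (zpowers x))) ?_
    rw [Nat.card_zpowers]
    obtain ⟨k, -, hk⟩ := (Nat.dvd_prime_pow (by norm_num : Nat.Prime 3)).1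
      (show orderOf x ∣ 3 ^ 2 from orderOf_dvd_of_pow_eq_one h9)
    rw [hk, padicValNat.prime_pow]
  have := T.is_maximal' (hp.to_sup_of_normal_right' T.2 (zpowers_le.2 hx)) le_sup_right
  exact this.le (le_sup_left (b := (T : Subgroup G)) (mem_zpowers x))

theorem smul_eq_iff_mem (hM : Cfsg.IsM11 G) (T T' : Sylow 3 G) {t : G} (ht : t ∈ T) :
    t • T' = T' ↔ t ∈ T' :=
  ⟨fun h => mem_of_normalizing T' (Sylow.smul_eq_iff_mem_normalizer.1 h) (pow_nine_of_mem hM T ht),
    fun h => Sylow.smul_eq_iff_mem_normalizer.2 (le_normalizer h)⟩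

/-- Conjugate elements of a Sylow 3-subgroup are conjugate in its normaliser. -/
theorem conj_in_normalizer (hM : Cfsg.IsM11 G) (T : Sylow 3 G) {t t' : G} (ht : t ∈ T) (ht' : t' ∈ T)
    (h : IsConj t t') : ∃ n ∈ sylN T, n * t * n⁻¹ = t' := by
  obtain ⟨g, hg⟩ := isConj_iff.1 h
  have : IsMulCommutative (T : Subgroup G) :=
    ⟨⟨fun a b => Subtype.ext (comm_three hM T a.2 b.2)⟩⟩
  obtain ⟨n, hn, e⟩ := Sylow.conj_eq_normalizer_conj_of_mem (_hP := this) T t g⁻¹ ht
    (by rw [inv_inv, hg]; exact ht')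
  rw [inv_inv, hg] at e
  exact ⟨n⁻¹, inv_mem hn, by rw [inv_inv, e]⟩

theorem not_dvd_of_centralizer (hM : Cfsg.IsM11 G) {y : G} (h9 : y ^ 9 = 1) (hy : y ≠ 1) {a : G}
    (hay : a * y = y * a) : ¬ (orderOf a = 5 ∨ orderOf a = 11) := by
  intro h
  have hmem : y ∈ centralizer ({a} : Set G) := mem_centralizer_singleton_iff.2 hay.symm
  have hc : centralizer ({a} : Set G) = zpowers a :=
    h.elim (centralizer_orderOf_five hM) (centralizer_orderOf_eleven hM)
  rw [hc] at hmem
  have h1 := Subgroup.orderOf_dvd_natCard _ hmem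
  have h2 : orderOf y ∣ 9 := orderOf_dvd_of_pow_eq_one h9
  rw [Nat.card_zpowers] at h1
  refine hy (orderOf_eq_one_iff.1 (Nat.eq_one_of_dvd_coprimes ?_ h1 h2))
  rcases h with h | h <;> rw [h] <;> norm_num

theorem centralizer_three_dvd (hM : Cfsg.IsM11 G) {y : G} (h9 : y ^ 9 = 1) (hy : y ≠ 1) :
    Nat.card (centralizer ({y} : Set G)) ∣ 144 := by
  refine pow_fiveEleven_card hM _ (fun h => ?_) fun h => ?_
  · have : Fact (Nat.Prime 5) := ⟨by norm_num⟩
    obtain ⟨⟨a, ha⟩, hao⟩ := exists_prime_orderOf_dvd_card' 5 h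
    rw [orderOf_mk] at hao
    exact not_dvd_of_centralizer hM h9 hy (mem_centralizer_singleton_iff.1 ha) (Or.inl hao)
  · have : Fact (Nat.Prime 11) := ⟨by norm_num⟩
    obtain ⟨⟨a, ha⟩, hao⟩ := exists_prime_orderOf_dvd_card' 11 h
    rw [orderOf_mk] at hao
    exact not_dvd_of_centralizer hM h9 hy (mem_centralizer_singleton_iff.1 ha) (Or.inr hao)

theorem normalizer_three_card (hM : Cfsg.IsM11 G) (T : Sylow 3 G) :
    Nat.card (sylN T) = 144 ∨ Nat.card (sylN T) = 36 := by
  have := hM.1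
  have hG := noncomm hM
  have hT := card_three_sylow hM T
  have hd : Nat.card (sylN T) ∣ 144 := by
    refine pow_fiveEleven_card hM _ (fun h => ?_) fun h => ?_
    all_goals
      obtain ⟨⟨a, ha⟩, hao⟩ :=
        exists_prime_orderOf_dvd_card' (hp := ⟨by norm_num⟩) _ h
      rw [orderOf_mk] at hao
      have hp : IsPGroup (orderOf a) (zpowers a) :=
        IsPGroup.of_card (n := 1) (by rw [Nat.card_zpowers, pow_one])
      have : Fact (Nat.Prime (orderOf a)) := ⟨by rw [hao]; norm_num⟩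
      have hmod := card_modEq_conj hp ((T : Subgroup G) : Set G)
        fun k hk s hs => (Subgroup.mem_normalizer_iff.1 (zpowers_le.2 ha hk) s).1 hs
      have hsub : {s : G | s ∈ ((T : Subgroup G) : Set G) ∧ ∀ k ∈ zpowers a, k * s = s * k} ⊆ {1} := by
        rintro s ⟨hsT, hs⟩
        by_contra hs1
        exact not_dvd_of_centralizer hM (pow_nine_of_mem hM T hsT) hs1 (hs a (mem_zpowers a))
          (by rw [hao]; norm_num)
      have hle := Set.ncard_le_ncard hsub
      rw [Set.ncard_singleton, ← Nat.card_coe_set_eq] at hle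
      have hT' : Nat.card ((T : Subgroup G) : Set G) = 9 := hT
      have hmod' : Nat.card ((T : Subgroup G) : Set G) % orderOf a =
          Nat.card {s : G | s ∈ ((T : Subgroup G) : Set G) ∧ ∀ k ∈ zpowers a, k * s = s * k} %
            orderOf a := hmod
      rw [hT', hao] at hmod'
      omega
  obtain ⟨q, hq⟩ := (dvd_of_eq hT.symm).trans (card_dvd_of_le (le_normalizer (H := (T : Subgroup G))))
  have hq16 : q ∈ Nat.divisors 16 := by
    rw [hq, show 144 = 9 * 16 by norm_num] at hd
    exact Nat.mem_divisors.2 ⟨Nat.dvd_of_mul_dvd_mul_left (by norm_num) hd, by norm_num⟩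
  rw [show Nat.divisors 16 = {1, 2, 4, 8, 16} by decide +kernel] at hq16
  simp only [Finset.mem_insert, Finset.mem_singleton] at hq16
  have hne : q ≠ 1 := by
    rintro rfl
    refine CfsgLib.SmallGroups.not_normalizer_le_centralizer hG (p := 3) (by rw [hM.2]; norm_num) T ?_
    rw [← Subgroup.eq_of_le_of_card_ge le_normalizer (by rw [hT, hq, mul_one])]
    exact le_sylC hM T
  have hmul := CfsgLib.SmallGroups.card_sylow_mul_card_normalizer T
  have h3 : Nat.card (Sylow 3 G) % 3 = 1 := card_sylow_modEq_one 3 G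
  have hq' : Nat.card (sylN T) = 9 * q := hq
  rw [hq', hM.2] at hmul
  rcases hq16 with rfl | rfl | rfl | rfl | rfl <;> omega

/-- The transfer argument: no element of the Sylow subgroup is central in its normaliser. -/
theorem not_central (hM : Cfsg.IsM11 G) (T : Sylow 3 G) {t : G} (ht : t ∈ T) (ht1 : t ≠ 1) :
    ∃ n ∈ sylN T, n * t ≠ t * n := by
  by_contra hall
  push Not at hall
  have := hM.1
  let φ : (T : Subgroup G) →* (T : Subgroup G) := MonoidHom.id _
  let _ : CommGroup (T : Subgroup G) :=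
    { (inferInstance : Group (T : Subgroup G)) with
      mul_comm := fun a b => Subtype.ext (comm_three hM T a.2 b.2) }
  let f : G →* (T : Subgroup G) := MonoidHom.transfer φ
  have key : ∀ (k : ℕ) (g₀ : G), g₀⁻¹ * t ^ k * g₀ ∈ (T : Subgroup G) →
      g₀⁻¹ * t ^ k * g₀ = t ^ k := by
    intro k g₀ hk
    obtain ⟨n, hn, e⟩ := conj_in_normalizer hM T (pow_mem ht k) hk
      (isConj_iff.2 ⟨g₀⁻¹, by rw [inv_inv]⟩)
    have hc : Commute n t := hall n hn
    rw [← e, (hc.pow_right k).eq, mul_inv_cancel_right]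
  have hidx : (T : Subgroup G).index = 880 := by
    have := Subgroup.card_mul_index (T : Subgroup G)
    rw [card_three_sylow hM T, hM.2] at this
    omega
  have hft := MonoidHom.transfer_eq_pow φ t key
  rcases (inferInstance : f.ker.Normal).eq_bot_or_eq_top with h | h
  · refine noncomm hM (IsMulCommutative.of_comm fun a b => ?_)
    exact (MonoidHom.ker_eq_bot_iff f).1 h (by rw [map_mul, map_mul, mul_comm])
  · have h1 : f t = 1 := (h ▸ Subgroup.mem_top t : t ∈ f.ker)
    rw [show f t = MonoidHom.transfer φ t from rfl, hft] at h1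
    have h880 : t ^ 880 = 1 := by
      rw [← hidx]
      exact congrArg Subtype.val h1
    exact ht1 (pow_eq_of_coprime (pow_nine_of_mem hM T ht) h880 (by norm_num))

/-- The automorphisms induced by the normaliser. -/
noncomputable abbrev sylImage (T : Sylow 3 G) : Subgroup (MulAut (T : Subgroup G)) :=
  ((T : Subgroup G).normalizerMonoidHom).range

omit [Finite G] in
theorem normalizerHom_apply (T : Sylow 3 G) (n : sylN T) (x : (T : Subgroup G)) :
    (((T : Subgroup G).normalizerMonoidHom n x : (T : Subgroup G)) : G) = (n : G) * x * (n : G)⁻¹ :=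
  rfl

theorem card_sylImage (hM : Cfsg.IsM11 G) (T : Sylow 3 G) :
    Nat.card (sylImage T) * Nat.card (sylC T) = Nat.card (sylN T) ∧
      Nat.card (sylImage T) ∣ 16 := by
  have hmul : Nat.card (sylImage T) * Nat.card (sylC T) = Nat.card (sylN T) := by
    rw [← Subgroup.card_mul_index ((T : Subgroup G).normalizerMonoidHom).ker, Subgroup.index_ker,
      mul_comm]
    congr 1
    rw [normalizerMonoidHom_ker]
    exact Nat.card_congr (subgroupOfEquivOfLe (centralizer_le_normalizer _)).symm.toEquiv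
  refine ⟨hmul, ?_⟩
  obtain ⟨D, hD⟩ := (dvd_of_eq (card_three_sylow hM T).symm).trans (card_dvd_of_le (le_sylC hM T))
  have hD' : Nat.card (sylC T) = 9 * D := hD
  rw [hD', mul_left_comm] at hmul
  rcases normalizer_three_card hM T with h | h <;> rw [h] at hmul
  · exact Dvd.intro D (by omega)
  · exact (Dvd.intro D (by omega : Nat.card (sylImage T) * D = 4)).trans (by norm_num)

theorem sylImage_pow (hM : Cfsg.IsM11 G) (T : Sylow 3 G) {σ : MulAut (T : Subgroup G)}
    (hσ : σ ∈ sylImage T) : σ ^ 16 = 1 :=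
  orderOf_dvd_iff_pow_eq_one.1
    ((Subgroup.orderOf_dvd_natCard _ hσ).trans (card_sylImage hM T).2)

theorem sylImage_eq_of_cube (hM : Cfsg.IsM11 G) (T : Sylow 3 G) {σ : MulAut (T : Subgroup G)}
    (hσ : σ ∈ sylImage T) (h3 : σ ^ 3 = 1) : σ = 1 :=
  pow_eq_of_coprime (G := MulAut (T : Subgroup G)) (sylImage_pow hM T hσ) h3 (by norm_num)

/-- An element of the image fixing `t ≠ 1` is determined by whether it moves a chosen `z` off
its coset. -/
theorem stab_inj (hM : Cfsg.IsM11 G) (T : Sylow 3 G) {t z : (T : Subgroup G)} (ht : t ≠ 1)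
    (hz : z ∉ zpowers t) {τ τ' : MulAut (T : Subgroup G)} (hτ : τ ∈ sylImage T)
    (hτ' : τ' ∈ sylImage T) (htf : τ t = t) (htf' : τ' t = t)
    (h : (τ z * z⁻¹ ∈ zpowers t ↔ τ' z * z⁻¹ ∈ zpowers t)) : τ = τ' := by
  let _ : CommGroup (T : Subgroup G) :=
    { (inferInstance : Group (T : Subgroup G)) with
      mul_comm := fun a b => Subtype.ext (comm_three hM T a.2 b.2) }
  have hTc : Nat.card (T : Subgroup G) = 3 * 3 := card_three_sylow hM T
  have hidx : (zpowers t).index = 3 := by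
    have hd := (zpowers t).card_subgroup_dvd_card
    have hmul := Subgroup.card_mul_index (zpowers t)
    rw [hTc] at hd hmul
    obtain ⟨k, hk, hk'⟩ := (Nat.dvd_prime_pow (by norm_num : Nat.Prime 3)).1
      (show Nat.card (zpowers t) ∣ 3 ^ 2 by simpa using hd)
    interval_cases k
    · exfalso
      rw [Nat.card_zpowers, pow_zero, orderOf_eq_one_iff] at hk'
      exact ht hk'
    · rw [hk'] at hmul; omega
    · exfalso
      refine hz ?_
      rw [Subgroup.eq_top_of_card_eq (zpowers t) (by rw [hk', hTc]; norm_num)]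
      exact mem_top z
  -- cosets: `τ z` lies in `z P` or `z⁻¹ P`
  have hfixP : ∀ ρ : MulAut (T : Subgroup G), ρ t = t → ∀ p ∈ zpowers t, ρ p = p := by
    rintro ρ hρ _ ⟨i, rfl⟩
    rw [map_zpow, hρ]
  have hnot : ∀ ρ : MulAut (T : Subgroup G), ρ t = t → ρ z ∉ zpowers t := fun ρ hρ hmem => by
    have h1 := hfixP ρ hρ _ hmem
    exact hz (ρ.injective h1 ▸ hmem)
  have hcases : ∀ ρ : MulAut (T : Subgroup G), ρ t = t → ¬ ρ z * z⁻¹ ∈ zpowers t →
      ρ z * z ∈ zpowers t := by
    intro ρ hρ hne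
    have h2 : ((QuotientGroup.mk (ρ z)) : (T : Subgroup G) ⧸ zpowers t) ∈
        zpowers ((QuotientGroup.mk z) : (T : Subgroup G) ⧸ zpowers t) := by
      rw [zpowers_eq_top_of_prime_card (G := (T : Subgroup G) ⧸ zpowers t) (p := 3) hidx
        fun e => hz ((QuotientGroup.eq_one_iff _).1 e)]
      exact mem_top _
    rw [mem_zpowers_iff_mem_range_orderOf,
      orderOf_eq_prime (p := 3) (orderOf_dvd_iff_pow_eq_one.1 ((_root_.orderOf_dvd_natCard
        (QuotientGroup.mk z : (T : Subgroup G) ⧸ zpowers t)).trans (dvd_of_eq hidx)))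
        (fun e => hz ((QuotientGroup.eq_one_iff _).1 e)), Finset.mem_image] at h2
    obtain ⟨i, hi, he⟩ := h2
    rw [Finset.mem_range] at hi
    interval_cases i
    · exact absurd ((QuotientGroup.eq_one_iff _).1 (by rw [← he, pow_zero])) (hnot ρ hρ)
    · refine absurd ?_ hne
      rw [pow_one, QuotientGroup.eq] at he
      rwa [mul_comm]
    · have hz3 : z ^ 3 ∈ zpowers t := by
        have := Subgroup.pow_index_mem (zpowers t) z
        rwa [hidx] at this
      rw [← QuotientGroup.mk_pow, QuotientGroup.eq] at he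
      have := mul_mem hz3 he
      rwa [← mul_assoc, show z ^ 3 * (z ^ 2)⁻¹ = z by group, mul_comm] at this
  have hP : τ z * (τ' z)⁻¹ ∈ zpowers t := by
    by_cases h1 : τ z * z⁻¹ ∈ zpowers t
    · have := mul_mem h1 (inv_mem (h.1 h1))
      rwa [show τ z * z⁻¹ * (τ' z * z⁻¹)⁻¹ = τ z * (τ' z)⁻¹ by group] at this
    · have := mul_mem (hcases τ htf h1) (inv_mem (hcases τ' htf' fun e => h1 (h.2 e)))
      rwa [show τ z * z * (τ' z * z)⁻¹ = τ z * (τ' z)⁻¹ by group] at this
  set p := τ z * (τ' z)⁻¹ with hpdef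
  set δ := τ'⁻¹ * τ with hδdef
  have hδt : δ t = t := by
    rw [hδdef, MulAut.mul_apply, htf]
    exact (MulEquiv.symm_apply_eq τ').2 htf'.symm
  have hδz : δ z = z * p := by
    rw [hδdef, MulAut.mul_apply]
    refine (MulEquiv.symm_apply_eq τ').2 ?_
    rw [map_mul, hfixP τ' htf' p hP, hpdef, mul_comm (τ z), mul_inv_cancel_left]
  have hδp : δ p = p := hfixP δ hδt p hP
  have hp3 : p ^ 3 = 1 := by
    obtain ⟨i, hi⟩ := hP
    simp only at hi
    have h3 : t ^ 3 = 1 := by
      have := Subgroup.card_mul_index (zpowers t)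
      rw [hTc, hidx, Nat.card_zpowers] at this
      exact orderOf_dvd_iff_pow_eq_one.1 (dvd_of_eq (show orderOf t = 3 by omega))
    rw [← hi, ← zpow_natCast, ← zpow_mul, mul_comm, zpow_mul, zpow_natCast, h3, one_zpow]
  have hδ3z : (δ ^ 3) z = z := by
    rw [show δ ^ 3 = δ * δ * δ from pow_three' δ, MulAut.mul_apply, MulAut.mul_apply, hδz, map_mul,
      hδz, hδp, map_mul, map_mul, hδz, hδp, mul_assoc, mul_assoc, ← pow_three, hp3, mul_one]
  have hδ3t : (δ ^ 3) t = t := by
    rw [show δ ^ 3 = δ * δ * δ from pow_three' δ, MulAut.mul_apply, MulAut.mul_apply, hδt, hδt, hδt]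
  have htop : zpowers t ⊔ zpowers z = ⊤ := by
    refine Subgroup.eq_top_of_card_eq _ (Nat.le_antisymm (Subgroup.card_le_card_group _) ?_)
    have hlt : zpowers t < zpowers t ⊔ zpowers z :=
      lt_of_le_of_ne le_sup_left fun e => hz (e.symm ▸ mem_sup_right (mem_zpowers z))
    obtain ⟨q, hq⟩ := card_dvd_of_le hlt.le
    have hc : Nat.card (zpowers t) = 3 := by
      have := Subgroup.card_mul_index (zpowers t)
      rw [hTc, hidx] at this; omega
    have hd := (zpowers t ⊔ zpowers z).card_subgroup_dvd_card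
    rw [hTc, hq, hc] at hd
    have hq1 : q ≠ 1 := by
      rintro rfl
      exact hlt.ne (Subgroup.eq_of_le_of_card_ge hlt.le (by rw [hq, mul_one]))
    rcases (Nat.dvd_prime (by norm_num : Nat.Prime 3)).1 (Nat.dvd_of_mul_dvd_mul_left (by norm_num) hd)
      with rfl | rfl
    · omega
    · rw [hq, hc, hTc]
  have hδ1 : δ ^ 3 = 1 := by
    refine MulEquiv.ext fun x => ?_
    have hx : x ∈ zpowers t ⊔ zpowers z := htop ▸ mem_top x
    obtain ⟨a, ⟨i, rfl⟩, b, ⟨j, rfl⟩, rfl⟩ := Subgroup.mem_sup.1 hx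
    rw [map_mul, map_zpow, map_zpow, hδ3t, hδ3z, MulAut.one_apply]
  have := sylImage_eq_of_cube hM T (mul_mem (inv_mem hτ') hτ) hδ1
  exact (inv_mul_eq_one.1 this).symm

theorem stab_card_le_two (hM : Cfsg.IsM11 G) (T : Sylow 3 G) {t : (T : Subgroup G)} (ht : t ≠ 1) :
    Nat.card {τ : MulAut (T : Subgroup G) // τ ∈ sylImage T ∧ τ t = t} ≤ 2 := by
  by_cases hgen : zpowers t = ⊤
  · refine le_trans ?_ (by norm_num : 1 ≤ 2)
    refine Finite.card_le_one_iff_subsingleton.2 ⟨fun a b => Subtype.ext (MulEquiv.ext fun x => ?_)⟩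
    obtain ⟨i, rfl⟩ := (hgen ▸ mem_top x : x ∈ zpowers t)
    rw [map_zpow, map_zpow, a.2.2, b.2.2]
  · obtain ⟨z, hz⟩ : ∃ z, z ∉ zpowers t := by
      by_contra h
      push Not at h
      exact hgen (eq_top_iff.2 fun x _ => h x)
    refine (Nat.card_le_card_of_injective (β := Bool)
      (fun τ : {τ : MulAut (T : Subgroup G) // τ ∈ sylImage T ∧ τ t = t} =>
        decide (τ.1 z * z⁻¹ ∈ zpowers t)) ?_).trans
      (by rw [Nat.card_eq_fintype_card, Fintype.card_bool])
    intro a b e
    exact Subtype.ext (stab_inj hM T ht hz a.2.1 b.2.1 a.2.2 b.2.2 (by simpa using e))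

/-- Some 2-element of the normaliser inverts the Sylow subgroup. -/
theorem exists_inverter (hM : Cfsg.IsM11 G) (T : Sylow 3 G) :
    ∃ c ∈ sylN T, c ^ 16 = 1 ∧ ∀ t ∈ T, c * t * c⁻¹ = t⁻¹ := by
  let _ : CommGroup (T : Subgroup G) :=
    { (inferInstance : Group (T : Subgroup G)) with
      mul_comm := fun a b => Subtype.ext (comm_three hM T a.2 b.2) }
  -- it suffices to invert inside the image
  suffices h : ∃ σ ∈ sylImage T, ∀ x, σ x = x⁻¹ by
    obtain ⟨σ, ⟨n, hn⟩, hσ⟩ := h
    have hσ2 : σ ^ 2 = 1 := by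
      refine MulEquiv.ext fun x => ?_
      rw [sq, MulAut.mul_apply, hσ, hσ, inv_inv, MulAut.one_apply]
    refine ⟨(n : G) ^ 9, pow_mem n.2 9, ?_, fun t ht => ?_⟩
    · rw [← pow_mul]
      have := Subgroup.orderOf_dvd_natCard _ n.2
      refine orderOf_dvd_iff_pow_eq_one.1 (this.trans ?_)
      rcases normalizer_three_card hM T with h | h <;> rw [h] <;> norm_num
    · have h9 : (T : Subgroup G).normalizerMonoidHom (n ^ 9) = σ := by
        rw [map_pow, hn, show 9 = 2 * 4 + 1 by norm_num, pow_succ, pow_mul, hσ2, one_pow, one_mul]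
      have := congrArg (fun τ : MulAut (T : Subgroup G) => ((τ ⟨t, ht⟩ : (T : Subgroup G)) : G)) h9
      rw [normalizerHom_apply, hσ, SubgroupClass.coe_pow] at this
      simpa using this
  have hne : Nontrivial (sylImage T) := by
    rw [← Finite.one_lt_card_iff_nontrivial]
    by_contra hle
    have h1 : Nat.card (sylImage T) = 1 := by
      have : 0 < Nat.card (sylImage T) := Nat.card_pos
      omega
    have := hM.1
    refine CfsgLib.SmallGroups.not_normalizer_le_centralizer (noncomm hM) (p := 3)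
      (by rw [hM.2]; norm_num) T ?_
    have hmul := (card_sylImage hM T).1
    rw [h1, one_mul] at hmul
    exact (Subgroup.eq_of_le_of_card_ge (centralizer_le_normalizer _) hmul.ge).ge
  have hp : IsPGroup 2 (sylImage T) := by
    obtain ⟨k, -, hk⟩ := (Nat.dvd_prime_pow Nat.prime_two).1
      (show Nat.card (sylImage T) ∣ 2 ^ 4 from (card_sylImage hM T).2)
    exact IsPGroup.of_card hk
  have : Fact (Nat.Prime 2) := ⟨Nat.prime_two⟩
  have hcn := hp.center_nontrivial
  obtain ⟨k, hk, hkc⟩ := (hp.to_subgroup (center (sylImage T))).nontrivial_iff_card.1 hcn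
  obtain ⟨⟨⟨σ, hσI⟩, hσc⟩, hσo⟩ :=
    exists_prime_orderOf_dvd_card' (G := center (sylImage T)) 2 (hkc ▸ dvd_pow_self 2 hk.ne')
  rw [orderOf_mk, orderOf_mk] at hσo
  have hσ2 : ∀ x, σ (σ x) = x := fun x => by
    have : σ ^ 2 = 1 := hσo ▸ pow_orderOf_eq_one σ
    rw [← MulAut.mul_apply, ← sq, this, MulAut.one_apply]
  have hσ1 : σ ≠ 1 := fun e => by rw [e, orderOf_one] at hσo; omega
  have hcomm : ∀ ρ ∈ sylImage T, ∀ x, ρ (σ x) = σ (ρ x) := fun ρ hρ x => by
    have := congrArg Subtype.val (mem_center_iff.1 hσc ⟨ρ, hρ⟩)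
    exact congrArg (fun e : MulAut (T : Subgroup G) => e x) this
  by_cases hfix : ∃ t, t ≠ 1 ∧ σ t = t
  swap
  · push Not at hfix
    refine ⟨σ, hσI, fun x => ?_⟩
    by_contra hne
    refine hfix (x * σ x) (fun e => hne (eq_inv_of_mul_eq_one_right e)) ?_
    rw [map_mul, hσ2, mul_comm]
  obtain ⟨t, ht1, ht⟩ := hfix
  let F : Subgroup (T : Subgroup G) := σ.toMonoidHom.eqLocus (MonoidHom.id _)
  have hFmem : ∀ {x}, x ∈ F ↔ σ x = x := Iff.rfl
  let I : Subgroup (T : Subgroup G) := σ.toMonoidHom.eqLocus (MonoidHom.id _)⁻¹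
  have hImem : ∀ {x}, x ∈ I ↔ σ x = x⁻¹ := Iff.rfl
  obtain ⟨x0, hx0⟩ : ∃ x, σ x ≠ x := by
    by_contra h
    push Not at h
    exact hσ1 (MulEquiv.ext h)
  -- the point stabiliser of `t` has order two, so the image is commutative of order four
  have hstab := stab_card_le_two hM T ht1
  have hρs : ∀ ρ ∈ sylImage T, ρ t = t → ρ = 1 ∨ ρ = σ := by
    intro ρ hρ hρt
    by_contra h
    push Not at h
    let f : Fin 3 → {τ : MulAut (T : Subgroup G) // τ ∈ sylImage T ∧ τ t = t} :=
      ![⟨1, one_mem _, rfl⟩, ⟨σ, hσI, ht⟩, ⟨ρ, hρ, hρt⟩]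
    have hf : Function.Injective f := by
      intro i j e
      fin_cases i <;> fin_cases j <;> first
        | rfl
        | exact absurd (congrArg Subtype.val e).symm hσ1
        | exact absurd (congrArg Subtype.val e) hσ1
        | exact absurd (congrArg Subtype.val e) h.1
        | exact absurd (congrArg Subtype.val e).symm h.1
        | exact absurd (congrArg Subtype.val e) h.2
        | exact absurd (congrArg Subtype.val e).symm h.2
    have := Nat.card_le_card_of_injective f hf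
    rw [Nat.card_eq_fintype_card, Fintype.card_fin] at this
    omega
  obtain ⟨n, hn, hnt⟩ := not_central hM T t.2 (fun e => ht1 (Subtype.ext e))
  set ρ := (T : Subgroup G).normalizerMonoidHom ⟨n, hn⟩ with hρdef
  have hρI : ρ ∈ sylImage T := ⟨_, rfl⟩
  have hρt : ρ t ≠ t := fun e => hnt (mul_inv_eq_iff_eq_mul.1 (congrArg Subtype.val e))
  -- `ρ` preserves the fixed subgroup and the inverted subgroup of `σ`
  have hTc : Nat.card (T : Subgroup G) = 3 * 3 := card_three_sylow hM T
  have hc3 : ∀ K : Subgroup (T : Subgroup G), K ≠ ⊤ → ∀ a ∈ K, a ≠ 1 →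
      K = zpowers a ∧ orderOf a = 3 := by
    intro K hK a ha ha1
    have hd := K.card_subgroup_dvd_card
    rw [hTc] at hd
    obtain ⟨k, hk, hk'⟩ := (Nat.dvd_prime_pow (by norm_num : Nat.Prime 3)).1
      (show Nat.card K ∣ 3 ^ 2 by simpa using hd)
    have h3 : Nat.card K = 3 := by
      interval_cases k
      · exfalso
        rw [pow_zero] at hk'
        rw [Subgroup.eq_bot_of_card_eq K hk', mem_bot] at ha
        exact ha1 ha
      · exact hk'
      · exact absurd (Subgroup.eq_top_of_card_eq K (by rw [hk', hTc]; norm_num)) hK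
    have := zpowers_eq_of_mem h3 ha ha1
    exact ⟨this, by rw [← Nat.card_zpowers, ← this, h3]⟩
  have hFne : F ≠ ⊤ := fun e => hx0 (hFmem.1 (e ▸ mem_top x0))
  have hIne : I ≠ ⊤ := fun e => by
    have h1 := hImem.1 (e ▸ mem_top t)
    rw [ht] at h1
    have h2 : (t : G) ^ 2 = 1 := by
      have := congrArg Subtype.val h1
      rw [coe_inv] at this
      rw [sq]; nth_rewrite 2 [this]; exact mul_inv_cancel _
    exact ht1 (Subtype.ext (pow_eq_of_coprime (pow_nine_of_mem hM T t.2) h2 (by norm_num)))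
  set z := σ x0 * x0⁻¹ with hzdef
  have hz1 : z ≠ 1 := fun e => hx0 (mul_inv_eq_one.1 e)
  have hzI : z ∈ I := by rw [hImem, hzdef, map_mul, map_inv, hσ2, mul_inv_rev, inv_inv]
  obtain ⟨hFgen, hto⟩ := hc3 F hFne t (hFmem.2 ht) ht1
  obtain ⟨hIgen, hzo⟩ := hc3 I hIne z hzI hz1
  have hsmall : ∀ a b : (T : Subgroup G), orderOf a = 3 → b ∈ zpowers a → b ≠ 1 → b = a ∨ b = a⁻¹ := by
    intro a b ha hb hb1
    rw [mem_zpowers_iff_mem_range_orderOf, ha, Finset.mem_image] at hb
    obtain ⟨i, hi, rfl⟩ := hb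
    rw [Finset.mem_range] at hi
    interval_cases i
    · exact absurd (pow_zero a) hb1
    · exact Or.inl (pow_one a)
    · exact Or.inr (eq_inv_of_mul_eq_one_left
        (by rw [← pow_succ]; exact orderOf_dvd_iff_pow_eq_one.1 (dvd_of_eq ha)))
  have hρt' : ρ t = t⁻¹ := by
    have hmem : ρ t ∈ F := by rw [hFmem, ← hcomm ρ hρI, ht]
    rw [hFgen] at hmem
    exact (hsmall t _ hto hmem fun e => ht1 (ρ.map_eq_one_iff.1 e)).resolve_left hρt
  have hρz : ρ z = z ∨ ρ z = z⁻¹ := by
    have hmem : ρ z ∈ I := by rw [hImem, ← hcomm ρ hρI, hImem.1 hzI, map_inv]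
    rw [hIgen] at hmem
    exact hsmall z _ hzo hmem fun e => hz1 (ρ.map_eq_one_iff.1 e)
  have key : ∀ π ∈ sylImage T, π t = t⁻¹ → π z = z⁻¹ → ∃ τ ∈ sylImage T, ∀ x, τ x = x⁻¹ := by
    intro π hπ hπt hπz
    refine ⟨π, hπ, ?_⟩
    let J : Subgroup (T : Subgroup G) := π.toMonoidHom.eqLocus (MonoidHom.id _)⁻¹
    have hJ : J = ⊤ := by
      by_contra hJ
      obtain ⟨hJgen, -⟩ := hc3 J hJ t hπt ht1
      have hzJ : z ∈ J := hπz
      rw [hJgen, ← hFgen, hFmem, hImem.1 hzI] at hzJ
      have h2 : (z : G) ^ 2 = 1 := by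
        have := congrArg Subtype.val hzJ
        rw [coe_inv] at this
        rw [sq]; nth_rewrite 1 [← this]; exact inv_mul_cancel _
      exact hz1 (Subtype.ext (pow_eq_of_coprime (pow_nine_of_mem hM T z.2) h2 (by norm_num)))
    exact fun x => (hJ.symm ▸ mem_top x : x ∈ J)
  rcases hρz with h | h
  · refine key (ρ * σ) (mul_mem hρI hσI) ?_ ?_
    · rw [MulAut.mul_apply, ht, hρt']
    · rw [MulAut.mul_apply, hImem.1 hzI, map_inv, h]
  · exact key ρ hρI hρt' h

end CfsgLib.Mathieu.Order7920
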