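import Cfsg.Agent.Lib.Mathieu.Order7920.ThreeCount

/-!
Simple groups of order 7920: the classes meeting a Sylow 3-subgroup and their contribution to
the counting bound.
-/

set_option autoImplicit false

namespace CfsgLib.Mathieu.Order7920

open Subgroup MulAction
open scoped Classical

universe u

variable {G : Type u} [Group G] [Finite G]

local instance fact_prime_three_classes : Fact (Nat.Prime 3) := ⟨by norm_num⟩

/-- The number of conjugates of `t` in `T`. -/
noncomputable def orbCount (T : Sylow 3 G) (t : G) : ℕ := Nat.card {t' : G | t' ∈ T ∧ IsConj t t'}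

theorem exists_conj_sylow (T T' : Sylow 3 G) :
    ∃ g : G, ∀ x, g * x * g⁻¹ ∈ T' ↔ x ∈ T := by
  obtain ⟨g, hg⟩ := MulAction.exists_smul_eq G T T'
  refine ⟨g, fun x => ?_⟩
  show g * x * g⁻¹ ∈ (T' : Subgroup G) ↔ _
  rw [← hg, Sylow.smul_def, Sylow.pointwise_smul_def, Subgroup.pointwise_smul_def]
  constructor
  · rintro ⟨y, hy, e⟩
    have e' : g * y * g⁻¹ = g * x * g⁻¹ := e
    obtain rfl := mul_left_cancel (mul_right_cancel e')
    exact hy
  · exact fun hx => ⟨x, hx, rfl⟩

theorem sylD_eq (hM : Cfsg.IsM11 G) (T T' : Sylow 3 G) : sylD T' = sylD T := by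
  obtain ⟨g, hg⟩ := exists_conj_sylow T T'
  have key : Nat.card (sylC T') = Nat.card (sylC T) := by
    refine (Nat.card_congr (Equiv.subtypeEquiv (MulAut.conj g).toEquiv fun x => ?_)).symm
    show x ∈ sylC T ↔ g * x * g⁻¹ ∈ sylC T'
    constructor
    · intro hx
      refine mem_centralizer_iff.2 fun y hy => ?_
      have hy' : g⁻¹ * y * g ∈ T := by
        rw [← hg, show g * (g⁻¹ * y * g) * g⁻¹ = y by group]; exact hy
      calc y * (g * x * g⁻¹) = g * ((g⁻¹ * y * g) * x) * g⁻¹ := by group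
        _ = g * (x * (g⁻¹ * y * g)) * g⁻¹ := by rw [commute_sylC hx hy']
        _ = g * x * g⁻¹ * y := by group
    · intro hx
      refine mem_centralizer_iff.2 fun y hy => ?_
      have h := commute_sylC hx ((hg y).2 hy)
      calc y * x = g⁻¹ * ((g * y * g⁻¹) * (g * x * g⁻¹)) * g := by group
        _ = g⁻¹ * ((g * x * g⁻¹) * (g * y * g⁻¹)) * g := by rw [← h]
        _ = x * y := by group
  rw [card_sylC hM, card_sylC hM] at key
  omega

theorem sylD_pos (T : Sylow 3 G) : 0 < sylD T :=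
  Nat.card_pos_iff.2 ⟨⟨⟨1, one_mem _, one_pow _⟩⟩, inferInstance⟩

/-- The classes meeting `T` outside the identity. -/
theorem exists_reps (hM : Cfsg.IsM11 G) (T : Sylow 3 G) [Fintype (T : Subgroup G)] :
    ∃ Ys : Finset G, (∀ y ∈ Ys, y ∈ T ∧ y ≠ 1) ∧ (∀ y ∈ Ys, ∀ y' ∈ Ys, IsConj y y' → y = y') ∧
      (∀ t ∈ T, t ≠ 1 → ∃ y ∈ Ys, IsConj y t) ∧ ∑ y ∈ Ys, orbCount T y = 8 ∧
      (Nat.card (Sylow 3 G) + ∑ y ∈ Ys, orbCount T y * fix3 y) % 9 = 0 := by
  have : Fintype G := Fintype.ofFinite G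
  let A : Finset G := Finset.univ.filter fun t => t ∈ T ∧ t ≠ 1
  let B : ConjClasses G → Finset G := fun c => A.filter fun t => ConjClasses.mk t = c
  let r : ConjClasses G → G := fun c => if h : (B c).Nonempty then h.choose else 1
  let Ys : Finset G := A.image fun t => r (ConjClasses.mk t)
  have hr : ∀ t ∈ A, r (ConjClasses.mk t) ∈ A ∧ IsConj (r (ConjClasses.mk t)) t := by
    intro t ht
    have h : (B (ConjClasses.mk t)).Nonempty := ⟨t, Finset.mem_filter.2 ⟨ht, rfl⟩⟩
    have hs := Finset.mem_filter.1 h.choose_spec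
    simp only [r, dif_pos h]
    exact ⟨hs.1, ConjClasses.mk_eq_mk_iff_isConj.1 hs.2⟩
  have hA : ∀ t, t ∈ A ↔ t ∈ T ∧ t ≠ 1 := fun t => by simp [A]
  have hYA : ∀ y ∈ Ys, y ∈ A ∧ r (ConjClasses.mk y) = y := by
    intro y hy
    obtain ⟨t, ht, rfl⟩ := Finset.mem_image.1 hy
    exact ⟨(hr t ht).1, by rw [ConjClasses.mk_eq_mk_iff_isConj.2 (hr t ht).2]⟩
  have hfib : ∀ y ∈ Ys, (A.filter fun t => r (ConjClasses.mk t) = y) =
      Finset.univ.filter fun t => t ∈ T ∧ IsConj y t := by
    intro y hy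
    obtain ⟨hyA, hry⟩ := hYA y hy
    ext t
    simp only [Finset.mem_filter, Finset.mem_univ, true_and]
    constructor
    · rintro ⟨ht, rfl⟩
      exact ⟨((hA t).1 ht).1, (hr t ht).2⟩
    · rintro ⟨htT, hc⟩
      have ht1 : t ≠ 1 := fun e => ((hA y).1 hyA).2 (isConj_one_left.1 (e ▸ hc))
      exact ⟨(hA t).2 ⟨htT, ht1⟩, by rw [← ConjClasses.mk_eq_mk_iff_isConj.2 hc, hry]⟩
  have hcount : ∀ y ∈ Ys, (A.filter fun t => r (ConjClasses.mk t) = y).card = orbCount T y := by
    intro y hy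
    rw [hfib y hy, ← Fintype.card_subtype, ← Nat.card_eq_fintype_card]
    rfl
  have hA8 : A.card = 8 := by
    have h : A.card + 1 = 9 := by
      rw [← card_three_sylow hM T, Nat.card_eq_fintype_card]
      have : A = (Finset.univ.filter fun t => t ∈ T).erase 1 := by
        ext t; simp [A, and_comm]
      rw [this, Finset.card_erase_add_one (by simp [one_mem]), Fintype.card_subtype]
      rfl
    omega
  refine ⟨Ys, fun y hy => (hA y).1 (hYA y hy).1, fun y hy y' hy' hc => ?_, fun t htT ht1 => ?_, ?_, ?_⟩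
  · rw [← (hYA y hy).2, ← (hYA y' hy').2, ConjClasses.mk_eq_mk_iff_isConj.2 hc]
  · exact ⟨_, Finset.mem_image_of_mem _ ((hA t).2 ⟨htT, ht1⟩), (hr t ((hA t).2 ⟨htT, ht1⟩)).2⟩
  · rw [← hA8, Finset.card_eq_sum_card_fiberwise (f := fun t => r (ConjClasses.mk t)) (t := Ys)
      fun t ht => Finset.mem_image_of_mem _ ht]
    exact (Finset.sum_congr rfl hcount).symm
  · have h9 := fix3_congr hM T
    have hmap : ∑ t ∈ (Finset.univ.erase (1 : (T : Subgroup G))), fix3 (t : G) = ∑ t ∈ A, fix3 t := by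
      refine Finset.sum_bij (fun t _ => (t : G)) (fun t ht => ?_) (fun a _ b _ e => Subtype.ext e)
        (fun b hb => ⟨⟨b, ((hA b).1 hb).1⟩, ?_, rfl⟩) fun t _ => rfl
      · exact (hA _).2 ⟨t.2, fun e => Finset.ne_of_mem_erase ht (Subtype.ext e)⟩
      · exact Finset.mem_erase.2 ⟨fun e => ((hA b).1 hb).2 (congrArg Subtype.val e), Finset.mem_univ _⟩
    rw [hmap, ← Finset.sum_fiberwise_of_maps_to (g := fun t => r (ConjClasses.mk t)) (t := Ys)
      fun t ht => Finset.mem_image_of_mem _ ht] at h9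
    rw [Finset.sum_congr rfl (g := fun y => ∑ t ∈ A with r (ConjClasses.mk t) = y, fix3 t)]
    · exact h9
    · intro y hy
      rw [← hcount y hy, ← smul_eq_mul, ← Finset.sum_const]
      refine Finset.sum_congr rfl fun t ht => ?_
      rw [hfib y hy] at ht
      obtain ⟨c, hc⟩ := isConj_iff.1 (Finset.mem_filter.1 ht).2.2
      show fix3 y = fix3 t
      rw [fix3, fix3, ← hc, fixCount_conj]

/-- The contribution of a class to the counting bound. -/
theorem contribution (hM : Cfsg.IsM11 G) (T : Sylow 3 G) {t : G} (ht : t ∈ T) (ht1 : t ≠ 1) :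
    (Nat.card (sylCN T t) = 9 * sylD T ∧ classCard t * twoCount t = 880) ∨
      (Nat.card (sylCN T t) = 2 * (9 * sylD T) ∧ classCard t * twoCount t = 1760) := by
  have hcl := classCard_mul_eq hM t
  obtain ⟨hf, hf14⟩ := fix3_mul hM T ht ht1
  have hpos := sylD_pos T
  by_cases h3 : orderOf t = 3
  · have h2 := twoCount_formula hM T ht h3
    rw [← hf] at h2
    rcases card_CN hM T ht ht1 with h | h
    · refine Or.inl ⟨h, ?_⟩
      have e2 : twoCount t = fix3 t * sylD T := by rw [h] at h2; linarith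
      rw [← hf, h] at hcl
      rw [e2]
      linarith
    · refine Or.inr ⟨h, ?_⟩
      have e2 : twoCount t = 4 * (fix3 t * sylD T) := by rw [h] at h2; linarith
      rw [← hf, h] at hcl
      rw [e2]
      linarith
  · have hC : Nat.card (centralizer ({t} : Set G)) = 9 * sylD T := by
      rw [centralizer_eq_of_orderOf_ne hM T ht ht1 h3, card_sylC hM T]
    have hD2 := twoCount_of_orderOf_ne hM T ht ht1 h3
    rw [hC] at hf hcl
    rcases card_CN hM T ht ht1 with h | h
    · refine Or.inl ⟨h, ?_⟩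
      rw [hD2]
      linarith
    · rw [h] at hf
      rcases hf14 with h' | h' <;> rw [h'] at hf <;> omega

theorem orbCount_facts (hM : Cfsg.IsM11 G) (T : Sylow 3 G) {t : G} (ht : t ∈ T) (ht1 : t ≠ 1) :
    orbCount T t * Nat.card (sylCN T t) = Nat.card (sylN T) ∧ 2 ≤ orbCount T t ∧
      orbCount T t ≤ 8 := by
  have h := orbit_mul hM T ht
  refine ⟨h, ?_, ?_⟩
  · by_contra hlt
    have hpos : orbCount T t ≠ 0 := by
      intro h0
      rw [show Nat.card {t' : G | t' ∈ T ∧ IsConj t t'} = orbCount T t from rfl, h0, zero_mul] at h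
      exact Nat.card_pos.ne h
    have h1 : orbCount T t = 1 := by omega
    rw [show Nat.card {t' : G | t' ∈ T ∧ IsConj t t'} = orbCount T t from rfl, h1, one_mul] at h
    have heq : sylCN T t = sylN T := Subgroup.eq_of_le_of_card_ge inf_le_left h.ge
    obtain ⟨n, hn, hne⟩ := not_central hM T ht ht1
    rw [← heq] at hn
    exact hne (mem_centralizer_singleton_iff.1 hn.2)
  · have hle : ({t' : G | t' ∈ T ∧ IsConj t t'} : Set G) ⊆ ((T : Subgroup G) : Set G) \ {1} := by
      rintro x ⟨hx, hc⟩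
      exact ⟨hx, fun e => ht1 (isConj_one_left.1 ((show x = 1 from e) ▸ hc))⟩
    have := Set.ncard_le_ncard hle
    rw [Set.ncard_diff_singleton_of_mem (one_mem (T : Subgroup G)), ← Nat.card_coe_set_eq,
      ← Nat.card_coe_set_eq] at this
    have h9 : Nat.card ((T : Subgroup G) : Set G) = 9 := card_three_sylow hM T
    rw [h9] at this
    exact this

/-- The counting bound with the classes of a Sylow 3-subgroup. -/
theorem budget_reps (hM : Cfsg.IsM11 G) (T : Sylow 3 G) {v : G} (hv : IsSquareInv v) {Ys : Finset G}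
    (hYs : ∀ y ∈ Ys, y ∈ T ∧ y ≠ 1) (hYc : ∀ y ∈ Ys, ∀ y' ∈ Ys, IsConj y y' → y = y') {w : G}
    (hw : orderOf w = 2) (hwv : ¬ IsConj v w) :
    (∑ y ∈ Ys, classCard y * twoCount y) + (3 * classCard v + classCard w) ≤ 4895 := by
  have := budget hM hv Ys {w} (fun y hy => ⟨pow_nine_of_mem hM T (hYs y hy).1, (hYs y hy).2⟩) hYc
    (fun x hx => Finset.mem_singleton.1 hx ▸ ⟨hw, hwv⟩) (fun x hx y hy _ =>
      (Finset.mem_singleton.1 hx).trans (Finset.mem_singleton.1 hy).symm)
  simpa using this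

theorem budget_reps' (hM : Cfsg.IsM11 G) (T : Sylow 3 G) {v : G} (hv : IsSquareInv v) {Ys : Finset G}
    (hYs : ∀ y ∈ Ys, y ∈ T ∧ y ≠ 1) (hYc : ∀ y ∈ Ys, ∀ y' ∈ Ys, IsConj y y' → y = y') :
    (∑ y ∈ Ys, classCard y * twoCount y) + 3 * classCard v ≤ 4895 := by
  have := budget hM hv Ys ∅ (fun y hy => ⟨pow_nine_of_mem hM T (hYs y hy).1, (hYs y hy).2⟩) hYc
    (by simp) (by simp)
  simpa using this

theorem classCard_ge (hM : Cfsg.IsM11 G) {w : G} (hw : orderOf w = 2) : 55 ≤ classCard w := by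
  have h := classCard_mul_eq hM w
  have hle := Nat.le_of_dvd (by norm_num) (centralizer_involution_dvd hM hw)
  nlinarith

theorem classCard_square (hM : Cfsg.IsM11 G) {v : G} (hv : IsSquareInv v) :
    (Nat.card (centralizer ({v} : Set G)) = 16 ∧ classCard v = 495) ∨
      (Nat.card (centralizer ({v} : Set G)) = 48 ∧ classCard v = 165) := by
  have h := classCard_mul_eq hM v
  rcases hv.card_centralizer hM with h' | h' <;> rw [h'] at h
  · exact Or.inl ⟨h', by omega⟩
  · exact Or.inr ⟨h', by omega⟩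

theorem card_centralizer_conj (c x : G) :
    Nat.card (centralizer ({c * x * c⁻¹} : Set G)) = Nat.card (centralizer ({x} : Set G)) := by
  refine (Nat.card_congr (Equiv.subtypeEquiv (MulAut.conj c).toEquiv fun y => ?_)).symm
  show y ∈ centralizer ({x} : Set G) ↔ c * y * c⁻¹ ∈ centralizer ({c * x * c⁻¹} : Set G)
  rw [mem_centralizer_singleton_iff, mem_centralizer_singleton_iff,
    show c * y * c⁻¹ * (c * x * c⁻¹) = c * (y * x) * c⁻¹ by group,
    show c * x * c⁻¹ * (c * y * c⁻¹) = c * (x * y) * c⁻¹ by group]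
  exact ⟨fun h => by rw [h], fun h => mul_left_cancel (mul_right_cancel h)⟩

/-- Squares do not centralise a Sylow 3-subgroup. -/
theorem IsSquareInv.not_mem_sylC (hM : Cfsg.IsM11 G) {v : G} (hv : IsSquareInv v) (T : Sylow 3 G)
    {x : G} (hx : IsConj v x) : x ∉ sylC T := by
  intro hxT
  obtain ⟨c, hc⟩ := isConj_iff.1 hx
  have h9 : 9 ∣ Nat.card (centralizer ({x} : Set G)) := by
    rw [← card_three_sylow hM T]
    exact card_dvd_of_le fun y hy =>
      mem_centralizer_singleton_iff.2 (commute_sylC hxT hy).symm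
  rw [← hc, card_centralizer_conj] at h9
  rcases hv.card_centralizer hM with h | h <;> rw [h] at h9 <;> omega

/-- If `|C(v)| = 48` then a conjugate of `v` commutes with a nontrivial element of `T`. -/
theorem exists_commuting (hM : Cfsg.IsM11 G) (T : Sylow 3 G) {v : G}
    (h48 : Nat.card (centralizer ({v} : Set G)) = 48) :
    ∃ v' t, IsConj v v' ∧ t ∈ T ∧ t ≠ 1 ∧ orderOf t = 3 ∧ v' * t = t * v' := by
  obtain ⟨⟨y, hy⟩, hyo⟩ := exists_prime_orderOf_dvd_card' (G := centralizer ({v} : Set G)) 3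
    (by rw [h48]; norm_num)
  rw [orderOf_mk] at hyo
  obtain ⟨T', hT'⟩ := (IsPGroup.of_card (p := 3) (n := 1)
    (by rw [Nat.card_zpowers, hyo, pow_one] : Nat.card (zpowers y) = 3 ^ 1)).exists_le_sylow
  obtain ⟨g, hg⟩ := exists_conj_sylow T' T
  refine ⟨g * v * g⁻¹, g * y * g⁻¹, isConj_iff.2 ⟨g, rfl⟩, (hg y).2 (hT' (mem_zpowers y)),
    fun e => ?_, ?_, ?_⟩
  · rw [conj_eq_one_iff.1 e, orderOf_one] at hyo; omega
  · rw [← MulAut.conj_apply, MulEquiv.orderOf_eq, hyo]
  · rw [show g * v * g⁻¹ * (g * y * g⁻¹) = g * (v * y) * g⁻¹ by group,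
      ← mem_centralizer_singleton_iff.1 hy]
    group

end CfsgLib.Mathieu.Order7920
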