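import Cfsg.Agent.Lib.Mathieu.Order7920.ThreeBasic

/-!
Simple groups of order 7920: counting around the elements of a Sylow 3-subgroup.
-/

set_option autoImplicit false

namespace CfsgLib.Mathieu.Order7920

open Subgroup MulAction
open scoped Classical

universe u

variable {G : Type u} [Group G] [Finite G]

local instance fact_prime_three'''' : Fact (Nat.Prime 3) := ⟨by norm_num⟩

/-- The order of the 2-part of the centraliser of a Sylow 3-subgroup. -/
noncomputable def sylD (T : Sylow 3 G) : ℕ := Nat.card {x : G | x ∈ sylC T ∧ x ^ 16 = 1}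

theorem pow_144_of_mem (hM : Cfsg.IsM11 G) {y : G} (h9 : y ^ 9 = 1) (hy : y ≠ 1) {g : G}
    (hg : g * y = y * g) : g ^ 144 = 1 :=
  orderOf_dvd_iff_pow_eq_one.1 ((Subgroup.orderOf_dvd_natCard _
    (mem_centralizer_singleton_iff.2 hg)).trans (centralizer_three_dvd hM h9 hy))

omit [Finite G] in
theorem split_parts {g : G} (h : g ^ 144 = 1) :
    g ^ 64 * g ^ 81 = g ∧ (g ^ 64) ^ 9 = 1 ∧ (g ^ 81) ^ 16 = 1 := by
  refine ⟨?_, ?_, ?_⟩
  · rw [← pow_add, show 64 + 81 = 144 + 1 by norm_num, pow_succ, h, one_mul]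
  · rw [← pow_mul, show 64 * 9 = 144 * 4 by norm_num, pow_mul, h, one_pow]
  · rw [← pow_mul, show 81 * 16 = 144 * 9 by norm_num, pow_mul, h, one_pow]

omit [Finite G] in
theorem parts_unique {p q : G} (hp : p ^ 9 = 1) (hq : q ^ 16 = 1) (hc : Commute p q) :
    (p * q) ^ 64 = p ∧ (p * q) ^ 81 = q := by
  constructor
  · rw [hc.mul_pow, show (64 : ℕ) = 16 * 4 by norm_num, pow_mul q, hq, one_pow, mul_one,
      show 16 * 4 = 9 * 7 + 1 by norm_num, pow_succ, pow_mul, hp, one_pow, one_mul]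
  · rw [hc.mul_pow, show (81 : ℕ) = 9 * 9 by norm_num, pow_mul p, hp, one_pow, one_mul,
      show 9 * 9 = 16 * 5 + 1 by norm_num, pow_succ, pow_mul, hq, one_pow, one_mul]

theorem exists_ne_one_sylow (hM : Cfsg.IsM11 G) (T : Sylow 3 G) : ∃ t ∈ T, t ≠ 1 := by
  by_contra h
  push Not at h
  have hbot : (T : Subgroup G) = ⊥ := (Subgroup.eq_bot_iff_forall _).2 h
  have h9 : Nat.card (T : Subgroup G) = 9 := card_three_sylow hM T
  rw [hbot, card_bot] at h9
  omega

theorem commute_sylC {T : Sylow 3 G} {x t : G} (hx : x ∈ sylC T) (ht : t ∈ T) : x * t = t * x :=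
  (mem_centralizer_iff.1 hx t ht).symm

theorem card_sylC (hM : Cfsg.IsM11 G) (T : Sylow 3 G) : Nat.card (sylC T) = 9 * sylD T := by
  obtain ⟨t, ht, ht1⟩ := exists_ne_one_sylow hM T
  rw [← card_three_sylow hM T, sylD, ← Nat.card_prod]
  have h144 : ∀ g ∈ sylC T, g ^ 144 = 1 := fun g hg =>
    pow_144_of_mem hM (pow_nine_of_mem hM T ht) ht1 (commute_sylC hg ht)
  refine Nat.card_congr
    ⟨fun g => (⟨g.1 ^ 64, ?_⟩, ⟨g.1 ^ 81, pow_mem g.2 _, (split_parts (h144 _ g.2)).2.2⟩),
      fun p => ⟨p.1.1 * p.2.1, mul_mem (le_sylC hM T p.1.2) p.2.2.1⟩, fun g => ?_, fun p => ?_⟩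
  · exact mem_of_normalizing T (pow_mem (centralizer_le_normalizer _ g.2) _)
      (split_parts (h144 _ g.2)).2.1
  · exact Subtype.ext (split_parts (h144 _ g.2)).1
  · obtain ⟨h1, h2⟩ := parts_unique (pow_nine_of_mem hM T p.1.2) p.2.2.2
      (commute_sylC p.2.2.1 p.1.2).symm
    exact Prod.ext (Subtype.ext h1) (Subtype.ext h2)

theorem sylC_le_CN (T : Sylow 3 G) {t : G} (ht : t ∈ T) : sylC T ≤ sylCN T t := fun _ hx =>
  ⟨centralizer_le_normalizer _ hx, mem_centralizer_singleton_iff.2 (commute_sylC hx ht)⟩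

theorem card_CN (hM : Cfsg.IsM11 G) (T : Sylow 3 G) {t : G} (ht : t ∈ T) (ht1 : t ≠ 1) :
    Nat.card (sylCN T t) = 9 * sylD T ∨ Nat.card (sylCN T t) = 2 * (9 * sylD T) := by
  let φ : sylCN T t →* MulAut (T : Subgroup G) :=
    ((T : Subgroup G).normalizerMonoidHom).comp (Subgroup.inclusion inf_le_left)
  have hker : Nat.card φ.ker = 9 * sylD T := by
    rw [← card_sylC hM T]
    refine Nat.card_congr ⟨fun g => ⟨g.1.1, mem_centralizer_iff.2 fun x hx => ?_⟩,
      fun g => ⟨⟨g.1, sylC_le_CN T ht g.2⟩, ?_⟩, fun g => rfl, fun g => rfl⟩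
    · have hg : φ g.1 = 1 := g.2
      have := congrArg (fun τ : MulAut (T : Subgroup G) => ((τ ⟨x, hx⟩ : (T : Subgroup G)) : G)) hg
      exact (mul_inv_eq_iff_eq_mul.1 this).symm
    · refine MonoidHom.mem_ker.2 (MulEquiv.ext fun x => Subtype.ext ?_)
      show g.1 * (x : G) * g.1⁻¹ = x
      exact mul_inv_eq_iff_eq_mul.2 (commute_sylC g.2 x.2)
  have hrange : Nat.card φ.range ≤ 2 := by
    refine le_trans (Nat.card_le_card_of_injective
      (fun τ : φ.range => (⟨τ.1, ?_, ?_⟩ :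
        {τ : MulAut (T : Subgroup G) // τ ∈ sylImage T ∧ τ ⟨t, ht⟩ = ⟨t, ht⟩}))
      fun a b e => Subtype.ext (congrArg (fun x : {τ : MulAut (T : Subgroup G) //
        τ ∈ sylImage T ∧ τ ⟨t, ht⟩ = ⟨t, ht⟩} => x.1) e))
      (stab_card_le_two hM T fun e => ht1 (congrArg Subtype.val e))
    · obtain ⟨g, hg⟩ := τ.2
      exact ⟨_, hg⟩
    · obtain ⟨g, hg⟩ := τ.2
      rw [← hg]
      exact Subtype.ext (mul_inv_eq_iff_eq_mul.2 (mem_centralizer_singleton_iff.1 g.2.2))
  have hmul : Nat.card φ.ker * Nat.card φ.range = Nat.card (sylCN T t) := by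
    rw [← Subgroup.index_ker, Subgroup.card_mul_index]
  have hpos : 0 < Nat.card φ.range := Nat.card_pos
  rcases (show Nat.card φ.range = 1 ∨ Nat.card φ.range = 2 by omega) with h | h <;>
    rw [h, hker] at hmul
  · exact Or.inl (by rw [← hmul, mul_one])
  · exact Or.inr (by rw [← hmul, mul_comm])

theorem centralizer_dvd_seventyTwo (hM : Cfsg.IsM11 G) (T : Sylow 3 G) {t : G} (ht : t ∈ T)
    (ht1 : t ≠ 1) : Nat.card (centralizer ({t} : Set G)) ∣ 72 := by
  obtain ⟨c, hc, -, hinv⟩ := exists_inverter hM T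
  set M := normalizer ((zpowers t : Subgroup G) : Set G) with hMdef
  have hCM : centralizer ({t} : Set G) ≤ M := fun x hx => by
    refine centralizer_le_normalizer _ (mem_centralizer_iff.2 ?_)
    rintro _ ⟨i, rfl⟩
    exact Commute.zpow_left (mem_centralizer_singleton_iff.1 hx).symm i
  have hcM : c ∈ M := by
    refine Subgroup.mem_normalizer_iff.2 fun x => ⟨?_, ?_⟩
    · rintro ⟨i, rfl⟩
      exact ⟨-i, by simp only; rw [← conj_zpow, hinv t ht, inv_zpow, zpow_neg]⟩
    · rintro ⟨i, hi⟩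
      refine ⟨-i, ?_⟩
      simp only at hi ⊢
      have h2 : c * t ^ (-i) * c⁻¹ = c * x * c⁻¹ := by
        rw [← conj_zpow, hinv t ht, inv_zpow, zpow_neg, inv_inv, hi]
      exact mul_left_cancel (mul_right_cancel h2)
  have hct : c ∉ centralizer ({t} : Set G) := fun h => by
    have h1 := mem_centralizer_singleton_iff.1 h
    have h2 : t⁻¹ = t := by rw [← hinv t ht, h1, mul_inv_cancel_right]
    have h3 : t ^ 2 = 1 := by rw [sq]; nth_rewrite 1 [← h2]; exact inv_mul_cancel t
    exact ht1 (pow_eq_of_coprime (pow_nine_of_mem hM T ht) h3 (by norm_num))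
  have h9 := pow_nine_of_mem hM T ht
  have hM144 : Nat.card M ∣ 144 := by
    refine pow_fiveEleven_card hM M (fun h => ?_) fun h => ?_
    all_goals
      obtain ⟨⟨a, ha⟩, hao⟩ := exists_prime_orderOf_dvd_card' (hp := ⟨by norm_num⟩) _ h
      rw [orderOf_mk] at hao
      -- `a` acts on `zpowers t`, whose automorphism group has order 1, 2 or 6
      refine not_dvd_of_centralizer hM h9 ht1 (a := a) ?_ (by rw [hao]; norm_num)
      let φ := (zpowers t).normalizerMonoidHom
      have h1 : orderOf (φ ⟨a, ha⟩) ∣ orderOf a :=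
        (orderOf_map_dvd φ _).trans (dvd_of_eq (orderOf_mk a ha))
      have h2 : orderOf (φ ⟨a, ha⟩) ∣ Nat.totient (orderOf t) := by
        exact (_root_.orderOf_dvd_natCard _).trans (dvd_of_eq
          ((IsCyclic.card_mulAut (zpowers t)).trans (congrArg Nat.totient (Nat.card_zpowers t))))
      have hcop : Nat.Coprime (orderOf a) (Nat.totient (orderOf t)) := by
        obtain ⟨k, hk, hk'⟩ := (Nat.dvd_prime_pow (by norm_num : Nat.Prime 3)).1
          (show orderOf t ∣ 3 ^ 2 from orderOf_dvd_of_pow_eq_one h9)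
        rw [hao, hk']
        interval_cases k <;> decide +kernel
      have hone : φ ⟨a, ha⟩ = 1 := orderOf_eq_one_iff.1 (Nat.eq_one_of_dvd_coprimes hcop h1 h2)
      have := congrArg (fun τ : MulAut (zpowers t) => ((τ ⟨t, mem_zpowers t⟩ : zpowers t) : G)) hone
      exact mul_inv_eq_iff_eq_mul.1 this
  obtain ⟨q, hq⟩ := card_dvd_of_le hCM
  have hq1 : q ≠ 1 := by
    rintro rfl
    exact hct ((Subgroup.eq_of_le_of_card_ge hCM (by rw [hq, mul_one])).symm ▸ hcM)
  rw [hq] at hM144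
  have h9C : 9 ∣ Nat.card (centralizer ({t} : Set G)) := by
    rw [← card_three_sylow hM T]
    exact card_dvd_of_le fun x hx => mem_centralizer_singleton_iff.2 (comm_three hM T hx ht)
  set C := Nat.card (centralizer ({t} : Set G))
  obtain ⟨k, hk⟩ := h9C
  rw [hk, mul_assoc, show 144 = 9 * 16 by norm_num] at hM144
  obtain ⟨i, -, hi⟩ := (Nat.dvd_prime_pow Nat.prime_two).1
    (show k * q ∣ 2 ^ 4 from Nat.dvd_of_mul_dvd_mul_left (by norm_num) hM144)
  obtain ⟨j, hj, rfl⟩ := (Nat.dvd_prime_pow Nat.prime_two).1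
    (show k ∣ 2 ^ i from hi ▸ dvd_mul_right k q)
  rw [hk, show 72 = 9 * 2 ^ 3 by norm_num]
  refine mul_dvd_mul_left 9 (pow_dvd_pow 2 ?_)
  by_contra h3
  obtain ⟨l, hl⟩ := Nat.dvd_of_mul_dvd_mul_left (by norm_num : (0:ℕ) < 9) hM144
  have hj4 : j = 4 := by
    have h16 : 2 ^ j ∣ 2 ^ 4 := (dvd_mul_right _ q).trans ⟨l, hl⟩
    have := (Nat.pow_dvd_pow_iff_le_right (by norm_num : 1 < 2)).1 h16
    omega
  subst hj4
  have hql : q * l = 1 := by
    have : (2 : ℕ) ^ 4 * (q * l) = 2 ^ 4 * 1 := by rw [mul_one, ← mul_assoc]; exact hl.symm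
    exact Nat.eq_of_mul_eq_mul_left (by norm_num) this
  exact hq1 (Nat.eq_one_of_mul_eq_one_right hql)

/-- The number of Sylow 3-subgroups containing `t`. -/
noncomputable def fix3 (t : G) : ℕ := fixCount (Sylow 3 G) t

theorem fix3_mul (hM : Cfsg.IsM11 G) (T : Sylow 3 G) {t : G} (ht : t ∈ T) (ht1 : t ≠ 1) :
    fix3 t * Nat.card (sylCN T t) = Nat.card (centralizer ({t} : Set G)) ∧
      (fix3 t = 1 ∨ fix3 t = 4) := by
  set C := centralizer ({t} : Set G) with hCdef
  have hTC : ∀ T' : Sylow 3 G, t ∈ T' → (T' : Subgroup G) ≤ C := fun T' h x hx =>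
    mem_centralizer_singleton_iff.2 (comm_three hM T' hx h)
  have hsyl : Nat.card (Sylow 3 C) = fix3 t := by
    symm
    refine Nat.card_eq_of_bijective
      (fun T' : {T' : Sylow 3 G // t • T' = T'} =>
        T'.1.subtype (hTC T'.1 ((smul_eq_iff_mem hM T T'.1 ht).1 T'.2))) ⟨?_, ?_⟩
    · exact fun a b e => Subtype.ext (Sylow.subtype_injective e)
    · intro P
      obtain ⟨g, hg⟩ := MulAction.exists_smul_eq C (T.subtype (hTC T ht)) P
      rw [Sylow.smul_subtype] at hg
      have hgT : t ∈ (g : G) • T := by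
        have hgt : (g : G) * t = t * g := mem_centralizer_singleton_iff.1 g.2
        show t ∈ ((g • T : Sylow 3 G) : Subgroup G)
        rw [Subgroup.smul_def, Sylow.smul_def, Sylow.pointwise_smul_def, Subgroup.pointwise_smul_def]
        exact ⟨t, ht, by show (g : G) * t * (g : G)⁻¹ = t; rw [hgt, mul_inv_cancel_right]⟩
      exact ⟨⟨(g : G) • T, (smul_eq_iff_mem hM T _ ht).2 hgT⟩, hg⟩
  have hN : Nat.card (normalizer ((T.subtype (hTC T ht) : Subgroup C) : Set C)) =
      Nat.card (sylCN T t) := by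
    refine Nat.card_congr ⟨fun x => ⟨x.1.1, Subgroup.mem_normalizer_iff.2 fun y => ?_, x.1.2⟩,
      fun x => ⟨⟨x.1, x.2.2⟩, Subgroup.mem_normalizer_iff.2 fun y =>
        Subgroup.mem_normalizer_iff.1 x.2.1 y.1⟩, fun x => rfl, fun x => rfl⟩
    constructor
    · intro hy
      exact (Subgroup.mem_normalizer_iff.1 x.2 ⟨y, hTC T ht hy⟩).1 hy
    · intro hy
      have hyC : y ∈ C := by
        have := C.mul_mem (C.mul_mem (C.inv_mem x.1.2) (hTC T ht hy)) x.1.2
        simpa [mul_assoc] using this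
      exact (Subgroup.mem_normalizer_iff.1 x.2 ⟨y, hyC⟩).2 hy
  have hmul := CfsgLib.SmallGroups.card_sylow_mul_card_normalizer (T.subtype (hTC T ht))
  rw [hsyl, hN] at hmul
  refine ⟨hmul, ?_⟩
  have h72 := centralizer_dvd_seventyTwo hM T ht ht1
  have h9 : 9 ∣ Nat.card (sylCN T t) := by
    rw [← card_three_sylow hM T]
    exact card_dvd_of_le ((le_sylC hM T).trans (sylC_le_CN T ht))
  obtain ⟨k, hk⟩ := h9
  have h8 : fix3 t ∈ Nat.divisors 8 := by
    refine Nat.mem_divisors.2 ⟨?_, by norm_num⟩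
    rw [← hCdef, ← hmul, hk, show 72 = 8 * 9 by norm_num, ← mul_assoc, mul_right_comm] at h72
    exact (dvd_mul_right _ k).trans (Nat.dvd_of_mul_dvd_mul_right (by norm_num) h72)
  have hmod : fix3 t % 3 = 1 := by rw [← hsyl]; exact card_sylow_modEq_one 3 C
  rw [show Nat.divisors 8 = {1, 2, 4, 8} by decide] at h8
  simp only [Finset.mem_insert, Finset.mem_singleton] at h8
  omega

theorem fix3_congr (hM : Cfsg.IsM11 G) (T : Sylow 3 G) [Fintype (T : Subgroup G)] :
    (Nat.card (Sylow 3 G) +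
      ∑ t ∈ (Finset.univ.erase (1 : (T : Subgroup G))), fix3 (t : G)) % 9 = 0 := by
  have : Fintype (Sylow 3 G) := Fintype.ofFinite _
  have hburn :=
    MulAction.sum_card_fixedBy_eq_card_orbits_mul_card_group (T : Subgroup G) (Sylow 3 G)
  have h9 : Fintype.card (T : Subgroup G) = 9 := by
    rw [← Nat.card_eq_fintype_card]; exact card_three_sylow hM T
  have hsum : ∑ t : (T : Subgroup G), Fintype.card (fixedBy (Sylow 3 G) t) =
      Nat.card (Sylow 3 G) + ∑ t ∈ (Finset.univ.erase (1 : (T : Subgroup G))), fix3 (t : G) := by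
    rw [← Finset.add_sum_erase _ _ (Finset.mem_univ (1 : (T : Subgroup G)))]
    congr 1
    · rw [Nat.card_eq_fintype_card]
      exact Fintype.card_of_bijective (f := Subtype.val)
        ⟨Subtype.val_injective, fun R => ⟨⟨R, one_smul (T : Subgroup G) R⟩, rfl⟩⟩
    · refine Finset.sum_congr rfl fun t _ => ?_
      rw [← Nat.card_eq_fintype_card]
      rfl
  rw [← hsum, hburn, h9, Nat.mul_mod_left]

theorem orbit_mul (hM : Cfsg.IsM11 G) (T : Sylow 3 G) {t : G} (ht : t ∈ T) :
    Nat.card {t' : G | t' ∈ T ∧ IsConj t t'} * Nat.card (sylCN T t) = Nat.card (sylN T) := by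
  let ψ : sylN T → {t' : G | t' ∈ T ∧ IsConj t t'} := fun n =>
    ⟨n.1 * t * n.1⁻¹, (Subgroup.mem_normalizer_iff.1 n.2 t).1 ht, isConj_iff.2 ⟨n.1, rfl⟩⟩
  have : Fintype {t' : G | t' ∈ T ∧ IsConj t t'} := Fintype.ofFinite _
  rw [← Nat.card_congr (Equiv.sigmaFiberEquiv ψ), Nat.card_sigma,
    Finset.sum_congr rfl (g := fun _ => Nat.card (sylCN T t)), Finset.sum_const, smul_eq_mul,
    Finset.card_univ, Nat.card_eq_fintype_card]
  rintro ⟨y, hyT, hy⟩ -
  obtain ⟨g0, hg0N, hg0⟩ := conj_in_normalizer hM T ht hyT hy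
  refine Nat.card_congr ⟨fun g => ⟨g0⁻¹ * g.1.1, (sylN T).mul_mem ((sylN T).inv_mem hg0N) g.1.2, ?_⟩,
    fun h => ⟨⟨g0 * h.1, (sylN T).mul_mem hg0N h.2.1⟩, Subtype.ext ?_⟩,
    fun g => Subtype.ext (Subtype.ext (mul_inv_cancel_left _ _)),
    fun h => Subtype.ext (inv_mul_cancel_left _ _)⟩
  · refine mem_centralizer_singleton_iff.2 ?_
    have he : g.1.1 * t * g.1.1⁻¹ = g0 * t * g0⁻¹ := (congrArg Subtype.val g.2).trans hg0.symm
    calc g0⁻¹ * g.1.1 * t = g0⁻¹ * (g.1.1 * t * g.1.1⁻¹) * g.1.1 := by group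
      _ = t * (g0⁻¹ * g.1.1) := by rw [he]; group
  · show g0 * h.1 * t * (g0 * h.1)⁻¹ = y
    have hh : h.1 * t = t * h.1 := mem_centralizer_singleton_iff.1 h.2.2
    rw [← hg0, mul_assoc g0, hh]
    group

theorem centralizer_eq_of_orderOf_ne (hM : Cfsg.IsM11 G) (T : Sylow 3 G) {t : G} (ht : t ∈ T)
    (ht1 : t ≠ 1) (h3 : orderOf t ≠ 3) : centralizer ({t} : Set G) = sylC T := by
  obtain ⟨k, hk, hk'⟩ := (Nat.dvd_prime_pow (by norm_num : Nat.Prime 3)).1
    (show orderOf t ∣ 3 ^ 2 from orderOf_dvd_of_pow_eq_one (pow_nine_of_mem hM T ht))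
  interval_cases k
  · exact absurd (orderOf_eq_one_iff.1 hk') ht1
  · exact absurd hk' h3
  · have hgen : (T : Subgroup G) = zpowers t := (Subgroup.eq_of_le_of_card_ge (zpowers_le.2 ht)
      (by rw [Nat.card_zpowers, hk', card_three_sylow hM T]; norm_num)).symm
    refine le_antisymm (fun x hx => mem_centralizer_iff.2 fun y hy => ?_)
      fun x hx => mem_centralizer_singleton_iff.2 (commute_sylC hx ht)
    rw [SetLike.mem_coe, hgen] at hy
    obtain ⟨i, rfl⟩ := hy
    exact Commute.zpow_left (mem_centralizer_singleton_iff.1 hx).symm i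

theorem twoCount_formula (hM : Cfsg.IsM11 G) (T : Sylow 3 G) {t : G} (ht : t ∈ T)
    (h3 : orderOf t = 3) :
    3 * twoCount t + 6 * sylD T * fix3 t = Nat.card (centralizer ({t} : Set G)) := by
  have : Fintype G := Fintype.ofFinite G
  have ht1 : t ≠ 1 := fun e => by rw [e, orderOf_one] at h3; omega
  set C := centralizer ({t} : Set G) with hCdef
  have h144 : ∀ g ∈ C, g ^ 144 = 1 := fun g hg =>
    pow_144_of_mem hM (pow_nine_of_mem hM T ht) ht1 (mem_centralizer_singleton_iff.1 hg)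
  have hpart : Nat.card C =
      Nat.card {g : C // (g : G) ^ 64 ∈ zpowers t} + Nat.card {g : C // ¬ (g : G) ^ 64 ∈ zpowers t} := by
    rw [← Nat.card_sum]
    exact Nat.card_congr (Equiv.sumCompl fun g : C => (g : G) ^ 64 ∈ zpowers t).symm
  rw [hpart]
  congr 1
  · rw [← h3, ← Nat.card_zpowers, twoCount, ← Nat.card_prod]
    refine Nat.card_congr ⟨fun p => ⟨⟨p.1.1 * p.2.1, ?_⟩, ?_⟩,
      fun g => (⟨g.1.1 ^ 64, g.2⟩, ⟨g.1.1 ^ 81,
        mem_centralizer_singleton_iff.1 (pow_mem g.1.2 _), (split_parts (h144 _ g.1.2)).2.2⟩),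
      fun p => ?_, fun g => Subtype.ext (Subtype.ext (split_parts (h144 _ g.1.2)).1)⟩
    · exact mul_mem ((zpowers_le (H := C)).2 (mem_centralizer_singleton_iff.2 rfl) p.1.2)
        (mem_centralizer_singleton_iff.2 p.2.2.1)
    · obtain ⟨i, hi⟩ := p.1.2
      simp only at hi
      have hc : Commute p.1.1 p.2.1 := by
        rw [← hi]; exact Commute.zpow_left p.2.2.1.symm i
      show (p.1.1 * p.2.1) ^ 64 ∈ zpowers t
      rw [(parts_unique (pow_nine_of_mem hM T ((zpowers_le (H := (T : Subgroup G))).2 ht p.1.2))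
        p.2.2.2 hc).1]
      exact p.1.2
    · obtain ⟨i, hi⟩ := p.1.2
      simp only at hi
      have hc : Commute p.1.1 p.2.1 := by
        rw [← hi]; exact Commute.zpow_left p.2.2.1.symm i
      obtain ⟨h1, h2⟩ := parts_unique
        (pow_nine_of_mem hM T ((zpowers_le (H := (T : Subgroup G))).2 ht p.1.2)) p.2.2.2 hc
      exact Prod.ext (Subtype.ext h1) (Subtype.ext h2)
  · -- the 3-part lies in a unique Sylow subgroup containing `t`
    let F := {T' : Sylow 3 G // t • T' = T'}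
    have : Fintype F := Fintype.ofFinite _
    have hkey : Nat.card (Σ T' : F, {p : (T'.1 : Subgroup G) // (p : G) ∉ zpowers t} ×
        {x : G | x ∈ sylC T'.1 ∧ x ^ 16 = 1}) = 6 * sylD T * fix3 t := by
      rw [Nat.card_sigma, Finset.sum_congr rfl (g := fun _ => 6 * sylD T), Finset.sum_const,
        smul_eq_mul, Finset.card_univ, fix3, fixCount, Nat.card_eq_fintype_card, mul_comm]
      intro T' _
      have htT' : t ∈ T'.1 := (smul_eq_iff_mem hM T T'.1 ht).1 T'.2
      have h6 : Nat.card {p : (T'.1 : Subgroup G) // (p : G) ∉ zpowers t} = 6 := by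
        rw [Nat.card_eq_fintype_card, Fintype.card_subtype_compl, ← Nat.card_eq_fintype_card,
          ← Nat.card_eq_fintype_card, card_three_sylow hM T'.1]
        have : Nat.card {p : (T'.1 : Subgroup G) // (p : G) ∈ zpowers t} = 3 :=
          ((Nat.card_congr (subgroupOfEquivOfLe (zpowers_le.2 htT')).toEquiv).trans
            (Nat.card_zpowers t)).trans h3
        rw [this]
      have hD : Nat.card {x : G | x ∈ sylC T'.1 ∧ x ^ 16 = 1} = sylD T := by
        obtain ⟨g, hg⟩ := MulAction.exists_smul_eq G T T'.1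
        refine (Nat.card_congr (Equiv.subtypeEquiv (MulAut.conj g).toEquiv fun x => ?_)).symm
        show (x ∈ sylC T ∧ x ^ 16 = 1) ↔ (g * x * g⁻¹ ∈ sylC T'.1 ∧ (g * x * g⁻¹) ^ 16 = 1)
        rw [conj_pow, conj_eq_one_iff]
        refine and_congr_left fun _ => ⟨fun hx => mem_centralizer_iff.2 fun y hy => ?_,
          fun hx => mem_centralizer_iff.2 fun y hy => ?_⟩
        · rw [← hg, Sylow.smul_def, Sylow.pointwise_smul_def, Subgroup.pointwise_smul_def] at hy
          obtain ⟨z, hz, rfl⟩ := hy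
          show g * z * g⁻¹ * (g * x * g⁻¹) = g * x * g⁻¹ * (g * z * g⁻¹)
          rw [show g * z * g⁻¹ * (g * x * g⁻¹) = g * (z * x) * g⁻¹ by group,
            mem_centralizer_iff.1 hx z hz]
          group
        · have hy' : g * y * g⁻¹ ∈ T'.1 := by
            show g * y * g⁻¹ ∈ ((T'.1 : Sylow 3 G) : Subgroup G)
            rw [← hg, Sylow.smul_def, Sylow.pointwise_smul_def, Subgroup.pointwise_smul_def]
            exact ⟨y, hy, rfl⟩
          have := mem_centralizer_iff.1 hx _ hy'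
          rw [show g * y * g⁻¹ * (g * x * g⁻¹) = g * (y * x) * g⁻¹ by group,
            show g * x * g⁻¹ * (g * y * g⁻¹) = g * (x * y) * g⁻¹ by group] at this
          exact mul_left_cancel (mul_right_cancel this)
      rw [Nat.card_prod, h6, hD]
    rw [← hkey]
    refine Nat.card_eq_of_bijective (fun s => ⟨⟨(s.2.1.1 : G) * s.2.2.1, ?_⟩, ?_⟩) ⟨?_, ?_⟩
    · have htT' : t ∈ s.1.1 := (smul_eq_iff_mem hM T s.1.1 ht).1 s.1.2
      exact mem_centralizer_singleton_iff.2 (mem_centralizer_singleton_iff.1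
        (mul_mem (mem_centralizer_singleton_iff.2 (comm_three hM s.1.1 s.2.1.1.2 htT'))
          (mem_centralizer_singleton_iff.2 (commute_sylC s.2.2.2.1 htT'))))
    · show ¬ ((s.2.1.1 : G) * s.2.2.1) ^ 64 ∈ zpowers t
      rw [(parts_unique (pow_nine_of_mem hM s.1.1 s.2.1.1.2) s.2.2.2.2
        (commute_sylC s.2.2.2.1 s.2.1.1.2).symm).1]
      exact s.2.1.2
    · rintro ⟨T1, ⟨⟨p1, hp1⟩, hp1'⟩, ⟨x1, hx1⟩⟩ ⟨T2, ⟨⟨p2, hp2⟩, hp2'⟩, ⟨x2, hx2⟩⟩ e
      have e' : p1 * x1 = p2 * x2 := congrArg (fun g => ((g : {g : C // _}).1 : G)) e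
      obtain ⟨a1, b1⟩ := parts_unique (pow_nine_of_mem hM T1.1 hp1) hx1.2
        (commute_sylC hx1.1 hp1).symm
      obtain ⟨a2, b2⟩ := parts_unique (pow_nine_of_mem hM T2.1 hp2) hx2.2
        (commute_sylC hx2.1 hp2).symm
      obtain rfl : p1 = p2 := by rw [← a1, ← a2, e']
      obtain rfl : x1 = x2 := mul_left_cancel e'
      have hgen : ∀ T' : F, p1 ∈ T'.1 → (T'.1 : Subgroup G) = zpowers t ⊔ zpowers p1 := by
        intro T' hp
        have htT' : t ∈ T'.1 := (smul_eq_iff_mem hM T T'.1 ht).1 T'.2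
        have hle : zpowers t ⊔ zpowers p1 ≤ (T'.1 : Subgroup G) :=
          sup_le (zpowers_le.2 htT') (zpowers_le.2 hp)
        refine (Subgroup.eq_of_le_of_card_ge hle ?_).symm
        obtain ⟨q, hq⟩ := card_dvd_of_le (le_sup_left : zpowers t ≤ zpowers t ⊔ zpowers p1)
        have hd := card_dvd_of_le hle
        rw [hq, Nat.card_zpowers, h3, card_three_sylow hM T'.1, show 9 = 3 * 3 by norm_num] at hd
        rcases (Nat.dvd_prime (by norm_num : Nat.Prime 3)).1
          (Nat.dvd_of_mul_dvd_mul_left (by norm_num) hd) with rfl | rfl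
        · exfalso
          refine hp1' ?_
          rw [Subgroup.eq_of_le_of_card_ge (le_sup_left : zpowers t ≤ zpowers t ⊔ zpowers p1)
            (by rw [hq, mul_one])]
          exact mem_sup_right (mem_zpowers p1)
        · rw [hq, Nat.card_zpowers, h3, card_three_sylow hM T'.1]
      obtain rfl : T1 = T2 := Subtype.ext (Sylow.ext ((hgen T1 hp1).trans (hgen T2 hp2).symm))
      rfl
    · rintro ⟨⟨g, hgC⟩, hg⟩
      have h := split_parts (h144 g hgC)
      -- a Sylow subgroup containing `t` and the 3-part of `g`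
      have hc : Commute t (g ^ 64) :=
        Commute.pow_right (mem_centralizer_singleton_iff.1 hgC).symm 64
      have hn : (g ^ 64) ∈ normalizer ((zpowers t : Subgroup G) : Set G) :=
        centralizer_le_normalizer _ (mem_centralizer_iff.2 (by
          rintro _ ⟨i, rfl⟩
          exact (hc.zpow_left i).eq))
      have hpg : ∀ x : G, x ^ 9 = 1 → IsPGroup 3 (zpowers x) := fun x hx => by
        obtain ⟨k, -, hk⟩ := (Nat.dvd_prime_pow (by norm_num : Nat.Prime 3)).1
          (show orderOf x ∣ 3 ^ 2 from orderOf_dvd_of_pow_eq_one hx)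
        exact IsPGroup.of_card (n := k) (by rw [Nat.card_zpowers, hk])
      obtain ⟨T', hT'⟩ := ((hpg _ h.2.1).to_sup_of_normal_right'
        (hpg t (pow_nine_of_mem hM T ht)) (zpowers_le.2 hn)).exists_le_sylow
      have htT' : t ∈ T' := hT' (mem_sup_right (mem_zpowers t))
      have hxC : g ^ 81 ∈ sylC T' := by
        refine mem_centralizer_iff.2 fun y hy => ?_
        have hT'gen : (T' : Subgroup G) = zpowers (g ^ 64) ⊔ zpowers t := by
          refine (Subgroup.eq_of_le_of_card_ge hT' ?_).symm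
          obtain ⟨q, hq⟩ := card_dvd_of_le (le_sup_right : zpowers t ≤ zpowers (g ^ 64) ⊔ zpowers t)
          have hd := card_dvd_of_le hT'
          rw [hq, Nat.card_zpowers, h3, card_three_sylow hM T', show 9 = 3 * 3 by norm_num] at hd
          rcases (Nat.dvd_prime (by norm_num : Nat.Prime 3)).1
            (Nat.dvd_of_mul_dvd_mul_left (by norm_num) hd) with rfl | rfl
          · exfalso
            refine hg ?_
            show g ^ 64 ∈ zpowers t
            rw [Subgroup.eq_of_le_of_card_ge (le_sup_right : zpowers t ≤ zpowers (g ^ 64) ⊔ zpowers t)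
              (by rw [hq, mul_one])]
            exact mem_sup_left (mem_zpowers _)
          · rw [hq, Nat.card_zpowers, h3, card_three_sylow hM T']
        rw [SetLike.mem_coe, hT'gen] at hy
        have hle : zpowers (g ^ 64) ⊔ zpowers t ≤ centralizer ({g ^ 81} : Set G) :=
          sup_le (zpowers_le.2 (mem_centralizer_singleton_iff.2 (Commute.pow_pow_self g 64 81).eq))
            (zpowers_le.2 (mem_centralizer_singleton_iff.2
              (Commute.pow_right (mem_centralizer_singleton_iff.1 hgC).symm 81).eq))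
        exact mem_centralizer_singleton_iff.1 (hle hy)
      exact ⟨⟨⟨T', (smul_eq_iff_mem hM T T' ht).2 htT'⟩,
        ⟨⟨g ^ 64, hT' (mem_sup_left (mem_zpowers _))⟩, hg⟩, ⟨g ^ 81, hxC, h.2.2⟩⟩,
        Subtype.ext (Subtype.ext h.1)⟩

theorem twoCount_of_orderOf_ne (hM : Cfsg.IsM11 G) (T : Sylow 3 G) {t : G} (ht : t ∈ T)
    (ht1 : t ≠ 1) (h3 : orderOf t ≠ 3) : twoCount t = sylD T := by
  have h := centralizer_eq_of_orderOf_ne hM T ht ht1 h3
  refine Nat.card_congr (Equiv.subtypeEquivRight fun x => ?_)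
  show x * t = t * x ∧ x ^ 16 = 1 ↔ x ∈ sylC T ∧ x ^ 16 = 1
  rw [← mem_centralizer_singleton_iff, h]

/-- `|C(t)|` is at most nine times the number of its 2-elements. -/
theorem twoCount_ge (hM : Cfsg.IsM11 G) (T : Sylow 3 G) {t : G} (ht : t ∈ T) (ht1 : t ≠ 1) :
    Nat.card (centralizer ({t} : Set G)) ≤ 9 * twoCount t := by
  have : Fact (Nat.Prime 2) := ⟨Nat.prime_two⟩
  have h9 : 9 ∣ Nat.card (centralizer ({t} : Set G)) := by
    rw [← card_three_sylow hM T]
    exact card_dvd_of_le fun x hx => mem_centralizer_singleton_iff.2 (comm_three hM T hx ht)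
  obtain ⟨q, hq⟩ := h9
  have h72 := centralizer_dvd_seventyTwo hM T ht ht1
  rw [hq, show 72 = 9 * 8 by norm_num] at h72
  obtain ⟨k, hk, rfl⟩ := (Nat.dvd_prime_pow Nat.prime_two).1
    (show q ∣ 2 ^ 3 from Nat.dvd_of_mul_dvd_mul_left (by norm_num) h72)
  obtain ⟨S, hS⟩ := Sylow.exists_subgroup_card_pow_prime (G := centralizer ({t} : Set G)) 2 (n := k)
    (by rw [hq]; exact dvd_mul_left _ _)
  rw [hq]
  refine Nat.mul_le_mul_left 9 ?_
  rw [← hS]
  refine Nat.card_le_card_of_injective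
    (fun x : S => (⟨(x : centralizer ({t} : Set G)),
      mem_centralizer_singleton_iff.1 (x : centralizer ({t} : Set G)).2, ?_⟩ :
      {x : G | x * t = t * x ∧ x ^ 16 = 1})) ?_
  · have h1 : orderOf x ∣ 2 ^ 4 :=
      ((_root_.orderOf_dvd_natCard x).trans (dvd_of_eq hS)).trans (pow_dvd_pow 2 (by omega))
    have := orderOf_dvd_iff_pow_eq_one.1 h1
    exact congrArg (fun y : S => ((y : centralizer ({t} : Set G)) : G)) this
  · exact fun a b e => Subtype.ext (Subtype.ext (congrArg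
      (fun y : {x : G | x * t = t * x ∧ x ^ 16 = 1} => y.1) e))

end CfsgLib.Mathieu.Order7920
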