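import Cfsg.Agent.Lib.Mathieu.Order7920.ThreeClasses

/-!
Simple groups of order 7920 with 55 Sylow 3-subgroups: the structure of the normaliser.
-/

set_option autoImplicit false

namespace CfsgLib.Mathieu.Order7920

open Subgroup MulAction
open scoped Classical

universe u

variable {G : Type u} [Group G] [Finite G]

local instance fact_prime_three_split : Fact (Nat.Prime 3) := ⟨by norm_num⟩

/-- The elements inverting `T`. -/
def Inverts (T : Sylow 3 G) (x : G) : Prop := ∀ t ∈ T, x * t * x⁻¹ = t⁻¹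

theorem Inverts.mul_mem_sylC {T : Sylow 3 G} {x y : G} (hx : Inverts T x) (hy : Inverts T y) :
    x * y ∈ sylC T := by
  refine mem_centralizer_iff.2 fun t ht => ?_
  have h : x * y * t * (x * y)⁻¹ = t := by
    calc x * y * t * (x * y)⁻¹ = x * (y * t * y⁻¹) * x⁻¹ := by group
      _ = t := by rw [hy t ht, ← conj_inv, hx t ht, inv_inv]
  exact (mul_inv_eq_iff_eq_mul.1 h).symm

theorem Inverts.mul_sylC {T : Sylow 3 G} {x k : G} (hx : Inverts T x) (hk : k ∈ sylC T) :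
    Inverts T (k * x) := by
  intro t ht
  calc k * x * t * (k * x)⁻¹ = k * (x * t * x⁻¹) * k⁻¹ := by group
    _ = k * t⁻¹ * k⁻¹ := by rw [hx t ht]
    _ = t⁻¹ := by
      rw [commute_sylC hk (show t⁻¹ ∈ T from (T : Subgroup G).inv_mem ht), mul_inv_cancel_right]

theorem Inverts.not_mem_sylC (hM : Cfsg.IsM11 G) {T : Sylow 3 G} {x : G} (hx : Inverts T x) :
    x ∉ sylC T := by
  intro h
  obtain ⟨t, ht, ht1⟩ := exists_ne_one_sylow hM T
  have h2 : t⁻¹ = t := by rw [← hx t ht, commute_sylC h ht, mul_inv_cancel_right]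
  have h3 : t ^ 2 = 1 := by rw [sq]; nth_rewrite 1 [← h2]; exact inv_mul_cancel t
  exact ht1 (pow_eq_of_coprime (pow_nine_of_mem hM T ht) h3 (by norm_num))

theorem commutes_of_not_inverts (hM : Cfsg.IsM11 G) {T : Sylow 3 G} {x : G} (hx : x ∈ sylN T)
    (hx2 : x * x = 1) (hinv : ¬ Inverts T x) : ∃ t ∈ T, t ≠ 1 ∧ x * t = t * x := by
  simp only [Inverts, not_forall] at hinv
  obtain ⟨w, hw, hne⟩ := hinv
  have hw' : x * w * x⁻¹ ∈ T := (Subgroup.mem_normalizer_iff.1 hx w).1 hw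
  refine ⟨w * (x * w * x⁻¹), (T : Subgroup G).mul_mem hw hw', fun e => hne ?_, ?_⟩
  · exact eq_inv_of_mul_eq_one_right e
  · have hxi : x⁻¹ = x := inv_eq_of_mul_eq_one_right hx2
    calc x * (w * (x * w * x⁻¹)) = (x * w * x⁻¹) * (x * x) * w * x⁻¹ := by group
      _ = ((x * w * x⁻¹) * w) * x⁻¹ := by rw [hx2, mul_one]
      _ = (w * (x * w * x⁻¹)) * x := by rw [comm_three hM T hw' hw, hxi]

/-- A decomposition `N = T S` with `S` of order 16. -/
structure Split (T : Sylow 3 G) where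
  S : Subgroup G
  card_S : Nat.card S = 16
  le : S ≤ sylN T
  cardN : Nat.card (sylN T) = 144

theorem exists_split (T : Sylow 3 G) (hN : Nat.card (sylN T) = 144) :
    ∃ P : Split T, P.cardN = hN := by
  have : Fact (Nat.Prime 2) := ⟨Nat.prime_two⟩
  obtain ⟨S, hS⟩ := Sylow.exists_subgroup_card_pow_prime (G := sylN T) 2 (n := 4)
    (by rw [hN]; norm_num)
  exact ⟨⟨S.map (sylN T).subtype,
    by rw [Subgroup.card_map_of_injective (sylN T).subtype_injective, hS]; norm_num,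
    map_subtype_le _, hN⟩, rfl⟩

variable {T : Sylow 3 G} (P : Split T)

theorem Split.pow_sixteen {s : G} (hs : s ∈ P.S) : s ^ 16 = 1 :=
  orderOf_dvd_iff_pow_eq_one.1 ((Subgroup.orderOf_dvd_natCard _ hs).trans (dvd_of_eq P.card_S))

theorem Split.unique (hM : Cfsg.IsM11 G) {t t' s s' : G} (ht : t ∈ T) (ht' : t' ∈ T) (hs : s ∈ P.S)
    (hs' : s' ∈ P.S) (h : t * s = t' * s') : t = t' ∧ s = s' := by
  have h1 : t'⁻¹ * t = s' * s⁻¹ := by
    calc t'⁻¹ * t = t'⁻¹ * (t * s) * s⁻¹ := by group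
      _ = s' * s⁻¹ := by rw [h]; group
  have h9 := pow_nine_of_mem hM T ((T : Subgroup G).mul_mem ((T : Subgroup G).inv_mem ht') ht)
  have h16 := P.pow_sixteen (P.S.mul_mem hs' (P.S.inv_mem hs))
  rw [← h1] at h16
  have := pow_eq_of_coprime h9 h16 (by norm_num)
  obtain rfl : t' = t := inv_mul_eq_one.1 this
  exact ⟨rfl, mul_left_cancel h⟩

theorem Split.decomp (hM : Cfsg.IsM11 G) {x : G} (hx : x ∈ sylN T) :
    ∃ t ∈ T, ∃ s ∈ P.S, x = t * s := by
  let φ : ↥(T : Subgroup G) × ↥P.S → sylN T := fun p =>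
    ⟨p.1.1 * p.2.1, (sylN T).mul_mem (le_normalizer p.1.2) (P.le p.2.2)⟩
  have hinj : Function.Injective φ := fun p q e => by
    obtain ⟨h1, h2⟩ := P.unique hM p.1.2 q.1.2 p.2.2 q.2.2 (congrArg Subtype.val e)
    exact Prod.ext (Subtype.ext h1) (Subtype.ext h2)
  have hbij : Function.Bijective φ := (Nat.bijective_iff_injective_and_card _).2 ⟨hinj, by
    rw [Nat.card_prod, P.cardN, card_three_sylow hM T, P.card_S]⟩
  obtain ⟨p, hp⟩ := hbij.2 ⟨x, hx⟩
  exact ⟨p.1.1, p.1.2, p.2.1, p.2.2, (congrArg Subtype.val hp).symm⟩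

theorem Split.mem_of_sylC (hM : Cfsg.IsM11 G) {x : G} (hx : x ∈ sylC T) (h16 : x ^ 16 = 1) :
    x ∈ P.S := by
  obtain ⟨t, ht, s, hs, rfl⟩ := P.decomp hM (centralizer_le_normalizer _ hx)
  have hsC : s ∈ sylC T := by
    have := mul_mem (inv_mem (le_sylC hM T ht)) hx
    rwa [inv_mul_cancel_left] at this
  have hc : Commute t s := (commute_sylC hsC ht).symm
  rw [hc.mul_pow, P.pow_sixteen hs, mul_one] at h16
  rw [pow_eq_of_coprime (pow_nine_of_mem hM T ht) h16 (by norm_num), one_mul]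
  exact hs

theorem Split.commutes_all (hM : Cfsg.IsM11 G) {x : G} (hxC : x ∈ sylC T)
    (hxS : ∀ s ∈ P.S, s * x = x * s) {n : G} (hn : n ∈ sylN T) : n * x = x * n := by
  obtain ⟨t, ht, s, hs, rfl⟩ := P.decomp hM hn
  rw [mul_assoc, hxS s hs, ← mul_assoc, ← commute_sylC hxC ht, mul_assoc]

/-- A central involution of the normaliser centralising `T`, when the centraliser is larger. -/
theorem exists_central_involution (hM : Cfsg.IsM11 G) (hN : Nat.card (sylN T) = 144)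
    (hD : 2 ∣ sylD T) :
    ∃ d, orderOf d = 2 ∧ d ∈ sylC T ∧ Nat.card (centralizer ({d} : Set G)) = 144 ∧
      centralizer ({d} : Set G) = sylN T := by
  have : Fact (Nat.Prime 2) := ⟨Nat.prime_two⟩
  obtain ⟨P, -⟩ := exists_split T hN
  set K : Set G := {x | x ∈ sylC T ∧ x ^ 16 = 1}
  have hS2 : IsPGroup 2 P.S := IsPGroup.of_card (n := 4) (by rw [P.card_S]; norm_num)
  have hmod := card_modEq_conj hS2 K fun k hk x hx => by
    refine ⟨mem_centralizer_iff.2 fun t ht => ?_, by rw [conj_pow, hx.2, mul_one, mul_inv_cancel]⟩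
    have ht' : k⁻¹ * t * k ∈ T := (Subgroup.mem_normalizer_iff''.1 (P.le hk) t).1 ht
    calc t * (k * x * k⁻¹) = k * ((k⁻¹ * t * k) * x) * k⁻¹ := by group
      _ = k * (x * (k⁻¹ * t * k)) * k⁻¹ := by rw [commute_sylC hx.1 ht']
      _ = k * x * k⁻¹ * t := by group
  set F := {s : G | s ∈ K ∧ ∀ k ∈ P.S, k * s = s * k}
  have h1F : (1 : G) ∈ F := ⟨⟨one_mem _, one_pow _⟩, fun k _ => by simp⟩
  have hmod' : sylD T % 2 = Nat.card F % 2 := hmod
  have hF1 : 1 ≤ Nat.card F := by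
    rw [Nat.one_le_iff_ne_zero, Nat.card_ne_zero]
    exact ⟨⟨⟨1, h1F⟩⟩, inferInstance⟩
  obtain ⟨x, hxF, hx1⟩ : ∃ x ∈ F, x ≠ 1 := by
    by_contra h
    push Not at h
    have hsub : F ⊆ {1} := fun x hx => h x hx
    have := Set.ncard_le_ncard hsub
    rw [Set.ncard_singleton, ← Nat.card_coe_set_eq] at this
    omega
  obtain ⟨i, -, hi⟩ := (Nat.dvd_prime_pow Nat.prime_two).1
    (show orderOf x ∣ 2 ^ 4 from orderOf_dvd_of_pow_eq_one hxF.1.2)
  rcases i with _ | i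
  · exact absurd (orderOf_eq_one_iff.1 (by simpa using hi)) hx1
  refine ⟨x ^ 2 ^ i, ?_, pow_mem hxF.1.1 _, ?_⟩
  · rw [orderOf_pow' _ (by positivity), hi, Nat.gcd_eq_right (pow_dvd_pow 2 (Nat.le_succ i)),
      Nat.pow_div (Nat.le_succ i) (by norm_num)]
    norm_num
  have hd : orderOf (x ^ 2 ^ i) = 2 := by
    rw [orderOf_pow' _ (by positivity), hi, Nat.gcd_eq_right (pow_dvd_pow 2 (Nat.le_succ i)),
      Nat.pow_div (Nat.le_succ i) (by norm_num)]
    norm_num
  have hle : sylN T ≤ centralizer ({x ^ 2 ^ i} : Set G) := fun n hn =>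
    mem_centralizer_singleton_iff.2 (P.commutes_all hM (pow_mem hxF.1.1 _)
      (fun s hs => (show Commute s x from hxF.2 s hs).pow_right _) hn)
  have h144 := centralizer_involution_dvd hM hd
  have hle' := Nat.le_of_dvd (by norm_num) h144
  have heq := Subgroup.eq_of_le_of_card_ge hle (by rw [hN]; exact hle')
  exact ⟨by rw [← heq, hN], heq.symm⟩

/-- The conjugates of `x` in `N(T)` that centralise, invert, or do neither. -/
noncomputable def countA (T : Sylow 3 G) (x : G) : ℕ := Nat.card {h : G | h ∈ sylC T ∧ IsConj x h}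

/-- Inverting conjugates lying in the chosen 2-subgroup. -/
noncomputable def countK (x : G) : ℕ :=
  Nat.card {h : G | h ∈ P.S ∧ Inverts T h ∧ IsConj x h}

/-- The other conjugates in the normaliser. -/
noncomputable def countR (T : Sylow 3 G) (x : G) : ℕ :=
  Nat.card {h : G | h ∈ sylN T ∧ h ∉ sylC T ∧ ¬ Inverts T h ∧ IsConj x h}

theorem conjCount_eq (hM : Cfsg.IsM11 G) {x : G} (hx : orderOf x = 2) :
    conjCount (sylN T) x = countA T x + 9 * countK P x + countR T x := by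
  have : Fintype G := Fintype.ofFinite G
  have hB : Nat.card {h : G | h ∈ sylN T ∧ Inverts T h ∧ IsConj x h} = 9 * countK P x := by
    rw [countK, ← card_three_sylow hM T, ← Nat.card_prod]
    have hsq : ∀ h : G, IsConj x h → h * h = 1 := fun h hc => by
      obtain ⟨c, rfl⟩ := isConj_iff.1 hc
      rw [← sq, conj_pow, ← hx, pow_orderOf_eq_one, mul_one, mul_inv_cancel]
    symm
    refine Nat.card_eq_of_bijective (fun p => ⟨p.1.1 * p.2.1,
      (sylN T).mul_mem (le_normalizer p.1.2) (P.le p.2.2.1),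
      p.2.2.2.1.mul_sylC (le_sylC hM T p.1.2), ?_⟩) ⟨fun p q e => ?_, ?_⟩
    · refine p.2.2.2.2.trans (isConj_iff.2 ⟨p.1.1 ^ 5, ?_⟩)
      have hinv := p.2.2.2.1 _ ((T : Subgroup G).pow_mem p.1.2 5)
      have hti : (p.1.1 : G) ^ 5 * p.1.1 ^ 5 = p.1.1 := by
        rw [← pow_add, show 5 + 5 = 9 + 1 by norm_num, pow_succ, pow_nine_of_mem hM T p.1.2, one_mul]
      calc (p.1.1 : G) ^ 5 * p.2.1 * (p.1.1 ^ 5)⁻¹
          = p.1.1 ^ 5 * (p.2.1 * (p.1.1 ^ 5)⁻¹ * p.2.1⁻¹) * p.2.1 := by group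
        _ = p.1.1 * p.2.1 := by rw [← conj_inv, hinv, inv_inv, hti]
    · obtain ⟨h1, h2⟩ := P.unique hM p.1.2 q.1.2 p.2.2.1 q.2.2.1 (congrArg Subtype.val e)
      exact Prod.ext (Subtype.ext h1) (Subtype.ext h2)
    · rintro ⟨h, hN, hinv, hc⟩
      obtain ⟨t, ht, s, hs, rfl⟩ := P.decomp hM hN
      have hsinv : Inverts T s := by
        have := hinv.mul_sylC (inv_mem (le_sylC hM T ht))
        rwa [inv_mul_cancel_left] at this
      refine ⟨(⟨t, ht⟩, ⟨s, hs, hsinv, hc.trans (isConj_iff.2 ⟨((t : G) ^ 5)⁻¹, ?_⟩)⟩), rfl⟩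
      have hti : (t : G) ^ 5 * t ^ 5 = t := by
        rw [← pow_add, show 5 + 5 = 9 + 1 by norm_num, pow_succ, pow_nine_of_mem hM T ht, one_mul]
      have hh : s * t ^ 5 * s⁻¹ = (t ^ 5)⁻¹ := hsinv _ ((T : Subgroup G).pow_mem ht 5)
      calc ((t : G) ^ 5)⁻¹ * (t * s) * ((t ^ 5)⁻¹)⁻¹
          = (t ^ 5)⁻¹ * t * (s * t ^ 5 * s⁻¹) * s := by group
        _ = (t ^ 5)⁻¹ * (t ^ 5 * t ^ 5) * (t ^ 5)⁻¹ * s := by rw [hh, hti]
        _ = s := by group
  rw [countA, ← hB, countR, conjCount, ← Nat.card_sum, ← Nat.card_sum]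
  refine (Nat.card_congr (?_ : _ ≃ {h : G // h ∈ sylN T ∧ IsConj x h})).symm
  refine Equiv.ofBijective (fun h => match h with
    | Sum.inl (Sum.inl h) => ⟨h.1, centralizer_le_normalizer _ h.2.1, h.2.2⟩
    | Sum.inl (Sum.inr h) => ⟨h.1, h.2.1, h.2.2.2⟩
    | Sum.inr h => ⟨h.1, h.2.1, h.2.2.2.2⟩) ⟨?_, ?_⟩
  · rintro ((a | a) | a) ((b | b) | b) e <;>
      have e' := congrArg Subtype.val e <;> simp only at e'
    · exact congrArg _ (congrArg _ (Subtype.ext e'))
    · exact absurd (e' ▸ a.2.1) (b.2.2.1.not_mem_sylC hM)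
    · exact absurd (e' ▸ a.2.1) b.2.2.1
    · exact absurd (e' ▸ b.2.1) (a.2.2.1.not_mem_sylC hM)
    · exact congrArg _ (congrArg _ (Subtype.ext e'))
    · exact absurd (e' ▸ a.2.2.1) b.2.2.2.1
    · exact absurd (e' ▸ b.2.1) a.2.2.1
    · exact absurd (e' ▸ b.2.2.1) a.2.2.2.1
    · exact congrArg _ (Subtype.ext e')
  · rintro ⟨h, hN, hc⟩
    by_cases h1 : h ∈ sylC T
    · exact ⟨Sum.inl (Sum.inl ⟨h, h1, hc⟩), rfl⟩
    by_cases h2 : Inverts T h
    · exact ⟨Sum.inl (Sum.inr ⟨h, hN, h2, hc⟩), rfl⟩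
    · exact ⟨Sum.inr ⟨h, hN, h1, h2, hc⟩, rfl⟩

/-- The parity condition on the 55 cosets. -/
theorem parity_fifty_five (hM : Cfsg.IsM11 G) (hN : Nat.card (sylN T) = 144) {x : G}
    (hx : orderOf x = 2) :
    ∃ f, f % 4 = 3 ∧ f * 144 = Nat.card (centralizer ({x} : Set G)) * conjCount (sylN T) x := by
  have := hM.1
  have hX : Nat.card (G ⧸ sylN T) = 55 := by
    have := (sylN T).card_mul_index
    rw [hN, hM.2] at this
    change (sylN T).index = 55
    omega
  have hx2 : x ^ 2 = 1 := by rw [← hx]; exact pow_orderOf_eq_one x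
  have ⟨hd, hle⟩ := card_sub_fixCount (X := G ⧸ sylN T) (noncomm hM) hx2
  refine ⟨fixCount (G ⧸ sylN T) x, ?_, ?_⟩
  · rw [hX] at hd hle
    omega
  · rw [← hN]
    exact fix_mul_card (sylN T) x

/-- The inverting 2-elements form at most one coset. -/
theorem countK_add_le (hM : Cfsg.IsM11 G) {x y : G} (hxy : ¬ IsConj x y) :
    countK P x + countK P y ≤ sylD T := by
  rw [countK, countK, ← Nat.card_sum]
  rcases isEmpty_or_nonempty ({h : G | h ∈ P.S ∧ Inverts T h ∧ IsConj x h} ⊕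
    {h : G | h ∈ P.S ∧ Inverts T h ∧ IsConj y h}) with he | ⟨⟨s0⟩⟩
  · rw [Nat.card_of_isEmpty]
    exact Nat.zero_le _
  let val : ({h : G | h ∈ P.S ∧ Inverts T h ∧ IsConj x h} ⊕
    {h : G | h ∈ P.S ∧ Inverts T h ∧ IsConj y h}) → G := Sum.elim (·.1) (·.1)
  have hval : ∀ s, val s ∈ P.S ∧ Inverts T (val s) := by rintro (s | s) <;> exact ⟨s.2.1, s.2.2.1⟩
  refine Nat.card_le_card_of_injective (fun s => (⟨val s0 * val s,
    (hval s0).2.mul_mem_sylC (hval s).2,
    P.pow_sixteen (P.S.mul_mem (hval s0).1 (hval s).1)⟩ : {x : G | x ∈ sylC T ∧ x ^ 16 = 1})) ?_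
  intro a b e
  have e' : val a = val b := mul_left_cancel (congrArg Subtype.val e)
  rcases a with a | a <;> rcases b with b | b <;> simp only [val, Sum.elim_inl, Sum.elim_inr] at e'
  · exact congrArg _ (Subtype.ext e')
  · exact absurd (a.2.2.2.trans (e' ▸ b.2.2.2.symm)) hxy
  · exact absurd (b.2.2.2.trans (e' ▸ a.2.2.2.symm)) hxy
  · exact congrArg _ (Subtype.ext e')

theorem countR_even (hM : Cfsg.IsM11 G) (hN : Nat.card (sylN T) = 144) (x : G) (hO : ∀ t ∈ T, t ≠ 1 → 3 ≤ orbCount T t)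
    (hx : orderOf x = 2) : 2 ∣ countR T x := by
  have : Fact (Nat.Prime 2) := ⟨Nat.prime_two⟩
  obtain ⟨P, -⟩ := exists_split T hN
  have hS2 : IsPGroup 2 P.S := IsPGroup.of_card (n := 4) (by rw [P.card_S]; norm_num)
  set A := {h : G | h ∈ sylN T ∧ h ∉ sylC T ∧ ¬ Inverts T h ∧ IsConj x h}
  have hinvariant : ∀ k ∈ P.S, ∀ s ∈ A, k * s * k⁻¹ ∈ A := by
    rintro k hk s ⟨h1, h2, h3, h4⟩
    have hkN := P.le hk
    refine ⟨(sylN T).mul_mem ((sylN T).mul_mem hkN h1) ((sylN T).inv_mem hkN), fun h => h2 ?_,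
      fun h => h3 ?_, h4.trans (isConj_iff.2 ⟨k, rfl⟩)⟩
    · refine mem_centralizer_iff.2 fun t ht => ?_
      have := commute_sylC h ((Subgroup.mem_normalizer_iff.1 hkN t).1 ht)
      calc t * s = k⁻¹ * ((k * t * k⁻¹) * (k * s * k⁻¹)) * k := by group
        _ = k⁻¹ * ((k * s * k⁻¹) * (k * t * k⁻¹)) * k := by rw [← this]
        _ = s * t := by group
    · intro t ht
      have := h _ ((Subgroup.mem_normalizer_iff.1 hkN t).1 ht)
      calc s * t * s⁻¹ = k⁻¹ * (k * s * k⁻¹ * (k * t * k⁻¹) * (k * s * k⁻¹)⁻¹) * k := by group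
        _ = t⁻¹ := by rw [this]; group
  have hmod := card_modEq_conj hS2 A hinvariant
  have hempty : {s : G | s ∈ A ∧ ∀ k ∈ P.S, k * s = s * k} = ∅ := by
    refine Set.eq_empty_iff_forall_notMem.2 ?_
    rintro s ⟨⟨hsN, hsC, hsI, hsc⟩, hsS⟩
    obtain ⟨c, hc⟩ := isConj_iff.1 hsc
    have hs2 : s * s = 1 := by
      rw [← hc, ← sq, conj_pow, ← hx, pow_orderOf_eq_one, mul_one, mul_inv_cancel]
    obtain ⟨t, ht, ht1, hst⟩ := commutes_of_not_inverts hM hsN hs2 hsI
    let F : Subgroup G := (T : Subgroup G) ⊓ centralizer ({s} : Set G)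
    have hFne : F ≠ (T : Subgroup G) := fun e => hsC (mem_centralizer_iff.2 fun y hy =>
      mem_centralizer_singleton_iff.1 (e.symm ▸ hy : y ∈ F).2)
    obtain ⟨q, hq⟩ : Nat.card F ∣ 9 := (card_dvd_of_le inf_le_left).trans
      (dvd_of_eq (card_three_sylow hM T))
    have hF3 : Nat.card F ≤ 3 := by
      have hmem : Nat.card F ∈ Nat.divisors 9 := Nat.mem_divisors.2 ⟨Dvd.intro q hq.symm, by norm_num⟩
      rw [show Nat.divisors 9 = {1, 3, 9} by decide] at hmem
      simp only [Finset.mem_insert, Finset.mem_singleton] at hmem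
      rcases hmem with h | h | h
      · omega
      · omega
      · exact absurd (Subgroup.eq_of_le_of_card_ge inf_le_left
          (by rw [h, card_three_sylow hM T])) hFne
    have hsub : insert (1 : G) {t' : G | t' ∈ T ∧ IsConj t t'} ⊆ (F : Set G) := by
      rintro y (rfl | ⟨hyT, hy⟩)
      · exact F.one_mem
      refine ⟨hyT, mem_centralizer_singleton_iff.2 ?_⟩
      obtain ⟨n, hn, rfl⟩ := conj_in_normalizer hM T ht hyT hy
      obtain ⟨a, ha, k, hk, rfl⟩ := P.decomp hM hn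
      have hkt : k * t * k⁻¹ ∈ T := (Subgroup.mem_normalizer_iff.1 (P.le hk) t).1 ht
      have e : a * k * t * (a * k)⁻¹ = k * t * k⁻¹ := by
        calc a * k * t * (a * k)⁻¹ = a * (k * t * k⁻¹) * a⁻¹ := by group
          _ = k * t * k⁻¹ := by rw [comm_three hM T ha hkt, mul_inv_cancel_right]
      rw [e]
      have hks : Commute s k := (hsS k hk).symm
      exact ((hks.mul_right hst).mul_right hks.inv_right).eq.symm
    have h1 : (1 : G) ∉ {t' : G | t' ∈ T ∧ IsConj t t'} :=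
      fun h => ht1 (isConj_one_left.1 h.2)
    have := Set.ncard_le_ncard hsub
    rw [Set.ncard_insert_of_notMem h1, ← Nat.card_coe_set_eq, ← Nat.card_coe_set_eq] at this
    have h3' := hO t ht ht1
    have hF : Nat.card (F : Set G) = Nat.card F := rfl
    have hO' : Nat.card {t' : G | t' ∈ T ∧ IsConj t t'} = orbCount T t := rfl
    omega
  rw [hempty] at hmod
  have h0 : Nat.card (∅ : Set G) = 0 := by simp
  rw [h0] at hmod
  exact Nat.modEq_zero_iff_dvd.1 hmod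

end CfsgLib.Mathieu.Order7920
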